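import Mathlib

/-!
# Affine spaces are smooth
-/

set_option autoImplicit false
universe u
open CategoryTheory Limits AlgebraicGeometry MvPolynomial

namespace Groth.Agent.H06Unram

set_option backward.isDefEq.respectTransparency.types false in
theorem smooth_affineSpace_over (n : Type u) [Finite n] (S : Scheme.{u}) : Smooth (AffineSpace n S ↘ S) :=
  MorphismProperty.pullback_fst _ _ <| by
  have := isIso_of_isTerminal specULiftZIsTerminal.{u} terminalIsTerminal (terminal.from _)
  rw [← terminal.comp_from (Spec.map (CommRingCat.ofHom C)),
    MorphismProperty.cancel_right_of_respectsIso (P := @Smooth),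
    HasRingHomProperty.Spec_iff (P := @Smooth), RingHom.Smooth]
  convert! (⟨inferInstance, inferInstance⟩ : Algebra.Smooth (ULift.{u} ℤ) (MvPolynomial n (ULift.{u} ℤ)))
  exact Algebra.algebra_ext _ _ fun _ ↦ rfl

end Groth.Agent.H06Unram
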