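import Mathlib

/-! Smooth and quasi-finite is etale. -/

universe u

set_option linter.style.haveILetI false

open CategoryTheory AlgebraicGeometry TensorProduct

namespace Groth.Agent.H06Unram

theorem relativeDimension_eq_zero_of_finite {k C : Type u} [Field k] [CommRing C] [Algebra k C]
    [Nontrivial C] [Module.Finite k C] (n : ℕ)
    [Algebra.IsStandardSmoothOfRelativeDimension n k C] : n = 0 := by
  obtain ⟨g, hg⟩ := Algebra.IsStandardSmoothOfRelativeDimension.exists_etale_mvPolynomial n k C
  letI := g.toRingHom.toAlgebra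
  haveI : Algebra.Etale (MvPolynomial (Fin n) k) C := hg
  haveI : Module.Flat (MvPolynomial (Fin n) k) C := inferInstance
  have hinj : Function.Injective g.toLinearMap := fun a b hab => by
    by_contra hne
    have h0 : (a - b) • (1 : C) = 0 := by
      rw [Algebra.smul_def, mul_one]
      exact (map_sub g a b).trans (sub_eq_zero.mpr hab)
    exact one_ne_zero ((smul_eq_zero.mp h0).resolve_left (sub_ne_zero.mpr hne))
  haveI : Module.Finite k (MvPolynomial (Fin n) k) := Module.Finite.of_injective g.toLinearMap hinj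
  by_contra hn
  haveI : Nonempty (Fin n) := ⟨⟨0, Nat.pos_of_ne_zero hn⟩⟩
  haveI : Finite (Fin n →₀ ℕ) := Module.Finite.finite_basis (MvPolynomial.basisMonomials (Fin n) k)
  exact not_finite (Fin n →₀ ℕ)

theorem etale_of_isStandardSmooth_of_quasiFinite (R S : Type u) [CommRing R] [CommRing S]
    [Algebra R S] [Algebra.IsStandardSmooth R S] [Algebra.QuasiFinite R S] :
    Algebra.Etale R S := by
  rcases subsingleton_or_nontrivial S with h | h
  · infer_instance
  · obtain ⟨ι, σ, _, _, ⟨P⟩⟩ := Algebra.IsStandardSmooth.out (R := R) (S := S)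
    haveI : Algebra.IsStandardSmoothOfRelativeDimension P.dimension R S :=
      P.isStandardSmoothOfRelativeDimension rfl
    obtain ⟨q, hq⟩ := Ideal.exists_maximal S
    let p : Ideal R := q.under R
    haveI : Nontrivial (p.Fiber S) :=
      (PrimeSpectrum.nontrivial_iff_mem_rangeComap (R := R) (S := S) ⟨p, inferInstance⟩).mpr
        ⟨⟨q, hq.isPrime⟩, PrimeSpectrum.ext rfl⟩
    haveI : Algebra.IsStandardSmoothOfRelativeDimension P.dimension p.ResidueField (p.Fiber S) :=
      inferInstance
    haveI : Module.Finite p.ResidueField (p.Fiber S) := inferInstance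
    have h0 : P.dimension = 0 :=
      relativeDimension_eq_zero_of_finite (k := p.ResidueField) (C := p.Fiber S) P.dimension
    haveI : Algebra.IsStandardSmoothOfRelativeDimension 0 R S :=
      P.isStandardSmoothOfRelativeDimension h0
    infer_instance

theorem etale_of_smooth_of_quasiFinite (R S : Type u) [CommRing R] [CommRing S]
    [Algebra R S] [Algebra.Smooth R S] [Algebra.QuasiFinite R S] : Algebra.Etale R S := by
  rw [← Algebra.etaleLocus_eq_univ_iff_etale]
  refine Set.eq_univ_iff_forall.mpr fun q => ?_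
  obtain ⟨s, hs, hss⟩ := (RingHom.smooth_algebraMap.mpr ‹Algebra.Smooth R S›).locally_isStandardSmooth
  obtain ⟨g, hg, hgq⟩ : ∃ g ∈ s, g ∉ q.asIdeal := by
    by_contra! hall
    exact q.isPrime.ne_top (top_le_iff.mp (hs ▸ Ideal.span_le.mpr hall))
  have h1 := hss g hg
  rw [← IsScalarTower.algebraMap_eq, RingHom.isStandardSmooth_algebraMap] at h1
  haveI := h1
  haveI := etale_of_isStandardSmooth_of_quasiFinite R (Localization.Away g)
  exact Algebra.basicOpen_subset_etaleLocus_iff_etale.mpr this hgq

theorem etale_iff_smooth_and_locallyQuasiFinite {X Y : Scheme.{u}} (f : X ⟶ Y) :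
    Etale f ↔ Smooth f ∧ LocallyQuasiFinite f := by
  refine ⟨fun _ => ⟨inferInstance, ?_⟩, fun ⟨_, _⟩ => ?_⟩
  · rw [HasRingHomProperty.iff_appLE (P := @LocallyQuasiFinite)]
    intro U V e
    have h1 := HasRingHomProperty.appLE @Etale f inferInstance U V e
    algebraize [(f.appLE U.1 V.1 e).hom]
    haveI : Algebra.Etale _ _ := h1
    exact (inferInstance : Algebra.QuasiFinite Γ(Y, U.1) Γ(X, V.1))
  rw [HasRingHomProperty.iff_appLE (P := @Etale)]
  intro U V e
  have h1 := HasRingHomProperty.appLE @Smooth f inferInstance U V e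
  have h2 := HasRingHomProperty.appLE @LocallyQuasiFinite f inferInstance U V e
  algebraize [(f.appLE U.1 V.1 e).hom]
  haveI : Algebra.Smooth _ _ := h1
  haveI : Algebra.QuasiFinite _ _ := h2
  exact etale_of_smooth_of_quasiFinite Γ(Y, U.1) Γ(X, V.1)

end Groth.Agent.H06Unram
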