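import Mathlib

/-! Topological invariance: lifting along surjective closed immersions for etale morphisms. -/

universe u

set_option linter.style.haveILetI false

open CategoryTheory Limits MorphismProperty AlgebraicGeometry

namespace Groth.Agent.H06Unram

attribute [local simp] pullback.lift_fst pullback.lift_snd pullback.lift_fst_assoc pullback.lift_snd_assoc

theorem hom_ext_of_surjective {X S T T₀ : Scheme.{u}} (p : X ⟶ S) [LocallyOfFiniteType p]
    [FormallyUnramified p] (i : T₀ ⟶ T) [Surjective i] (u v : T ⟶ X)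
    (hS : u ≫ p = v ≫ p) (hi : i ≫ u = i ≫ v) : u = v := by
  let w : T ⟶ pullback p p := pullback.lift u v hS
  let e := pullback.fst w (pullback.diagonal p)
  have hl : i ≫ w = (i ≫ u) ≫ pullback.diagonal p := by
    apply pullback.hom_ext <;> simp [w, hi]
  haveI : IsOpenImmersion e := inferInstance
  haveI : Surjective e := ⟨fun t => by
    obtain ⟨t₀, rfl⟩ := i.surjective t
    exact ⟨(pullback.lift i (i ≫ u) hl) t₀, by rw [← Scheme.Hom.comp_apply, pullback.lift_fst]⟩⟩
  haveI : IsIso e := (isIso_iff_isOpenImmersion_and_surjective e).mpr ⟨inferInstance, inferInstance⟩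
  have he := pullback.condition (f := w) (g := pullback.diagonal p)
  have h1 : e ≫ u = pullback.snd w (pullback.diagonal p) := by
    simpa [w, e] using congr($he ≫ pullback.fst p p)
  have h2 : e ≫ v = pullback.snd w (pullback.diagonal p) := by
    simpa [w, e] using congr($he ≫ pullback.snd p p)
  rw [← cancel_epi e, h1, h2]

theorem isIso_of_etale_of_isIso_baseChange {W T T₀ : Scheme.{u}} (q : W ⟶ T) [Etale q]
    (i : T₀ ⟶ T) [IsClosedImmersion i] [Surjective i] [IsIso (pullback.snd q i)] : IsIso q := by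
  haveI : Surjective q := ⟨fun t => by
    obtain ⟨t₀, rfl⟩ := i.surjective t
    obtain ⟨z, rfl⟩ := (pullback.snd q i).surjective t₀
    exact ⟨pullback.fst q i z, by rw [← Scheme.Hom.comp_apply, pullback.condition, Scheme.Hom.comp_apply]⟩⟩
  haveI : Surjective (pullback.diagonal q) := by
    refine ⟨fun z => ?_⟩
    let e₁ : pullback (pullback.fst q q ≫ q) i ⟶ pullback q q := pullback.fst _ _
    obtain ⟨z', hz'⟩ := (inferInstance : Surjective e₁).surj z
    have c1 : (e₁ ≫ pullback.fst q q) ≫ q = pullback.snd (pullback.fst q q ≫ q) i ≫ i :=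
      (Category.assoc _ _ _).trans pullback.condition
    have c2 : (e₁ ≫ pullback.snd q q) ≫ q = pullback.snd (pullback.fst q q ≫ q) i ≫ i := by
      rw [Category.assoc, ← pullback.condition (f := q) (g := q), ← Category.assoc, c1]
    have h1 : pullback.lift (e₁ ≫ pullback.fst q q) (pullback.snd _ i) c1 =
        pullback.lift (e₁ ≫ pullback.snd q q) (pullback.snd _ i) c2 := by
      rw [← cancel_mono (pullback.snd q i)]
      simp
    have h2 : e₁ ≫ pullback.fst q q = e₁ ≫ pullback.snd q q := by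
      simpa using congr($h1 ≫ pullback.fst q i)
    refine ⟨(e₁ ≫ pullback.fst q q) z', ?_⟩
    rw [← Scheme.Hom.comp_apply, ← hz']
    have h3 : (e₁ ≫ pullback.fst q q) ≫ pullback.diagonal q = e₁ := by
      apply pullback.hom_ext
      · simp
      · simp [h2]
    rw [h3]
  haveI : IsIso (pullback.diagonal q) :=
    (isIso_iff_isOpenImmersion_and_surjective _).mpr ⟨inferInstance, inferInstance⟩
  haveI : Mono q := (pullback.isIso_diagonal_iff q).mp inferInstance
  haveI := IsOpenImmersion.of_flat_of_mono q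
  exact (isIso_iff_isOpenImmersion_and_surjective q).mpr ⟨inferInstance, inferInstance⟩

/-- Sections of an etale morphism over a surjective closed subscheme extend uniquely. -/
theorem exists_section {P T T₀ : Scheme.{u}} (q : P ⟶ T) [Etale q] (i : T₀ ⟶ T)
    [IsClosedImmersion i] [Surjective i] (σ₀ : T₀ ⟶ P) (h : σ₀ ≫ q = i) :
    ∃ σ : T ⟶ P, σ ≫ q = 𝟙 T ∧ i ≫ σ = σ₀ := by
  let σ' : T₀ ⟶ pullback q i := pullback.lift σ₀ (𝟙 _) (by simp [h])
  haveI : Etale (pullback.snd q i) := inferInstance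
  haveI : Etale (σ' ≫ pullback.snd q i) := by simp [σ']; infer_instance
  haveI : Etale σ' := Etale.of_comp σ' (pullback.snd q i)
  haveI : Mono σ' := by
    haveI : Mono (σ' ≫ pullback.snd q i) := by simp [σ']; infer_instance
    exact mono_of_mono σ' (pullback.snd q i)
  haveI : IsOpenImmersion σ' := IsOpenImmersion.of_flat_of_mono σ'
  haveI : Surjective (pullback.fst q i) := inferInstance
  have hemb := (pullback.fst q i).isClosedEmbedding
  let W : P.Opens := ⟨pullback.fst q i '' Set.range σ', by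
    rw [← isClosed_compl_iff]
    have : (pullback.fst q i '' Set.range σ')ᶜ = pullback.fst q i '' (Set.range σ')ᶜ :=
      (Set.image_compl_eq ⟨hemb.injective, (pullback.fst q i).surjective⟩).symm
    rw [this]
    exact hemb.isClosedMap _ σ'.isOpenEmbedding.isOpen_range.isClosed_compl⟩
  haveI : Etale (W.ι ≫ q) := inferInstance
  have hσW : Set.range σ₀ ⊆ Set.range W.ι := by
    rw [Scheme.Opens.range_ι]
    rintro _ ⟨t, rfl⟩
    exact ⟨σ' t, ⟨t, rfl⟩, by rw [← Scheme.Hom.comp_apply, pullback.lift_fst]⟩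
  let τ : T₀ ⟶ W := IsOpenImmersion.lift W.ι σ₀ hσW
  have hτ : τ ≫ W.ι = σ₀ := IsOpenImmersion.lift_fac _ _ _
  let τ' : T₀ ⟶ pullback (W.ι ≫ q) i := pullback.lift τ (𝟙 _) (by simp [reassoc_of% hτ, h])
  haveI : IsIso (pullback.snd (W.ι ≫ q) i) := by
    let j : pullback (W.ι ≫ q) i ⟶ pullback q i :=
      pullback.map _ _ _ _ W.ι (𝟙 _) (𝟙 _) (by simp) (by simp)
    have hj : Set.range j ⊆ Set.range σ' := by
      rintro _ ⟨z, rfl⟩
      have h1 : pullback.fst q i (j z) = W.ι (pullback.fst (W.ι ≫ q) i z) := by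
        rw [← Scheme.Hom.comp_apply, ← Scheme.Hom.comp_apply]
        simp [j, pullback.map]
      obtain ⟨w, hw, hwe⟩ : pullback.fst q i (j z) ∈ (W : Set P) := by
        rw [h1]; exact (pullback.fst (W.ι ≫ q) i z).2
      rwa [← hemb.injective hwe]
    let k := IsOpenImmersion.lift σ' j hj
    have hk : k ≫ σ' = j := IsOpenImmersion.lift_fac _ _ _
    have hk' : k = pullback.snd (W.ι ≫ q) i := by
      simpa [σ', j, pullback.map] using congr($hk ≫ pullback.snd q i)
    refine ⟨τ', ?_, by simp [τ']⟩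
    apply pullback.hom_ext
    · rw [← cancel_mono W.ι]
      have := congr($hk ≫ pullback.fst q i)
      simp [σ', j, hk', pullback.map] at this
      simp [τ', hτ, this]
    · simp [τ']
  haveI : IsIso (W.ι ≫ q) := isIso_of_etale_of_isIso_baseChange (W.ι ≫ q) i
  refine ⟨inv (W.ι ≫ q) ≫ W.ι, by simp, ?_⟩
  have : i ≫ inv (W.ι ≫ q) = τ := by
    rw [IsIso.comp_inv_eq, ← Category.assoc, hτ, h]
  rw [← Category.assoc, this, hτ]

theorem existsUnique_lift {X S T T₀ : Scheme.{u}} (p : X ⟶ S) [Etale p]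
    (g : T ⟶ S) (i : T₀ ⟶ T) [IsClosedImmersion i] [Surjective i]
    (f₀ : T₀ ⟶ X) (h₀ : f₀ ≫ p = i ≫ g) : ∃! f : T ⟶ X, f ≫ p = g ∧ i ≫ f = f₀ := by
  haveI : Etale (pullback.snd p g) := inferInstance
  obtain ⟨σ, hσ, hσi⟩ := exists_section (pullback.snd p g) i (pullback.lift f₀ i h₀) (by simp)
  refine ⟨σ ≫ pullback.fst p g, ⟨?_, ?_⟩, fun f hf => ?_⟩
  · rw [Category.assoc, pullback.condition, reassoc_of% hσ]
  · simp [reassoc_of% hσi]
  · refine hom_ext_of_surjective p i _ _ ?_ ?_
    · rw [hf.1, Category.assoc, pullback.condition, reassoc_of% hσ]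
    · rw [hf.2, reassoc_of% hσi, pullback.lift_fst]

end Groth.Agent.H06Unram
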