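import Groth.Agent.H06Unram.OmegaLocFree
import Groth.Agent.H17.LocusBC
import Groth.Agent.H9CI.Nhd
import Groth.Agent.H8Props.FieldDimSmooth
import Groth.Agent.H8Props.FibreDimSemicont
import Groth.Agent.S2063
import Groth.Agent.H12AlgSp.RelDim

/-!
# Smoothness and the rank of the module of differentials
-/

set_option autoImplicit false
set_option linter.style.haveILetI false
set_option backward.isDefEq.respectTransparency false
universe u

open CategoryTheory CategoryTheory.Limits AlgebraicGeometry TopologicalSpace Opposite TensorProduct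

namespace Groth.Agent.H06Unram.SmoothRank

/-- Fibre criterion of smoothness with free differentials on an affine chart. -/
theorem mem_smoothLocus_of_basis {R A : Type u} [CommRing R] [CommRing A] [Algebra R A]
    [LocallyOfFinitePresentation (Spec.map (CommRingCat.ofHom (algebraMap R A)))]
    (q : Spec (CommRingCat.of A)) {n : ℕ} (b : Module.Basis (Fin n) A Ω[A⁄R])
    (hflat : ((Spec.map (CommRingCat.ofHom (algebraMap R A))).stalkMap q).hom.Flat)
    (hdim : FlatMor.fibreDimAt (Spec.map (CommRingCat.ofHom (algebraMap R A))) q = (n : WithBot ℕ∞)) :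
    q ∈ (Spec.map (CommRingCat.ofHom (algebraMap R A))).smoothLocus := by
  set φ := Spec.map (CommRingCat.ofHom (algebraMap R A)) with hφ
  haveI : Algebra.FinitePresentation R A :=
    RingHom.finitePresentation_algebraMap.mp ((LocallyOfFinitePresentation.SpecMap_iff _).mp ‹_›)
  haveI : LocallyOfFinitePresentation (φ.fiberToSpecResidueField (φ q)) :=
    MorphismProperty.of_isPullback (P := @LocallyOfFinitePresentation)
      (IsPullback.of_hasPullback φ ((Spec (CommRingCat.of R)).fromSpecResidueField (φ q))) ‹_›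
  refine H17.LocusBC.mem_smoothLocus_of_flat_of_fiber φ q hflat ?_
  let p : PrimeSpectrum R := φ q
  let e := Spec.fiberToSpecResidueFieldIso R A p
  let Q : PrimeSpectrum (p.asIdeal.Fiber A) := e.hom.left (φ.asFiber q)
  letI := Algebra.TensorProduct.rightAlgebra (R := R) (A := p.asIdeal.ResidueField) (B := A)
  haveI : Algebra.IsPushout R p.asIdeal.ResidueField A (p.asIdeal.Fiber A) := TensorProduct.isPushout
  let bF : Module.Basis (Fin n) (p.asIdeal.Fiber A) Ω[p.asIdeal.Fiber A⁄p.asIdeal.ResidueField] :=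
    (b.baseChange (p.asIdeal.Fiber A)).map
      (KaehlerDifferential.tensorKaehlerEquiv R p.asIdeal.ResidueField A (p.asIdeal.Fiber A))
  have hrank : Module.finrank Q.asIdeal.ResidueField
      (Q.asIdeal.ResidueField ⊗[p.asIdeal.Fiber A] Ω[p.asIdeal.Fiber A⁄p.asIdeal.ResidueField]) = n := by
    rw [Module.finrank_eq_card_basis (bF.baseChange Q.asIdeal.ResidueField), Fintype.card_fin]
  have hQdim : FlatMor.localDim (PrimeSpectrum (p.asIdeal.Fiber A)) Q = (n : WithBot ℕ∞) := by
    rw [← hdim]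
    exact (H9CI.localDim_homeomorph (Scheme.homeoOfIso (Arrow.leftFunc.mapIso e)) (φ.asFiber q)).symm
  have hs : Algebra.IsSmoothAt p.asIdeal.ResidueField Q.asIdeal :=
    (S2063.result Q.asIdeal).mpr ((le_of_eq (by rw [hrank]; rfl)).trans hQdim.ge)
  have h1 := H17.LocusBC.formallySmooth_stalkMap_comp_iff e.inv.left _ e.inv.right _ e.inv.w.symm Q
  have h2 : e.inv.left Q = φ.asFiber q := by
    show (e.hom.left ≫ e.inv.left) (φ.asFiber q) = φ.asFiber q
    rw [← Arrow.comp_left, e.hom_inv_id]; rfl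
  rw [h2] at h1
  exact h1.mp ((H17.LocusBC.formallySmooth_stalkMap_Spec_iff Q).mpr hs)

/-- The fibre dimension of a smooth algebra with free differentials is their rank. -/
theorem fibreDimAt_of_basis {R A : Type u} [CommRing R] [CommRing A] [Algebra R A] [Algebra.Smooth R A]
    (q : PrimeSpectrum A) {n : ℕ} (b : Module.Basis (Fin n) A Ω[A⁄R]) :
    FlatMor.fibreDimAt (Spec.map (CommRingCat.ofHom (algebraMap R A))) q = (n : WithBot ℕ∞) := by
  haveI : Algebra.IsSmoothAt R q.asIdeal := inferInstance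
  obtain ⟨g, hg, hst⟩ := Algebra.IsSmoothAt.exists_notMem_isStandardSmooth R q.asIdeal
  let ψ : Spec (CommRingCat.of (Localization.Away g)) ⟶ Spec (CommRingCat.of A) :=
    Spec.map (CommRingCat.ofHom (algebraMap A (Localization.Away g)))
  haveI : IsOpenImmersion ψ := IsOpenImmersion.of_isLocalization g
  haveI : LocallyOfFiniteType (Spec.map (CommRingCat.ofHom (algebraMap R A))) :=
    (HasRingHomProperty.Spec_iff (P := @LocallyOfFiniteType)).mpr
      (RingHom.finiteType_algebraMap.mpr inferInstance)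
  obtain ⟨q', hq'⟩ : q ∈ Set.range (PrimeSpectrum.comap (algebraMap A (Localization.Away g))) := by
    rw [PrimeSpectrum.localization_away_comap_range (Localization.Away g) g]; exact hg
  haveI : Nontrivial (Localization.Away g) := PrimeSpectrum.nontrivial q'
  haveI : Algebra.FormallyEtale A (Localization.Away g) := Algebra.FormallyEtale.of_isLocalization (Submonoid.powers g)
  let bg : Module.Basis (Fin n) (Localization.Away g) Ω[Localization.Away g⁄R] :=
    (b.baseChange (Localization.Away g)).map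
      (KaehlerDifferential.tensorKaehlerEquivOfFormallyEtale R A (Localization.Away g))
  haveI : Algebra.IsStandardSmoothOfRelativeDimension n R (Localization.Away g) :=
    (Algebra.IsStandardSmoothOfRelativeDimension.iff_of_isStandardSmooth n).mpr
      (by rw [rank_eq_card_basis bg, Fintype.card_fin])
  haveI : SmoothOfRelativeDimension n (Spec.map (CommRingCat.ofHom (algebraMap R (Localization.Away g)))) := by
    refine (HasRingHomProperty.Spec_iff (P := @SmoothOfRelativeDimension n)).mpr ?_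
    exact RingHom.locally_of RingHom.isStandardSmoothOfRelativeDimension_respectsIso _
      ((RingHom.isStandardSmoothOfRelativeDimension_algebraMap n).mpr ‹_›)
  have hψ : ψ ≫ Spec.map (CommRingCat.ofHom (algebraMap R A)) =
      Spec.map (CommRingCat.ofHom (algebraMap R (Localization.Away g))) := by
    rw [← Spec.map_comp, ← CommRingCat.ofHom_comp, ← IsScalarTower.algebraMap_eq]
  obtain rfl : ψ q' = q := hq'
  have e1 := H8Props.FieldDim.fibreDimAt_openImmersion_comp ψ (Spec.map (CommRingCat.ofHom (algebraMap R A))) q'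
  rw [← e1]
  rw [hψ]
  have key : ∀ (X Y : Scheme.{u}) (h : X ⟶ Y) (_ : SmoothOfRelativeDimension n h) (z : X), FlatMor.fibreDimAt h z = (n : WithBot ℕ∞) :=
    fun X Y h _ z => H8Props.FieldDim.fibreDimAt_of_smoothOfRelativeDimension h n z
  exact key _ _ _ ‹_› _

variable {X Y : Scheme.{u}}

/-- A free chart of the differentials gives a basis of the Kähler differentials of affine charts. -/
theorem exists_basis {f : X ⟶ Y} {Ω : X.Modules} {d : OmegaSh.Der f Ω} (hd : OmegaSh.IsUniversal d)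
    {U : X.Opens} {n : ℕ} (e : Ω.restrict U.ι ≅ FlatMod.freeMod (↑U) n) {W : X.Opens} (hW : IsAffineOpen W)
    (hWU : W ≤ U) {V : Y.Opens} (hV : IsAffineOpen V) (h : (⊤ : W.toScheme.Opens) ≤ (W.ι ≫ f) ⁻¹ᵁ V) :
    Nonempty (Module.Basis (Fin n) Γ(W.toScheme, ⊤) (CommRingCat.KaehlerDifferential ((W.ι ≫ f).appLE V ⊤ h))) := by
  haveI : IsAffine W := hW
  obtain ⟨b⟩ := H8Props.FinLocFree.exists_basis_of_chart Ω e hWU
  obtain ⟨e'⟩ := H29Omega.nonempty_restrict_iso_sheaf hd W.ι
  let σ : Γ(W.toScheme, ⊤) →+* Γ(X, W) :=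
    (X.presheaf.map (eqToHom W.ι_image_top.symm).op).hom.comp (W.ι.appIso ⊤).inv.hom
  have hσ : Function.Bijective σ :=
    (ConcreteCategory.bijective_of_isIso (X.presheaf.map (eqToHom W.ι_image_top.symm).op)).comp
      (ConcreteCategory.bijective_of_isIso (W.ι.appIso ⊤).inv)
  let φ : Γ(Omega.sheaf (W.ι ≫ f), ⊤) →+ Γ(Ω, W) :=
    (Ω.presheaf.map (eqToHom W.ι_image_top.symm).op).hom.comp
      ((Ω.restrictAppIso W.ι ⊤).hom.hom.comp (e'.inv.app ⊤).hom)
  have hφ : Function.Bijective φ := by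
    haveI : IsIso (e'.inv.app ⊤) := inferInstance
    exact (ConcreteCategory.bijective_of_isIso (Ω.presheaf.map (eqToHom W.ι_image_top.symm).op)).comp
      ((ConcreteCategory.bijective_of_isIso (Ω.restrictAppIso W.ι ⊤).hom).comp
        (ConcreteCategory.bijective_of_isIso (e'.inv.app ⊤)))
  have hlin : ∀ (a : Γ(W.toScheme, ⊤)) (m : Γ(Omega.sheaf (W.ι ≫ f), ⊤)), φ (a • m) = σ a • φ m := by
    intro a m
    show Ω.presheaf.map _ ((Ω.restrictAppIso W.ι ⊤).hom (e'.inv.app ⊤ (a • m))) = _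
    rw [Scheme.Modules.Hom.app_smul]
    erw [Scheme.Modules.smul_restrictAppIso_hom_apply]
    exact Scheme.Modules.map_smul Ω _ _ _
  let τ := RingEquiv.ofBijective σ hσ
  let L : Γ(Omega.sheaf (W.ι ≫ f), ⊤) →ₗ[Γ(W.toScheme, ⊤)] (Fin n → Γ(W.toScheme, ⊤)) :=
    { toFun := fun m i => τ.symm (b.equivFun (φ m) i)
      map_add' := fun m m' => by
        funext i
        rw [map_add, map_add, Pi.add_apply, map_add]
        rfl
      map_smul' := fun a m => by
        funext i
        rw [hlin, map_smul, Pi.smul_apply, smul_eq_mul, map_mul, RingHom.id_apply, Pi.smul_apply, smul_eq_mul]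
        congr 1
        exact τ.symm_apply_apply a }
  have hL : Function.Bijective L := by
    refine ⟨fun m m' hm => hφ.1 (b.equivFun.injective (funext fun i => τ.symm.injective (congrFun hm i))),
      fun c => ?_⟩
    obtain ⟨m, hm⟩ := hφ.2 (b.equivFun.symm fun i => τ (c i))
    exact ⟨m, funext fun i => by
      show τ.symm (b.equivFun (φ m) i) = c i
      rw [hm, LinearEquiv.apply_symm_apply, RingEquiv.symm_apply_apply]⟩
  have := H17.OmegaLocal.isIso_toSect (W.ι ≫ f) (isAffineOpen_top W.toScheme) hV h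
  exact ⟨(Module.Basis.ofEquivFun (LinearEquiv.ofBijective L hL)).map
    (asIso (OmAff.toSect (W.ι ≫ f) V ⊤ h)).toLinearEquiv.symm⟩

/-- An affine chart around a point. -/
theorem exists_chart (f : X ⟶ Y) (U : X.Opens) {x : X} (hx : x ∈ U) :
    ∃ (W : X.Opens) (V : Y.Opens) (_ : IsAffineOpen W) (_ : IsAffineOpen V),
      x ∈ W ∧ W ≤ U ∧ W ≤ f ⁻¹ᵁ V := by
  obtain ⟨_, ⟨V, hV, rfl⟩, hxV, -⟩ :=
    Y.isBasis_affineOpens.exists_subset_of_mem_open (Set.mem_univ (f x)) isOpen_univ
  obtain ⟨_, ⟨W, hW, rfl⟩, hxW, hle⟩ :=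
    X.isBasis_affineOpens.exists_subset_of_mem_open (show x ∈ (U : Set X) ∩ (f ⁻¹ᵁ V : Set X) from ⟨hx, hxV⟩)
      (U.2.inter (f ⁻¹ᵁ V).2)
  exact ⟨W, V, hW, hV, hxW, fun z hz => (hle hz).1, fun z hz => (hle hz).2⟩

/-- Flat with free differentials of rank the fibre dimension implies smooth. -/
theorem mem_smoothLocus_of_free (f : X ⟶ Y) [LocallyOfFinitePresentation f] {Ω : X.Modules}
    {d : OmegaSh.Der f Ω} (hd : OmegaSh.IsUniversal d) {U : X.Opens} {n : ℕ}
    (e : Ω.restrict U.ι ≅ FlatMod.freeMod (↑U) n) {x : X} (hxU : x ∈ U) (hflat : (f.stalkMap x).hom.Flat)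
    (hdim : FlatMor.fibreDimAt f x = (n : WithBot ℕ∞)) : x ∈ f.smoothLocus := by
  obtain ⟨W, V, hW, hV, hxW, hWU, hWV⟩ := exists_chart f U hxU
  haveI : IsAffine W := hW
  have h : (⊤ : W.toScheme.Opens) ≤ (W.ι ≫ f) ⁻¹ᵁ V := fun y _ => hWV y.2
  obtain ⟨b⟩ := exists_basis hd e hW hWU hV h
  letI := ((W.ι ≫ f).appLE V ⊤ h).hom.toAlgebra
  let φ := Spec.map (CommRingCat.ofHom (algebraMap Γ(Y, V) Γ(W.toScheme, ⊤)))
  let a := (isAffineOpen_top W.toScheme).fromSpec
  have ea : φ ≫ hV.fromSpec = a ≫ W.ι ≫ f :=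
    IsAffineOpen.SpecMap_appLE_fromSpec (W.ι ≫ f) hV (isAffineOpen_top W.toScheme) h
  rw [← Category.assoc] at ea
  haveI : LocallyOfFinitePresentation φ := by
    rw [LocallyOfFinitePresentation.SpecMap_iff]
    exact Scheme.Hom.finitePresentation_appLE (W.ι ≫ f) hV (isAffineOpen_top W.toScheme) h
  let z : W.toScheme := ⟨x, hxW⟩
  let q := (isAffineOpen_top W.toScheme).primeIdealOf ⟨z, trivial⟩
  have hq : (a ≫ W.ι) q = x := by
    show W.ι (a q) = x
    rw [show a q = z from (isAffineOpen_top W.toScheme).fromSpec_primeIdealOf ⟨z, trivial⟩]; rfl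
  have h1 : (φ.stalkMap q).hom.Flat := by
    rw [H17.LocusBC.flat_stalkMap_comp_iff (a ≫ W.ι) f hV.fromSpec φ ea, hq]; exact hflat
  have h2 : FlatMor.fibreDimAt φ q = (n : WithBot ℕ∞) := by
    rw [← H8Props.FieldDim.fibreDimAt_comp_openImmersion φ hV.fromSpec q, ea,
      H8Props.FieldDim.fibreDimAt_openImmersion_comp (a ≫ W.ι) f q, hq, hdim]
  have := (H17.LocusBC.formallySmooth_stalkMap_comp_iff (a ≫ W.ι) f hV.fromSpec φ ea q).mp
    (mem_smoothLocus_of_basis (R := Γ(Y, V)) (A := Γ(W.toScheme, ⊤)) q b h1 h2)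
  rw [hq] at this
  exact this

/-- The rank of the differentials of a smooth morphism is the fibre dimension. -/
theorem rank_eq_fibreDimAt (f : X ⟶ Y) [Smooth f] {Ω : X.Modules}
    {d : OmegaSh.Der f Ω} (hd : OmegaSh.IsUniversal d) {U : X.Opens} {n : ℕ}
    (e : Ω.restrict U.ι ≅ FlatMod.freeMod (↑U) n) {x : X} (hxU : x ∈ U) :
    FlatMor.fibreDimAt f x = (n : WithBot ℕ∞) := by
  obtain ⟨W, V, hW, hV, hxW, hWU, hWV⟩ := exists_chart f U hxU
  haveI : IsAffine W := hW
  have h : (⊤ : W.toScheme.Opens) ≤ (W.ι ≫ f) ⁻¹ᵁ V := fun y _ => hWV y.2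
  obtain ⟨b⟩ := exists_basis hd e hW hWU hV h
  letI := ((W.ι ≫ f).appLE V ⊤ h).hom.toAlgebra
  haveI : LocallyOfFiniteType (Spec.map (CommRingCat.ofHom (algebraMap Γ(Y, V) Γ(W.toScheme, ⊤)))) :=
    (HasRingHomProperty.Spec_iff (P := @LocallyOfFiniteType)).mpr
      (Scheme.Hom.finiteType_appLE (W.ι ≫ f) hV (isAffineOpen_top W.toScheme) h)
  haveI : Algebra.Smooth Γ(Y, V) Γ(W.toScheme, ⊤) :=
    (W.ι ≫ f).smooth_appLE hV (isAffineOpen_top W.toScheme) h
  let φ := Spec.map (CommRingCat.ofHom (algebraMap Γ(Y, V) Γ(W.toScheme, ⊤)))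
  let a := (isAffineOpen_top W.toScheme).fromSpec
  have ea : φ ≫ hV.fromSpec = a ≫ W.ι ≫ f :=
    IsAffineOpen.SpecMap_appLE_fromSpec (W.ι ≫ f) hV (isAffineOpen_top W.toScheme) h
  rw [← Category.assoc] at ea
  let z : W.toScheme := ⟨x, hxW⟩
  let q := (isAffineOpen_top W.toScheme).primeIdealOf ⟨z, trivial⟩
  have hq : (a ≫ W.ι) q = x := by
    show W.ι (a q) = x
    rw [show a q = z from (isAffineOpen_top W.toScheme).fromSpec_primeIdealOf ⟨z, trivial⟩]; rfl
  have s2 : FlatMor.fibreDimAt (φ ≫ hV.fromSpec) q = FlatMor.fibreDimAt φ q :=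
    H8Props.FieldDim.fibreDimAt_comp_openImmersion φ hV.fromSpec q
  rw [← hq, ← H8Props.FieldDim.fibreDimAt_openImmersion_comp (a ≫ W.ι) f q, ← ea]
  exact s2.trans (fibreDimAt_of_basis (R := Γ(Y, V)) (A := Γ(W.toScheme, ⊤)) q b)

end Groth.Agent.H06Unram.SmoothRank
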