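import Groth.Agent.H06Unram.ConormalInj
import Groth.Agent.H06Unram.SmoothRank

/-!
# The rank of the conormal sheaf of smooth subschemes
-/

set_option autoImplicit false
set_option linter.style.haveILetI false
set_option backward.isDefEq.respectTransparency false
universe u

open CategoryTheory CategoryTheory.Limits AlgebraicGeometry TopologicalSpace TensorProduct

namespace Groth.Agent.H06Unram.ConormalRank

open Groth.Agent.H06Mod Groth.Agent.H29Omega

attribute [local instance] Groth.Agent.H06Mod.stalkAlgebra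

/-- Differentials of localisations of an algebra with free differentials. -/
theorem basis_of_localization {R A R' A' : Type u} [CommRing R] [CommRing A] [CommRing R'] [CommRing A']
    [Algebra R A] [Algebra R R'] [Algebra A A'] [Algebra R' A'] [Algebra R A'] [IsScalarTower R A A']
    [IsScalarTower R R' A'] (M : Submonoid R) [IsLocalization M R'] (N : Submonoid A) [IsLocalization N A']
    {n : ℕ} (b : Module.Basis (Fin n) A Ω[A⁄R]) : Nonempty (Module.Basis (Fin n) A' Ω[A'⁄R']) := by
  haveI : Algebra.FormallyEtale A A' := Algebra.FormallyEtale.of_isLocalization N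
  haveI : Algebra.FormallyEtale R R' := Algebra.FormallyEtale.of_isLocalization M
  let b' : Module.Basis (Fin n) A' Ω[A'⁄R] :=
    (b.baseChange A').map (KaehlerDifferential.tensorKaehlerEquivOfFormallyEtale R A A')
  have hbij : Function.Bijective (KaehlerDifferential.map R R' A' A') := by
    refine ⟨?_, KaehlerDifferential.map_surjective R R' A'⟩
    rw [injective_iff_map_eq_zero]
    intro w hw
    obtain ⟨t, rfl⟩ := (KaehlerDifferential.exact_mapBaseChange_map R R' A' w).1 hw
    rw [Subsingleton.elim t 0, map_zero]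
  exact ⟨b'.map (LinearEquiv.ofBijective (KaehlerDifferential.map R R' A' A') hbij)⟩

/-- The differentials of the local rings of a smooth morphism. -/
theorem exists_stalk_basis {X Y : Scheme.{u}} (f : X ⟶ Y) [Smooth f] (y : X) :
    ∃ n : ℕ, FlatMor.fibreDimAt f y = (n : WithBot ℕ∞) ∧
      Nonempty (Module.Basis (Fin n) (X.presheaf.stalk y) Ω[X.presheaf.stalk y⁄Y.presheaf.stalk (f.base y)]) := by
  obtain ⟨U, hU, V, hV, hyV, e, hst⟩ := Smooth.exists_isStandardSmooth f y
  letI := (f.appLE U V e).hom.toAlgebra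
  haveI : Algebra.IsStandardSmooth Γ(Y, U) Γ(X, V) := hst
  haveI : Algebra.Smooth Γ(Y, U) Γ(X, V) := inferInstance
  obtain ⟨ι, σ, _, _, ⟨P⟩⟩ := Algebra.IsStandardSmooth.out (R := Γ(Y, U)) (S := Γ(X, V))
  let q := hV.primeIdealOf ⟨y, hyV⟩
  haveI : Nontrivial Γ(X, V) := PrimeSpectrum.nontrivial q
  haveI : Algebra.IsStandardSmoothOfRelativeDimension P.dimension Γ(Y, U) Γ(X, V) := ⟨_, _, _, ‹_›, P, rfl⟩
  let b : Module.Basis (Fin P.dimension) Γ(X, V) Ω[Γ(X, V)⁄Γ(Y, U)] :=
    Module.finBasisOfFinrankEq _ _ (Module.finrank_eq_of_rank_eq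
      (Algebra.IsStandardSmoothOfRelativeDimension.rank_kaehlerDifferential P.dimension))
  refine ⟨P.dimension, ?_, ?_⟩
  · let φ := Spec.map (CommRingCat.ofHom (algebraMap Γ(Y, U) Γ(X, V)))
    haveI : LocallyOfFiniteType φ := (HasRingHomProperty.Spec_iff (P := @LocallyOfFiniteType)).mpr
      (RingHom.finiteType_algebraMap.mpr inferInstance)
    have hsq : φ ≫ hU.fromSpec = hV.fromSpec ≫ f := IsAffineOpen.SpecMap_appLE_fromSpec f hU hV e
    have s1 : FlatMor.fibreDimAt (hV.fromSpec ≫ f) q = FlatMor.fibreDimAt f (hV.fromSpec q) :=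
      H8Props.FieldDim.fibreDimAt_openImmersion_comp hV.fromSpec f q
    have s2 : FlatMor.fibreDimAt (φ ≫ hU.fromSpec) q = FlatMor.fibreDimAt φ q :=
      H8Props.FieldDim.fibreDimAt_comp_openImmersion φ hU.fromSpec q
    have hq : hV.fromSpec q = y := hV.fromSpec_primeIdealOf ⟨y, hyV⟩
    rw [hq] at s1
    rw [hsq] at s2
    rw [← s1]
    exact s2.trans (SmoothRank.fibreDimAt_of_basis (R := Γ(Y, U)) (A := Γ(X, V)) q b)
  · have hfy : f.base y ∈ U := e hyV
    letI : Algebra Γ(X, V) (X.presheaf.stalk y) := (X.presheaf.germ V y hyV).hom.toAlgebra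
    letI : Algebra Γ(Y, U) (Y.presheaf.stalk (f.base y)) := (Y.presheaf.germ U (f.base y) hfy).hom.toAlgebra
    letI : Algebra Γ(Y, U) (X.presheaf.stalk y) :=
      ((X.presheaf.germ V y hyV).hom.comp (f.appLE U V e).hom).toAlgebra
    haveI : IsScalarTower Γ(Y, U) Γ(X, V) (X.presheaf.stalk y) := IsScalarTower.of_algebraMap_eq' rfl
    haveI : IsScalarTower Γ(Y, U) (Y.presheaf.stalk (f.base y)) (X.presheaf.stalk y) := by
      refine IsScalarTower.of_algebraMap_eq fun r => ?_
      show X.presheaf.germ V y hyV (f.appLE U V e r) = f.stalkMap y (Y.presheaf.germ U (f.base y) hfy r)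
      rw [Scheme.Hom.germ_stalkMap_apply, Scheme.Hom.appLE, CommRingCat.comp_apply, X.presheaf.germ_res_apply]
    haveI : IsLocalization.AtPrime (X.presheaf.stalk y) q.asIdeal := hV.isLocalization_stalk ⟨y, hyV⟩
    haveI : IsLocalization.AtPrime (Y.presheaf.stalk (f.base y)) (hU.primeIdealOf ⟨f.base y, hfy⟩).asIdeal :=
      hU.isLocalization_stalk ⟨f.base y, hfy⟩
    exact basis_of_localization (hU.primeIdealOf ⟨f.base y, hfy⟩).asIdeal.primeCompl q.asIdeal.primeCompl b

/-- A conormal class of a square vanishes. -/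
theorem cgen_eq_zero_of_mem_sq {X' X : Scheme.{u}} (j : X' ⟶ X) [IsImmersion j] [QuasiCompact j] (x : X')
    (a : RingHom.ker (j.stalkMap x).hom) (ha : (a : X.presheaf.stalk (j.base x)) ∈ RingHom.ker (j.stalkMap x).hom ^ 2) :
    cgen j x a = 0 := by
  have hspan : ∀ (b : X.presheaf.stalk (j.base x)) (hb : b ∈ RingHom.ker (j.stalkMap x).hom ^ 2),
      cgen j x ⟨b, Ideal.pow_le_self two_ne_zero hb⟩ = 0 := by
    intro b hb
    rw [sq] at hb
    induction hb using Submodule.mul_induction_on' with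
    | mem_mul_mem p hp q hq =>
      rw [show (⟨p * q, _⟩ : RingHom.ker (j.stalkMap x).hom) = p • ⟨q, hq⟩ from rfl, cgen_smul,
        RingHom.mem_ker.1 hp, zero_smul]
    | add p hp q hq h1 h2 =>
      have e1 : (⟨p + q, _⟩ : RingHom.ker (j.stalkMap x).hom) =
          ⟨p, Ideal.pow_le_self two_ne_zero (by rw [sq]; exact hp)⟩ +
            ⟨q, Ideal.pow_le_self two_ne_zero (by rw [sq]; exact hq)⟩ := rfl
      rw [e1, map_add]
      exact (congrArg₂ (· + ·) (h1 (by rw [sq]; exact hp)) (h2 (by rw [sq]; exact hq))).trans (add_zero _)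
  exact hspan a.1 ha

/-- Rank additivity for the conormal stalk of a smooth subscheme. -/
theorem finrank_conormal {X' X Y : Scheme.{u}} (f : X ⟶ Y) [Smooth f] (j : X' ⟶ X) [IsImmersion j]
    [QuasiCompact j] [Smooth (j ≫ f)] (hjf : MoreMor.IsFormallySmoothHom (j ≫ f)) (x : X') {r : ℕ}
    (bc : Module.Basis (Fin r) (X'.presheaf.stalk x) ((Omega.conormal j).presheaf.stalk x)) :
    FlatMor.fibreDimAt f (j.base x) = FlatMor.fibreDimAt (j ≫ f) x + (r : WithBot ℕ∞) := by
  obtain ⟨m, hm, ⟨bm⟩⟩ := exists_stalk_basis f (j.base x)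
  obtain ⟨m', hm', hb'⟩ := exists_stalk_basis (j ≫ f) x
  letI : Algebra (Y.presheaf.stalk (f.base (j.base x))) (X'.presheaf.stalk x) :=
    ((j ≫ f).stalkMap x).hom.toAlgebra
  obtain ⟨bm'⟩ : Nonempty (Module.Basis (Fin m') (X'.presheaf.stalk x)
      Ω[X'.presheaf.stalk x⁄Y.presheaf.stalk (f.base (j.base x))]) := hb'
  haveI : IsScalarTower (Y.presheaf.stalk (f.base (j.base x))) (X.presheaf.stalk (j.base x))
      (X'.presheaf.stalk x) := .of_algebraMap_eq fun r =>
    congr($(congrArg CommRingCat.Hom.hom (Scheme.Hom.stalkMap_comp j f x)) r)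
  haveI : Algebra.FormallySmooth (Y.presheaf.stalk (f.base (j.base x))) (X'.presheaf.stalk x) :=
    DiffStalk.formallySmooth_stalkMap (j ≫ f) hjf x
  let R := Y.presheaf.stalk (f.base (j.base x))
  let P := X.presheaf.stalk (j.base x)
  let C := X'.presheaf.stalk x
  have hs : Function.Surjective (algebraMap P C) := j.stalkMap_surjective x
  let g : RingHom.ker (j.stalkMap x).hom →+ C ⊗[P] Ω[P⁄R] :=
    { toFun := fun a => (1 : C) ⊗ₜ[P] KaehlerDifferential.D R P a.1
      map_zero' := by
        show (1 : C) ⊗ₜ[P] KaehlerDifferential.D R P 0 = 0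
        rw [map_zero, TensorProduct.tmul_zero]
      map_add' := fun a b => by
        show (1 : C) ⊗ₜ[P] KaehlerDifferential.D R P (a.1 + b.1) = _
        rw [map_add, TensorProduct.tmul_add] }
  obtain ⟨ψ, hψ⟩ := exists_lift_cgen j x g (fun r a => by
    show (1 : C) ⊗ₜ[P] KaehlerDifferential.D R P (r * a.1) = algebraMap P C r • ((1 : C) ⊗ₜ[P] KaehlerDifferential.D R P a.1)
    have h0 : (1 : C) ⊗ₜ[P] (a.1 • KaehlerDifferential.D R P r) = 0 := by
      rw [← TensorProduct.smul_tmul, Algebra.smul_def, mul_one,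
        show algebraMap P C a.1 = 0 from RingHom.mem_ker.1 a.2, TensorProduct.zero_tmul]
    rw [Derivation.leibniz, TensorProduct.tmul_add, h0, add_zero, TensorProduct.tmul_smul, algebraMap_smul])
  have hinj : Function.Injective ψ := by
    rw [injective_iff_map_eq_zero]
    intro v hv
    obtain ⟨a, rfl⟩ := H17.Conormal.exists_cgen_eq j x v
    rw [hψ] at hv
    exact cgen_eq_zero_of_mem_sq j x a (ConormalInj.mem_sq_of_tmul_D_eq_zero (R := R) hs a.2 hv)
  let π := KaehlerDifferential.mapBaseChange R P C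
  have hπ : Function.Surjective π := KaehlerDifferential.mapBaseChange_surjective R P C hs
  have hex : Function.Exact ψ π := fun t => by
    constructor
    · intro ht
      obtain ⟨w, hw⟩ := ((KaehlerDifferential.exact_kerCotangentToTensor_mapBaseChange R P C hs) t).1 ht
      obtain ⟨a, rfl⟩ := Ideal.toCotangent_surjective _ w
      rw [KaehlerDifferential.kerCotangentToTensor_toCotangent] at hw
      exact ⟨cgen j x ⟨a.1, a.2⟩, (hψ _).trans hw⟩
    · rintro ⟨v, rfl⟩
      obtain ⟨a, rfl⟩ := H17.Conormal.exists_cgen_eq j x v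
      rw [hψ]
      show π ((1 : C) ⊗ₜ[P] KaehlerDifferential.D R P a.1) = 0
      rw [KaehlerDifferential.mapBaseChange_tmul, one_smul, KaehlerDifferential.map_D,
        show algebraMap P C a.1 = 0 from RingHom.mem_ker.1 a.2, map_zero]
  haveI : Module.Projective C Ω[C⁄R] := Module.Projective.of_basis bm'
  haveI := Module.Free.of_basis bc
  haveI := Module.Finite.of_basis bc
  haveI := Module.Free.of_basis bm'
  haveI := Module.Finite.of_basis bm'
  obtain ⟨l, hl⟩ := Module.projective_lifting_property π LinearMap.id hπ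
  obtain ⟨e, -⟩ := (hex.splitSurjectiveEquiv hinj) ⟨l, hl⟩
  have h1 := e.finrank_eq
  rw [Module.finrank_prod, Module.finrank_eq_card_basis (bm.baseChange C), Module.finrank_eq_card_basis bc,
    Module.finrank_eq_card_basis bm', Fintype.card_fin, Fintype.card_fin, Fintype.card_fin] at h1
  rw [hm, hm', h1]
  push_cast
  rw [add_comm]

end Groth.Agent.H06Unram.ConormalRank
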