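import Mathlib

/-!
# Smoothness in a tower
-/

set_option autoImplicit false
universe u
open TensorProduct KaehlerDifferential

namespace Groth.Agent.H06Unram.Tower

variable (A B T : Type u) [CommRing A] [CommRing B] [CommRing T] [Algebra A B] [Algebra A T] [Algebra B T]
  [IsScalarTower A B T]

theorem injective_of_subsingleton_h1 [Subsingleton (Algebra.H1Cotangent B T)] :
    Function.Injective (mapBaseChange A B T) :=
  (injective_iff_map_eq_zero _).mpr fun x hx => by
    obtain ⟨y, rfl⟩ := (Algebra.H1Cotangent.exact_δ_mapBaseChange A B T x).mp hx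
    rw [Subsingleton.elim y 0, map_zero]

theorem subsingleton_h1_of_injective [Subsingleton (Algebra.H1Cotangent A T)]
    (h : Function.Injective (mapBaseChange A B T)) : Subsingleton (Algebra.H1Cotangent B T) := by
  refine ⟨fun a b => ?_⟩
  have key : ∀ y : Algebra.H1Cotangent B T, y = 0 := fun y => by
    have h1 : Algebra.H1Cotangent.δ A B T y = 0 :=
      h (((Algebra.H1Cotangent.exact_δ_mapBaseChange A B T _).mpr ⟨y, rfl⟩).trans (map_zero _).symm)
    obtain ⟨x, rfl⟩ := (Algebra.H1Cotangent.exact_map_δ A B T y).mp h1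
    rw [Subsingleton.elim x 0, map_zero]
  rw [key a, key b]

theorem formallySmooth_iff [Algebra.FormallySmooth A T] :
    Algebra.FormallySmooth B T ↔
      ∃ r : Ω[T⁄A] →ₗ[T] T ⊗[B] Ω[B⁄A], r ∘ₗ mapBaseChange A B T = LinearMap.id := by
  have hex := exact_mapBaseChange_map A B T
  have hsurj := map_surjective A B T
  constructor
  · intro _
    obtain ⟨l, hl⟩ := Module.projective_lifting_property (map A B T T) LinearMap.id hsurj
    have hinj := injective_of_subsingleton_h1 A B T
    obtain ⟨r, hr⟩ := ((hex.split_tfae hinj hsurj).out 0 1 rfl rfl).mp ⟨l, hl⟩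
    exact ⟨r, hr⟩
  · rintro ⟨r, hr⟩
    have hinj : Function.Injective (mapBaseChange A B T) := fun x y h => by
      rw [← LinearMap.id_apply (R := T) x, ← hr, LinearMap.comp_apply, h, ← LinearMap.comp_apply, hr,
        LinearMap.id_apply]
    obtain ⟨l, hl⟩ := ((hex.split_tfae hinj hsurj).out 1 0 rfl rfl).mp ⟨r, hr⟩
    exact ⟨Module.Projective.of_split l _ hl, subsingleton_h1_of_injective A B T hinj⟩

theorem formallyEtale_iff [Algebra.FormallySmooth A T] :
    Algebra.FormallyEtale B T ↔ Function.Bijective (mapBaseChange A B T) := by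
  have hex := exact_mapBaseChange_map A B T
  have hsurj := map_surjective A B T
  constructor
  · intro h
    refine ⟨injective_of_subsingleton_h1 A B T, fun y => (hex y).mp ?_⟩
    exact Subsingleton.elim _ _
  · rintro ⟨hinj, hs⟩
    refine ⟨⟨fun a b => ?_⟩, subsingleton_h1_of_injective A B T hinj⟩
    obtain ⟨a, rfl⟩ := hsurj a
    obtain ⟨b, rfl⟩ := hsurj b
    rw [(hex a).mpr (hs a), (hex b).mpr (hs b)]

end Groth.Agent.H06Unram.Tower
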