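import Groth.Agent.H29Omega.StalkCompat
import Groth.Agent.H8Props.FormallySmoothScheme
import Groth.Agent.H17.LocusBC
import Groth.Agent.H06Unram.Tower

/-!
# Stalks of the map of differentials along a morphism over a base
-/

set_option autoImplicit false
set_option linter.style.haveILetI false
set_option backward.isDefEq.respectTransparency false
set_option maxHeartbeats 400000
universe u

open CategoryTheory CategoryTheory.Limits AlgebraicGeometry TopologicalSpace Opposite TensorProduct

namespace Groth.Agent.H06Unram.DiffStalk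

open Groth.Agent.H06Mod Groth.Agent.H29Omega

attribute [local instance] Groth.Agent.H06Mod.stalkAlgebra

variable {X S X' S' : Scheme.{u}}

/-- The comparison map on stalks in terms of differentials of local rings. -/
theorem exists_stalk_diffCompat {f : X ⟶ S} {f' : X' ⟶ S'} (g : S' ⟶ S) (g' : X' ⟶ X)
    (w : g' ≫ f = f' ≫ g) {Ω : X.Modules} (d : OmegaSh.Der f Ω) (hd : OmegaSh.IsUniversal d)
    {Ω' : X'.Modules} (d' : OmegaSh.Der f' Ω') (hd' : OmegaSh.IsUniversal d')
    (c : (Scheme.Modules.pullback g').obj Ω ⟶ Ω') (hc : OmegaSh.IsDiffCompat g' d d' c) (x' : X') :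
    letI : Algebra (S.presheaf.stalk (f.base (g'.base x'))) (S'.presheaf.stalk (f'.base x')) :=
      (baseStalkMap f f' g g' w x').hom.toAlgebra
    letI : Algebra (S.presheaf.stalk (f.base (g'.base x'))) (X'.presheaf.stalk x') :=
      ((g'.stalkMap x').hom.comp (f.stalkMap (g'.base x')).hom).toAlgebra
    haveI : IsScalarTower (S.presheaf.stalk (f.base (g'.base x'))) (X.presheaf.stalk (g'.base x'))
      (X'.presheaf.stalk x') := .of_algebraMap_eq fun _ => rfl
    haveI : IsScalarTower (S.presheaf.stalk (f.base (g'.base x'))) (S'.presheaf.stalk (f'.base x'))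
      (X'.presheaf.stalk x') := .of_algebraMap_eq fun r =>
        (congr($(congrArg CommRingCat.Hom.hom (baseStalkMap_comp f f' g g' w x')) r)).symm
    (∃ (σ : (X'.presheaf.stalk x') ⊗[X.presheaf.stalk (g'.base x')]
          KaehlerDifferential (S.presheaf.stalk (f.base (g'.base x'))) (X.presheaf.stalk (g'.base x')) →
          ((Scheme.Modules.pullback g').obj Ω).presheaf.stalk x')
        (ε : Ω'.presheaf.stalk x' → KaehlerDifferential (S'.presheaf.stalk (f'.base x')) (X'.presheaf.stalk x')),
      Function.Bijective σ ∧ Function.Bijective ε ∧ ∀ z, ε (stalkLin c x' (σ z)) =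
        LinearMap.liftBaseChange (X'.presheaf.stalk x')
        (KaehlerDifferential.map (S.presheaf.stalk (f.base (g'.base x'))) (S'.presheaf.stalk (f'.base x'))
          (X.presheaf.stalk (g'.base x')) (X'.presheaf.stalk x')) z) := by
  letI : Algebra (S.presheaf.stalk (f.base (g'.base x'))) (S'.presheaf.stalk (f'.base x')) :=
    (baseStalkMap f f' g g' w x').hom.toAlgebra
  letI : Algebra (S.presheaf.stalk (f.base (g'.base x'))) (X'.presheaf.stalk x') :=
    ((g'.stalkMap x').hom.comp (f.stalkMap (g'.base x')).hom).toAlgebra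
  haveI : IsScalarTower (S.presheaf.stalk (f.base (g'.base x'))) (X.presheaf.stalk (g'.base x'))
    (X'.presheaf.stalk x') := .of_algebraMap_eq fun _ => rfl
  haveI : IsScalarTower (S.presheaf.stalk (f.base (g'.base x'))) (S'.presheaf.stalk (f'.base x'))
    (X'.presheaf.stalk x') := .of_algebraMap_eq fun r =>
      (congr($(congrArg CommRingCat.Hom.hom (baseStalkMap_comp f f' g g' w x')) r)).symm
  obtain ⟨e, he⟩ := exists_stalkEquiv d hd (g'.base x')
  obtain ⟨e', he'⟩ := exists_stalkEquiv d' hd' x'
  let P := pullStalkEquiv g' Ω x'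
  let T := LinearEquiv.baseChange (R := X.presheaf.stalk (g'.base x')) (A := X'.presheaf.stalk x') _ _ e
  have hkey : ∀ z, e' (stalkLin c x' (P (T.symm z))) =
      LinearMap.liftBaseChange (X'.presheaf.stalk x')
        (KaehlerDifferential.map (S.presheaf.stalk (f.base (g'.base x'))) (S'.presheaf.stalk (f'.base x'))
          (X.presheaf.stalk (g'.base x')) (X'.presheaf.stalk x')) z := by
    intro z
    induction z using TensorProduct.induction_on with
    | zero => simp
    | add a b ha hb => simp only [map_add, ha, hb]
    | tmul b' ω =>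
      rw [LinearMap.liftBaseChange_tmul]
      have h1 : T.symm (b' ⊗ₜ ω) = b' • ((1 : X'.presheaf.stalk x') ⊗ₜ e.symm ω) := by
        rw [TensorProduct.smul_tmul', smul_eq_mul, mul_one]
        rfl
      rw [h1, map_smul, map_smul, map_smul]
      clear h1
      congr 1
      have hω : ω ∈ Submodule.span (X.presheaf.stalk (g'.base x'))
          (Set.range (KaehlerDifferential.D (S.presheaf.stalk (f.base (g'.base x')))
            (X.presheaf.stalk (g'.base x')))) := by
        rw [KaehlerDifferential.span_range_derivation]; trivial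
      induction hω using Submodule.span_induction with
      | zero => simp
      | add a b _ _ ha hb =>
        rw [LinearEquiv.map_add, TensorProduct.tmul_add, LinearEquiv.map_add, LinearMap.map_add,
          LinearEquiv.map_add, ha, hb, LinearMap.map_add]
      | smul r a _ ha =>
        have h2 : (1 : X'.presheaf.stalk x') ⊗ₜ[X.presheaf.stalk (g'.base x')] e.symm (r • a) =
            algebraMap (X.presheaf.stalk (g'.base x')) (X'.presheaf.stalk x') r •
              ((1 : X'.presheaf.stalk x') ⊗ₜ e.symm a) := by
          rw [map_smul, TensorProduct.tmul_smul, algebraMap_smul]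
        rw [h2, map_smul, map_smul, map_smul, ha, map_smul, algebraMap_smul]
      | mem a ha =>
        obtain ⟨t, rfl⟩ := ha
        obtain ⟨U, hU, s, rfl⟩ := X.presheaf.exists_germ_eq t
        rw [← he U hU s, LinearEquiv.symm_apply_apply,
          show P ((1 : X'.presheaf.stalk x') ⊗ₜ Ω.presheaf.germ U (g'.base x') hU (d.app U s)) =
            ((Scheme.Modules.pullback g').obj Ω).presheaf.germ (g' ⁻¹ᵁ U) x' hU
              (OmegaSh.pullSect g' Ω U (d.app U s)) from
            (pullStalkLin_tmul g' Ω x' 1 _).trans ((one_smul _ _).trans (pullStalk_germ g' Ω x' U hU _)),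
          stalkLin_germ, hc U s, he' (g' ⁻¹ᵁ U) hU, he U hU s, KaehlerDifferential.map_D]
        congr 1
        exact (Scheme.Hom.germ_stalkMap_apply g' U x' hU s).symm
  exact ⟨fun z => P (T.symm z), e', P.bijective.comp T.symm.bijective, e'.bijective, hkey⟩

/-- Kaehler differentials do not change along a surjective change of the base. -/
theorem bijective_map_of_surjective {R R' T : Type u} [CommRing R] [CommRing R'] [CommRing T] [Algebra R R']
    [Algebra R T] [Algebra R' T] [IsScalarTower R R' T] (h : Function.Surjective (algebraMap R R')) :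
    Function.Bijective (KaehlerDifferential.map R R' T T) := by
  haveI : Subsingleton (Ω[R'⁄R]) := KaehlerDifferential.subsingleton_of_surjective R R' h
  refine ⟨(injective_iff_map_eq_zero _).mpr fun z hz => ?_, KaehlerDifferential.map_surjective R R' T⟩
  obtain ⟨w, rfl⟩ := (KaehlerDifferential.exact_mapBaseChange_map R R' T z).mp hz
  clear hz
  induction w using TensorProduct.induction_on with
  | zero => rw [map_zero]
  | add a b ha hb => rw [map_add, ha, hb, add_zero]
  | tmul t ω => rw [Subsingleton.elim ω 0, TensorProduct.tmul_zero, map_zero]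

/-- The algebraic form of the stalk of the comparison map. -/
theorem lift_eq_comp {R R' A T : Type u} [CommRing R] [CommRing R'] [CommRing A] [CommRing T] [Algebra R A]
    [Algebra R T] [Algebra R R'] [Algebra R' T] [IsScalarTower R R' T] [Algebra A T] [IsScalarTower R A T]
    (z : T ⊗[A] Ω[A⁄R]) :
    LinearMap.liftBaseChange T (KaehlerDifferential.map R R' A T) z =
      KaehlerDifferential.map R R' T T (KaehlerDifferential.mapBaseChange R A T z) := by
  induction z using TensorProduct.induction_on with
  | zero => simp only [map_zero]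
  | add a b ha hb => simp only [map_add, ha, hb]
  | tmul t ω =>
    rw [LinearMap.liftBaseChange_tmul, KaehlerDifferential.mapBaseChange_tmul, map_smul]
    congr 1
    have hω : ω ∈ Submodule.span A (Set.range (KaehlerDifferential.D R A)) := by
      rw [KaehlerDifferential.span_range_derivation]; trivial
    induction hω using Submodule.span_induction with
    | mem a ha =>
      obtain ⟨a, rfl⟩ := ha
      rw [KaehlerDifferential.map_D, KaehlerDifferential.map_D, KaehlerDifferential.map_D]
      rfl
    | zero => simp only [map_zero]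
    | add a b _ _ ha hb => simp only [map_add, ha, hb]
    | smul r a _ ha =>
      rw [map_smul, map_smul, ha, ← algebraMap_smul T r (KaehlerDifferential.map R R A T a), map_smul,
        algebraMap_smul]

theorem diff_stalk_props {R R' A T P Q : Type u} [CommRing R] [CommRing R'] [CommRing A] [CommRing T] [Algebra R A]
    [Algebra R T] [Algebra R R'] [Algebra R' T] [IsScalarTower R R' T] [Algebra A T] [IsScalarTower R A T]
    (hR : Function.Surjective (algebraMap R R')) (φ : P → Q) (σ : T ⊗[A] Ω[A⁄R] → P) (ε : Q → Ω[T⁄R'])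
    (hσ : Function.Bijective σ) (hε : Function.Bijective ε)
    (h : ∀ z, ε (φ (σ z)) = LinearMap.liftBaseChange T (KaehlerDifferential.map R R' A T) z) :
    (Function.Surjective φ ↔ Algebra.FormallyUnramified A T) ∧
      (Algebra.FormallySmooth A T → Function.Injective φ) := by
  have hb := bijective_map_of_surjective (T := T) hR
  have hM : (ε ∘ φ ∘ σ : _ → _) = KaehlerDifferential.map R R' T T ∘ KaehlerDifferential.mapBaseChange R A T :=
    funext fun z => (h z).trans (lift_eq_comp z)
  refine ⟨?_, fun _ => ?_⟩
  · have h1 : Function.Surjective φ ↔ Function.Surjective (KaehlerDifferential.mapBaseChange R A T) := by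
      rw [← Function.Surjective.of_comp_iff φ hσ.surjective, ← Function.Surjective.of_comp_iff' hε,
        hM, Function.Surjective.of_comp_iff' hb]
    rw [h1, Algebra.formallyUnramified_iff]
    refine ⟨fun hs => ⟨fun a b => ?_⟩, fun _ y => (KaehlerDifferential.exact_mapBaseChange_map R A T y).mp
      (Subsingleton.elim _ _)⟩
    obtain ⟨a, rfl⟩ := KaehlerDifferential.map_surjective R A T a
    obtain ⟨b, rfl⟩ := KaehlerDifferential.map_surjective R A T b
    rw [(KaehlerDifferential.exact_mapBaseChange_map R A T a).mpr (hs a),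
      (KaehlerDifferential.exact_mapBaseChange_map R A T b).mpr (hs b)]
  · rw [← Function.Injective.of_comp_iff' φ hσ, ← hε.injective.of_comp_iff, hM,
      hb.injective.of_comp_iff]
    exact Tower.injective_of_subsingleton_h1 R A T

/-- The stalk of the comparison map of differentials. -/
theorem stalk_props {X Y S : Scheme.{u}} {g : Y ⟶ S} {h : X ⟶ S} (f : X ⟶ Y) (w : f ≫ g = h)
    {ΩY : Y.Modules} (dY : OmegaSh.Der g ΩY) (hY : OmegaSh.IsUniversal dY)
    {ΩX : X.Modules} (dX : OmegaSh.Der h ΩX) (hX : OmegaSh.IsUniversal dX)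
    (c : (Scheme.Modules.pullback f).obj ΩY ⟶ ΩX) (hc : OmegaSh.IsDiffCompat f dY dX c) (x : X) :
    (Function.Surjective (stalkLin c x) ↔ (f.stalkMap x).hom.FormallyUnramified) ∧
      ((f.stalkMap x).hom.FormallySmooth → Function.Injective (stalkLin c x)) := by
  have w' : f ≫ g = h ≫ 𝟙 S := w.trans (Category.comp_id h).symm
  letI : Algebra (S.presheaf.stalk (g.base (f.base x))) (S.presheaf.stalk (h.base x)) :=
    (baseStalkMap g h (𝟙 S) f w' x).hom.toAlgebra
  letI : Algebra (S.presheaf.stalk (g.base (f.base x))) (X.presheaf.stalk x) :=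
    ((f.stalkMap x).hom.comp (g.stalkMap (f.base x)).hom).toAlgebra
  haveI : IsScalarTower (S.presheaf.stalk (g.base (f.base x))) (Y.presheaf.stalk (f.base x))
    (X.presheaf.stalk x) := .of_algebraMap_eq fun _ => rfl
  haveI : IsScalarTower (S.presheaf.stalk (g.base (f.base x))) (S.presheaf.stalk (h.base x))
    (X.presheaf.stalk x) := .of_algebraMap_eq fun r =>
      (congr($(congrArg CommRingCat.Hom.hom (baseStalkMap_comp g h (𝟙 S) f w' x)) r)).symm
  obtain ⟨σ, ε, hσ, hε, hz⟩ := exists_stalk_diffCompat (𝟙 S) f w' dY hY dX hX c hc x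
  have hsurj : Function.Surjective (algebraMap (S.presheaf.stalk (g.base (f.base x))) (S.presheaf.stalk (h.base x))) := by
    haveI : IsIso (baseStalkMap g h (𝟙 S) f w' x) := by
      have e : g.base (f.base x) = h.base x := by
        rw [← w, Scheme.Hom.comp_apply]
      have : ∀ (a b : S) (_ : a = b) (hs : b ⤳ a), IsIso (S.presheaf.stalkSpecializes hs) := by
        rintro a _ rfl hs
        rw [TopCat.Presheaf.stalkSpecializes_refl]
        infer_instance
      haveI := this _ _ e
      unfold baseStalkMap
      infer_instance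
    exact ((ConcreteCategory.isIso_iff_bijective (baseStalkMap g h (𝟙 S) f w' x)).mp ‹_›).2
  obtain ⟨h1, h2⟩ := diff_stalk_props hsurj (stalkLin c x) σ ε hσ hε hz
  exact ⟨h1.trans RingHom.formallyUnramified_algebraMap.symm,
    fun hs => h2 (RingHom.formallySmooth_algebraMap.mp hs)⟩

/-- Formally smooth morphisms have formally smooth stalk maps. -/
theorem formallySmooth_stalkMap {X Y : Scheme.{u}} (f : X ⟶ Y) (hf : MoreMor.IsFormallySmoothHom f) (x : X) :
    (f.stalkMap x).hom.FormallySmooth := by
  obtain ⟨V, hV, hxV, -⟩ := exists_isAffineOpen_mem_and_subset (X := Y) (x := f x) (U := ⊤) trivial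
  obtain ⟨U, hU, hxU, hle⟩ := exists_isAffineOpen_mem_and_subset (X := X) (x := x) (U := f ⁻¹ᵁ V) hxV
  have hle' : U ≤ f ⁻¹ᵁ V := hle
  algebraize [(f.appLE V U hle').hom]
  haveI : Algebra.FormallySmooth Γ(Y, V) Γ(X, U) :=
    H8Props.FormallySmoothScheme.formallySmooth_appLE f hf hU hV hle'
  let q := hU.primeIdealOf ⟨x, hxU⟩
  have e := H17.LocusBC.formallySmooth_stalkMap_comp_iff hU.fromSpec f hV.fromSpec
    (Spec.map (f.appLE V U hle')) (IsAffineOpen.SpecMap_appLE_fromSpec f hV hU hle') q
  have hq : hU.fromSpec q = x := hU.fromSpec_primeIdealOf ⟨x, hxU⟩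
  rw [hq] at e
  refine e.mp ((H17.LocusBC.formallySmooth_stalkMap_Spec_iff q).mpr ?_)
  haveI : Algebra.FormallySmooth Γ(X, U) (Localization.AtPrime q.asIdeal) :=
    Algebra.FormallySmooth.of_isLocalization q.asIdeal.primeCompl
  exact Algebra.FormallySmooth.comp Γ(Y, V) Γ(X, U) (Localization.AtPrime q.asIdeal)

end Groth.Agent.H06Unram.DiffStalk
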