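import Groth.Agent.H29Omega.ConormalDiffStalk
import Groth.Agent.H29Omega.ConormalSplit
import Groth.Agent.H17.Conormal.Left
import Groth.Agent.H06Unram.DiffStalk

/-!
# Injectivity of the conormal map for formally smooth subschemes
-/

set_option autoImplicit false
set_option linter.style.haveILetI false
universe u

open CategoryTheory CategoryTheory.Limits AlgebraicGeometry TopologicalSpace TensorProduct

namespace Groth.Agent.H06Unram.ConormalInj

/-- For a formally smooth quotient, the differential is injective on the conormal module. -/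
theorem mem_sq_of_tmul_D_eq_zero {R P C : Type u} [CommRing R] [CommRing P] [CommRing C] [Algebra R P]
    [Algebra P C] [Algebra R C] [IsScalarTower R P C] [Algebra.FormallySmooth R C]
    (hs : Function.Surjective (algebraMap P C)) {a : P} (ha : algebraMap P C a = 0)
    (h : (1 : C) ⊗ₜ[P] KaehlerDifferential.D R P a = 0) : a ∈ RingHom.ker (algebraMap P C) ^ 2 := by
  let I := RingHom.ker (algebraMap P C)
  let Q := P ⧸ I ^ 2
  let g : Q →ₐ[R] C := Ideal.Quotient.liftₐ (I ^ 2) (IsScalarTower.toAlgHom R P C)
    (fun x hx => Ideal.pow_le_self (two_ne_zero) hx)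
  have hg : Function.Surjective g := fun c => by
    obtain ⟨p, rfl⟩ := hs c
    exact ⟨Ideal.Quotient.mk _ p, rfl⟩
  have hker : RingHom.ker (g : Q →+* C) ≤ I.map (Ideal.Quotient.mk (I ^ 2)) := fun y hy => by
    obtain ⟨p, rfl⟩ := Ideal.Quotient.mk_surjective y
    exact Ideal.mem_map_of_mem _ hy
  have hnil : IsNilpotent (RingHom.ker (g : Q →+* C)) := ⟨2, le_bot_iff.mp
    ((Ideal.pow_right_mono hker 2).trans (by rw [← Ideal.map_pow, Ideal.map_quotient_self]))⟩
  let σ : C →ₐ[R] Q := Algebra.FormallySmooth.liftOfSurjective (AlgHom.id R C) g hg hnil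
  let π : P →+* Q := Ideal.Quotient.mk (I ^ 2)
  have hd : ∀ p, π p - σ (algebraMap P C p) ∈ I.map π := fun p => hker (by
    rw [RingHom.mem_ker]
    show g (π p - σ (algebraMap P C p)) = 0
    rw [map_sub, show g (σ (algebraMap P C p)) = algebraMap P C p from
      Algebra.FormallySmooth.liftOfSurjective_apply (AlgHom.id R C) g hg hnil _]
    exact sub_self _)
  have hmul : ∀ y ∈ I.map π, ∀ z ∈ I.map π, y * z = 0 := fun y hy z hz => by
    have := Ideal.mul_mem_mul hy hz
    rwa [← sq, ← Ideal.map_pow, Ideal.map_quotient_self] at this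
  let D : Derivation R P Q :=
    { toFun := fun p => π p - σ (algebraMap P C p)
      map_add' := fun p q => by simp only [map_add]; ring
      map_smul' := fun r p => by
        rw [Algebra.smul_def, Algebra.smul_def, RingHom.id_apply, map_mul, map_mul, map_mul,
          ← IsScalarTower.algebraMap_apply, AlgHom.commutes, mul_sub]
        rfl
      map_one_eq_zero' := by simp
      leibniz' := fun p q => by
        have h0 := hmul _ (hd p) _ (hd q)
        show π (p * q) - σ (algebraMap P C (p * q)) =
          π p * (π q - σ (algebraMap P C q)) + π q * (π p - σ (algebraMap P C p))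
        rw [map_mul, map_mul, map_mul]
        linear_combination (-1) * h0 }
  let L := D.liftKaehlerDifferential
  have hL : ∀ ω, L ω ∈ I.map π := fun ω => by
    have hω : ω ∈ Submodule.span P (Set.range (KaehlerDifferential.D R P)) := by
      rw [KaehlerDifferential.span_range_derivation]; trivial
    induction hω using Submodule.span_induction with
    | mem m hm =>
      obtain ⟨p, rfl⟩ := hm
      rw [Derivation.liftKaehlerDifferential_comp_D]
      exact hd p
    | zero => rw [map_zero]; exact zero_mem _
    | add x y _ _ hx hy => rw [map_add]; exact add_mem hx hy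
    | smul r x _ hx => rw [map_smul]; exact Ideal.mul_mem_left _ (π r) hx
  let B : C →ₗ[P] Ω[P⁄R] →ₗ[P] Q := LinearMap.mk₂ P (fun c ω => σ c * L ω)
    (fun c c' ω => by rw [map_add, add_mul])
    (fun p c ω => by
      rw [Algebra.smul_def, map_mul, show p • (σ c * L ω) = π p * (σ c * L ω) from rfl]
      have h0 := hmul _ (hd p) _ (hL ω)
      linear_combination (-σ c) * h0)
    (fun c ω ω' => by rw [map_add, mul_add])
    (fun p c ω => by
      rw [map_smul, show p • L ω = π p * L ω from rfl, show p • (σ c * L ω) = π p * (σ c * L ω) from rfl]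
      ring)
  have h1 := congrArg (TensorProduct.lift B) h
  rw [map_zero, TensorProduct.lift.tmul, LinearMap.mk₂_apply, map_one, one_mul,
    Derivation.liftKaehlerDifferential_comp_D] at h1
  have h2 : π a = 0 := by
    change π a - σ (algebraMap P C a) = 0 at h1
    rwa [ha, map_zero, sub_zero] at h1
  exact Ideal.Quotient.eq_zero_iff_mem.mp h2

open Groth.Agent.H06Mod Groth.Agent.H29Omega in
attribute [local instance] Groth.Agent.H06Mod.stalkAlgebra in
/-- The conormal differential of an immersion with formally smooth composite is injective on stalks. -/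
theorem injective_stalkLin {X' X Y : Scheme.{u}} (j : X' ⟶ X) [IsImmersion j] [QuasiCompact j] (f : X ⟶ Y)
    (hf : MoreMor.IsFormallySmoothHom (j ≫ f)) {Ω : X.Modules} {d : OmegaSh.Der f Ω} (hd : OmegaSh.IsUniversal d)
    {φ : Omega.conormal j ⟶ (Scheme.Modules.pullback j).obj Ω} (hφ : OmegaSh.IsConormalDiff j d φ) (x : X') :
    Function.Injective (stalkLin φ x) := by
  obtain ⟨e, he⟩ := exists_pullEquiv d hd j x
  letI : Algebra (Y.presheaf.stalk (f.base (j.base x))) (X'.presheaf.stalk x) :=
    ((j ≫ f).stalkMap x).hom.toAlgebra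
  haveI : IsScalarTower (Y.presheaf.stalk (f.base (j.base x))) (X.presheaf.stalk (j.base x))
      (X'.presheaf.stalk x) := .of_algebraMap_eq fun r =>
    congr($(congrArg CommRingCat.Hom.hom (Scheme.Hom.stalkMap_comp j f x)) r)
  haveI : Algebra.FormallySmooth (Y.presheaf.stalk (f.base (j.base x))) (X'.presheaf.stalk x) :=
    DiffStalk.formallySmooth_stalkMap (j ≫ f) hf x
  rw [injective_iff_map_eq_zero]
  intro v hv
  obtain ⟨a, rfl⟩ := H17.Conormal.exists_cgen_eq j x v
  have h0 := stalkLin_conormalDiff hφ x he a
  rw [hv, map_zero] at h0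
  have ha := mem_sq_of_tmul_D_eq_zero (R := Y.presheaf.stalk (f.base (j.base x)))
    (j.stalkMap_surjective x) a.2 h0.symm
  have hspan : ∀ (b : X.presheaf.stalk (j.base x)) (hb : b ∈ RingHom.ker (j.stalkMap x).hom ^ 2),
      cgen j x ⟨b, Ideal.pow_le_self two_ne_zero hb⟩ = 0 := by
    intro b hb
    rw [sq] at hb
    induction hb using Submodule.mul_induction_on' with
    | mem_mul_mem p hp q hq =>
      rw [show (⟨p * q, _⟩ : RingHom.ker (j.stalkMap x).hom) = p • ⟨q, hq⟩ from rfl, cgen_smul,
        RingHom.mem_ker.1 hp, zero_smul]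
    | add p hp q hq h1 h2 =>
      have e1 : (⟨p + q, _⟩ : RingHom.ker (j.stalkMap x).hom) =
          ⟨p, Ideal.pow_le_self two_ne_zero (by rw [sq]; exact hp)⟩ +
            ⟨q, Ideal.pow_le_self two_ne_zero (by rw [sq]; exact hq)⟩ := rfl
      rw [e1, map_add]
      exact (congrArg₂ (· + ·) (h1 (by rw [sq]; exact hp)) (h2 (by rw [sq]; exact hq))).trans (add_zero _)
  exact hspan a.1 ha

end Groth.Agent.H06Unram.ConormalInj
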