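import Mathlib
import Groth.Agent.H3CAlg.FiniteAlg

/-! Finite free algebras: etale iff the trace form is perfect. -/

universe u

set_option linter.style.haveILetI false

open TensorProduct

namespace Groth.Agent.H06Unram

variable {A B : Type u} [CommRing A] [CommRing B] [Algebra A B] [Module.Finite A B] [Module.Free A B]

omit [Module.Finite A B] [Module.Free A B] in
theorem trace_eq_sum_coord {ι : Type*} [Fintype ι] [DecidableEq ι] (b : Module.Basis ι A B) (s : B) :
    Algebra.trace A B s = ∑ i, b.repr (s * b i) i := by
  rw [Algebra.trace_eq_matrix_trace b, Matrix.trace]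
  refine Finset.sum_congr rfl fun i _ => ?_
  rw [Matrix.diag_apply, Algebra.leftMulMatrix_eq_repr_mul]

theorem bijective_traceForm_of_formallyUnramified [Algebra.FormallyUnramified A B] :
    Function.Bijective (Algebra.traceForm A B) := by
  classical
  haveI : Algebra.EssFiniteType A B := inferInstance
  obtain ⟨t, ht1, ht2⟩ := Algebra.FormallyUnramified.iff_exists_tensorProduct.mp
    (inferInstance : Algebra.FormallyUnramified A B)
  set b := Module.Free.chooseBasis A B
  set c : Module.Free.ChooseBasisIndex A B → B :=
    fun i => TensorProduct.equivFinsuppOfBasisLeft b t i with hc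
  let Ev : Module.Dual A B → B ⊗[A] B →ₗ[A] B := fun φ =>
    (TensorProduct.lid A B).toLinearMap ∘ₗ φ.rTensor B
  have hEv : ∀ φ, Ev φ t = ∑ i, φ (b i) • c i := by
    intro φ
    have ht : t = ∑ i, b i ⊗ₜ[A] c i := by
      conv_lhs => rw [← (TensorProduct.equivFinsuppOfBasisLeft b).symm_apply_apply t]
      rw [TensorProduct.equivFinsuppOfBasisLeft_symm_apply, Finsupp.sum_fintype]
      simp
    conv_lhs => rw [ht]
    simp [Ev]
  have hcomm : ∀ (φ : Module.Dual A B) (s : B),
      Ev (φ ∘ₗ LinearMap.mulLeft A s) t = s * Ev φ t := by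
    intro φ s
    have h1 : ∀ z : B ⊗[A] B, Ev φ ((s ⊗ₜ[A] (1 : B)) * z) = Ev (φ ∘ₗ LinearMap.mulLeft A s) z := by
      intro z
      induction z using TensorProduct.induction_on with
      | zero => simp
      | tmul x y => simp [Ev]
      | add x y hx hy => simp [mul_add, hx, hy]
    have h2 : ∀ z : B ⊗[A] B, Ev φ (((1 : B) ⊗ₜ[A] s) * z) = s * Ev φ z := by
      intro z
      induction z using TensorProduct.induction_on with
      | zero => simp
      | tmul x y => simp [Ev]
      | add x y hx hy => simp [mul_add, hx, hy]
    have h3 := ht1 s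
    rw [sub_mul, sub_eq_zero] at h3
    rw [← h1, ← h2, h3]
  let Θ : Module.Dual A B →ₗ[A] B :=
    { toFun := fun φ => ∑ i, φ (b i) • c i
      map_add' := fun φ ψ => by simp [add_smul, Finset.sum_add_distrib]
      map_smul' := fun a φ => by simp [mul_smul, Finset.smul_sum] }
  have hΘ : ∀ φ, Θ φ = Ev φ t := fun φ => (hEv φ).symm
  have htr : Θ (Algebra.trace A B) = 1 := by
    have e : Algebra.trace A B = ∑ j, (b.coord j) ∘ₗ LinearMap.mulLeft A (b j) := by
      ext s
      rw [trace_eq_sum_coord b, LinearMap.sum_apply]
      exact Finset.sum_congr rfl fun i _ => by simp [mul_comm]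
    have h4 : ∑ j, b j * c j = 1 := by
      rw [← ht2]
      conv_rhs => rw [← (TensorProduct.equivFinsuppOfBasisLeft b).symm_apply_apply t]
      rw [TensorProduct.equivFinsuppOfBasisLeft_symm_apply, Finsupp.sum_fintype _ _ (by simp),
        map_sum]
      exact Finset.sum_congr rfl fun i _ => (Algebra.TensorProduct.lmul'_apply_tmul _ _).symm
    rw [e, map_sum]
    refine Eq.trans (Finset.sum_congr rfl fun j _ => ?_) h4
    rw [hΘ, hcomm, ← hΘ]
    congr 1
    simp only [Θ, LinearMap.coe_mk, AddHom.coe_mk, Module.Basis.coord_apply, Module.Basis.repr_self,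
      Finsupp.single_apply, ite_smul, one_smul, zero_smul, Finset.sum_ite_eq', Finset.mem_univ,
      if_true]
  have hinv : Function.LeftInverse Θ (Algebra.traceForm A B) := fun y => by
    have : (Algebra.traceForm A B y : Module.Dual A B) =
        Algebra.trace A B ∘ₗ LinearMap.mulLeft A y := by
      ext s; simp [Algebra.traceForm_apply]
    rw [this, hΘ, hcomm, ← hΘ, htr, mul_one]
  let e : B ≃ₗ[A] Module.Dual A B := b.toDualEquiv
  have hbij : Function.Bijective (Θ ∘ₗ e.toLinearMap) :=
    OrzechProperty.bijective_of_surjective_endomorphism _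
      (hinv.rightInverse.surjective.comp e.surjective)
  have hΘbij : Function.Bijective Θ := by
    have : Function.Bijective ((Θ ∘ₗ e.toLinearMap) ∘ e.symm) := hbij.comp e.symm.bijective
    simpa [Function.comp_def] using this
  exact ⟨hinv.injective, fun φ => ⟨Θ φ, hΘbij.1 (hinv _)⟩⟩

theorem formallyUnramified_of_bijective_traceForm
    (h : Function.Bijective (Algebra.traceForm A B)) : Algebra.FormallyUnramified A B := by
  classical
  set b := Module.Free.chooseBasis A B
  let T : B ≃ₗ[A] Module.Dual A B := LinearEquiv.ofBijective (Algebra.traceForm A B) h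
  set b' : Module.Free.ChooseBasisIndex A B → B := fun i => T.symm (b.coord i)
  have hb' : ∀ i s, Algebra.trace A B (b' i * s) = b.repr s i := fun i s => by
    have : T (b' i) = b.coord i := T.apply_symm_apply _
    exact LinearMap.congr_fun this s
  have hexp : ∀ s, s = ∑ j, Algebra.trace A B (b' j * s) • b j := fun s => by
    simp only [hb']
    exact (b.sum_repr s).symm
  have hexp' : ∀ y, y = ∑ j, Algebra.trace A B (y * b j) • b' j := fun y => by
    apply T.injective
    rw [map_sum]
    apply b.ext
    intro i
    simp only [map_smul, LinearMap.coe_sum, Finset.sum_apply, LinearMap.smul_apply, b',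
      LinearEquiv.apply_symm_apply, Module.Basis.coord_apply, Module.Basis.repr_self]
    simp [T, Finsupp.single_apply, Algebra.traceForm_apply]
  rw [Algebra.FormallyUnramified.iff_exists_tensorProduct]
  refine ⟨∑ i, b i ⊗ₜ[A] b' i, fun s => ?_, ?_⟩
  · rw [sub_mul, sub_eq_zero, Finset.mul_sum, Finset.mul_sum]
    simp only [Algebra.TensorProduct.tmul_mul_tmul, one_mul]
    calc ∑ i, b i ⊗ₜ[A] (s * b' i)
        = ∑ i, b i ⊗ₜ[A] (∑ j, Algebra.trace A B (s * b' i * b j) • b' j) :=
          Finset.sum_congr rfl fun i _ => by rw [← hexp']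
      _ = ∑ j, (∑ i, Algebra.trace A B (b' i * (s * b j)) • b i) ⊗ₜ[A] b' j := by
          simp only [TensorProduct.tmul_sum, TensorProduct.sum_tmul]
          rw [Finset.sum_comm]
          refine Finset.sum_congr rfl fun j _ => Finset.sum_congr rfl fun i _ => ?_
          rw [TensorProduct.smul_tmul, show b' i * (s * b j) = s * b' i * b j by ring]
      _ = ∑ j, (s * b j) ⊗ₜ[A] b' j := Finset.sum_congr rfl fun j _ => by rw [← hexp]
  · apply T.injective
    ext y
    simp only [T, LinearEquiv.ofBijective_apply, Algebra.traceForm_apply, one_mul]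
    rw [map_sum, Finset.sum_mul, map_sum, trace_eq_sum_coord b y]
    refine Finset.sum_congr rfl fun i _ => ?_
    rw [Algebra.TensorProduct.lmul'_apply_tmul, show b i * b' i * y = b' i * (y * b i) by ring, hb']

theorem etale_iff_bijective_traceForm :
    Algebra.Etale A B ↔ Function.Bijective (Algebra.traceForm A B) := by
  refine ⟨fun _ => bijective_traceForm_of_formallyUnramified, fun h => ?_⟩
  haveI := formallyUnramified_of_bijective_traceForm h
  haveI : Module.FinitePresentation A B := Module.finitePresentation_of_projective A B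
  haveI : Algebra.FinitePresentation A B := Algebra.FinitePresentation.of_finitePresentation A B
  exact Algebra.Etale.of_formallyUnramified_of_flat

theorem trace_surjective [Algebra.FormallyUnramified A B] [Module.FaithfullyFlat A B] :
    Function.Surjective (Algebra.trace A B) := by
  classical
  intro a
  rcases subsingleton_or_nontrivial A with h | h
  · exact ⟨0, Subsingleton.elim _ _⟩
  · haveI : Nontrivial B := (FaithfulSMul.algebraMap_injective A B).nontrivial
    set b := Module.Free.chooseBasis A B
    obtain ⟨i⟩ := b.index_nonempty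
    obtain ⟨y, hy⟩ := bijective_traceForm_of_formallyUnramified.2 (a • b.coord i)
    exact ⟨y * b i, by simpa [Algebra.traceForm_apply] using LinearMap.congr_fun hy (b i)⟩

theorem exists_nilpotent_of_not_isSeparable (k E K : Type u) [Field k] [Field E]
    [Algebra k E] [FiniteDimensional k E] [Field K] [Algebra k K] [IsAlgClosure k K]
    (h : ¬ Algebra.IsSeparable k E) : ∃ x : E ⊗[k] K, x ≠ 0 ∧ IsNilpotent x := by
  haveI : IsAlgClosed K := IsAlgClosure.isAlgClosed k
  by_contra! hno
  haveI : IsReduced (K ⊗[k] E) := ⟨fun x hx => by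
    by_contra hx0
    exact hno (Algebra.TensorProduct.comm k K E x)
      (fun h0 => hx0 ((Algebra.TensorProduct.comm k K E).injective (by rw [h0, map_zero])))
      (hx.map _)⟩
  haveI := H3CAlg.formallyEtale_of_finite_isReduced K (K ⊗[k] E)
  letI := Algebra.TensorProduct.rightAlgebra (R := k) (A := K) (B := E)
  have h0 : Subsingleton (K ⊗[k] KaehlerDifferential k E) :=
    (KaehlerDifferential.tensorKaehlerEquivBase k K E (K ⊗[k] E)).toEquiv.subsingleton
  haveI : Algebra.FormallyUnramified k E :=
    ⟨(Module.FaithfullyFlat.subsingleton_tensorProduct_iff_right k K).mp h0⟩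
  exact h (Algebra.FormallyUnramified.isSeparable k E)

end Groth.Agent.H06Unram
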