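import Groth.Agent.H8Props.FieldDimFormula
import Groth.Agent.H8Props.FieldDimSmooth
import Groth.Agent.H06Equidim.Basic
import Groth.Agent.H06EGA9.AtPoint

/-!
# Injectivity of stalk maps from equality of dimensions (EGA IV 17.11.5)
-/

set_option autoImplicit false
set_option linter.style.haveILetI false
set_option backward.isDefEq.respectTransparency false
universe u

open CategoryTheory CategoryTheory.Limits AlgebraicGeometry

namespace Groth.Agent.H06Unram.DimInjective

open Groth.Agent.H8Props.FieldDim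

/-- A locally of finite type, formally unramified morphism is locally quasi-finite. -/
theorem locallyQuasiFinite_of_formallyUnramified {X Y : Scheme.{u}} (f : X ⟶ Y) [LocallyOfFiniteType f]
    [FormallyUnramified f] : LocallyQuasiFinite f := by
  rw [HasRingHomProperty.iff_appLE (P := @LocallyQuasiFinite)]
  intro U V e
  have h1 := f.formallyUnramified_appLE U.2 V.2 e
  have h2 := f.finiteType_appLE U.2 V.2 e
  algebraize [(f.appLE U.1 V.1 e).hom]
  exact (inferInstance : Algebra.QuasiFinite Γ(Y, U.1) Γ(X, V.1))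

/-- The fibre dimension vanishes at an unramified point. -/
theorem fibreDimAt_eq_zero_of_mem_unramSet {X Y : Scheme.{u}} (f : X ⟶ Y) [LocallyOfFiniteType f] {x : X}
    (hx : x ∈ H06EGA9.unramSet f) : FlatMor.fibreDimAt f x = 0 := by
  obtain ⟨U, hxU, _⟩ := H06EGA9.exists_nhd_of_mem_unramSet f hx
  let z : U.toScheme := ⟨x, hxU⟩
  haveI := locallyQuasiFinite_of_formallyUnramified (U.ι ≫ f)
  exact (H06Equidim.fibreDimAt_opens_ι f U z).symm.trans (fibreDimAt_eq_zero_of_lqf (U.ι ≫ f) z)

theorem injective_of_dim_le {B C : Type u} [CommRing B] [CommRing C] [IsDomain B] [IsLocalRing B]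
    [IsLocalRing C] [IsNoetherianRing B] [IsNoetherianRing C] (ψ : B →+* C) [IsLocalHom ψ]
    (hfib : ringKrullDim (C ⧸ (IsLocalRing.maximalIdeal B).map ψ) ≤ 0)
    (hdim : ringKrullDim B ≤ ringKrullDim C) : Function.Injective ψ := by
  algebraize [ψ]
  refine (injective_iff_map_eq_zero ψ).mpr fun b hb => ?_
  by_contra hb0
  haveI : IsLocalHom (algebraMap B C) := ‹IsLocalHom ψ›
  have h1 := H05EGA4.dimLocalHomQuot B C (Ideal.span {b}) ⊥
    ((Ideal.span_singleton_le_iff_mem _).mpr hb)
  rw [bot_sup_eq, ringKrullDim_eq_of_ringEquiv (RingEquiv.quotientBot C)] at h1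
  have h2 := ringKrullDim_quotient_succ_le_of_nonZeroDivisor (mem_nonZeroDivisors_of_ne_zero hb0)
  have h3 : ringKrullDim B ≤ ringKrullDim (B ⧸ Ideal.span {b}) :=
    hdim.trans (h1.trans ((add_le_add le_rfl hfib).trans (add_zero _).le))
  obtain ⟨n, hn⟩ : ∃ n : ℕ, ringKrullDim B = (n : WithBot ℕ∞) := by
    obtain ⟨n, hn⟩ := WithBot.ne_bot_iff_exists.mp
      (ne_bot_of_le_ne_bot WithBot.zero_ne_bot (ringKrullDim_nonneg_of_nontrivial (R := B)))
    have hlt : ringKrullDim B < ⊤ := ringKrullDim_lt_top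
    rw [← hn] at hlt
    obtain ⟨m, rfl⟩ := ENat.ne_top_iff_exists.mp (WithBot.coe_lt_coe.mp hlt).ne
    exact ⟨m, hn.symm⟩
  have h4 := (add_le_add h3 (le_refl (1 : WithBot ℕ∞))).trans h2
  rw [hn] at h4
  norm_cast at h4
  omega

theorem le_of_le_add_nat {a c : WithBot ℕ∞} (b : ℕ) (h : a + b ≤ c + b) : a ≤ c := by
  cases a with
  | bot => exact bot_le
  | coe a => cases c with
    | bot => simp at h
    | coe c =>
      rw [← WithBot.coe_natCast, ← WithBot.coe_add, ← WithBot.coe_add, WithBot.coe_le_coe] at h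
      exact WithBot.coe_le_coe.mpr ((ENat.add_le_add_iff_right (ENat.natCast_ne_top b)).mp h)

/-- Injectivity of the stalk map at a point with zero fibre dimension and no drop in local dimension,
over a domain. -/
theorem injective_stalkMap {k : Type u} [Field k] {Z' Z : Scheme.{u}}
    (p : Z ⟶ Spec (CommRingCat.of k)) [LocallyOfFiniteType p] (φ : Z' ⟶ Z) [LocallyOfFiniteType φ]
    (z : Z') (h0 : FlatMor.fibreDimAt φ z = 0) [IsDomain (Z.presheaf.stalk (φ z))]
    (he : FlatMor.localDim Z' z = FlatMor.localDim Z (φ z)) : Function.Injective (φ.stalkMap z) := by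
  haveI : IsLocallyNoetherian Z := LocallyOfFiniteType.isLocallyNoetherian p
  haveI : IsLocallyNoetherian Z' := LocallyOfFiniteType.isLocallyNoetherian φ
  obtain ⟨a, ha, ha'⟩ := fibreDimAt_eq φ z
  haveI : Nontrivial (Z'.presheaf.stalk z ⧸
      (IsLocalRing.maximalIdeal (Z.presheaf.stalk (φ z))).map (φ.stalkMap z).hom) :=
    Ideal.Quotient.nontrivial_iff.mpr (ne_top_of_le_ne_top
      (IsLocalRing.maximalIdeal.isMaximal _).ne_top (IsLocalRing.map_maximalIdeal_le (φ.stalkMap z).hom))
  rw [h0] at ha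
  have hd0 : 0 ≤ ringKrullDim (Z'.presheaf.stalk z ⧸
      (IsLocalRing.maximalIdeal (Z.presheaf.stalk (φ z))).map (φ.stalkMap z).hom) :=
    ringKrullDim_nonneg_of_nontrivial
  have ha0 : a = 0 := by
    have : (a : WithBot ℕ∞) ≤ 0 := by
      calc (a : WithBot ℕ∞) = 0 + a := (zero_add _).symm
        _ ≤ _ + a := add_le_add hd0 le_rfl
        _ = 0 := ha.symm
    exact_mod_cast Nat.le_zero.mp (by exact_mod_cast this)
  subst ha0
  rw [Nat.cast_zero, add_zero] at ha
  let θ := Spec.preimage (Z.fromSpecResidueField (φ z) ≫ p)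
  letI : Algebra k (Z.residueField (φ z)) := θ.hom.toAlgebra
  letI : Algebra (Z.residueField (φ z)) (Z'.residueField z) := (φ.residueFieldMap z).hom.toAlgebra
  letI : Algebra k (Z'.residueField z) :=
    ((algebraMap (Z.residueField (φ z)) (Z'.residueField z)).comp
      (algebraMap k (Z.residueField (φ z)))).toAlgebra
  haveI : IsScalarTower k (Z.residueField (φ z)) (Z'.residueField z) :=
    IsScalarTower.of_algebraMap_eq fun _ => rfl
  have hY : Z.fromSpecResidueField (φ z) ≫ p =
      Spec.map (CommRingCat.ofHom (algebraMap k (Z.residueField (φ z)))) := (Spec.map_preimage _).symm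
  have hz : Z'.fromSpecResidueField z ≫ φ ≫ p =
      Spec.map (CommRingCat.ofHom (algebraMap k (Z'.residueField z))) := by
    rw [← Scheme.Hom.SpecMap_residueFieldMap_fromSpecResidueField_assoc, hY, ← Spec.map_comp]
    rfl
  obtain ⟨c, hc, hc'⟩ := exists_trdeg (φ ≫ p) (L := Z'.residueField z) (Z'.fromSpecResidueField z) hz
    (IsLocalRing.closedPoint _)
  obtain ⟨b, hb, hb'⟩ := exists_trdeg p (L := Z.residueField (φ z)) (Z.fromSpecResidueField (φ z)) hY
    (IsLocalRing.closedPoint _)
  erw [Scheme.fromSpecResidueField_apply] at hc hb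
  haveI : FaithfulSMul (Z.residueField (φ z)) (Z'.residueField z) :=
    (faithfulSMul_iff_algebraMap_injective _ _).mpr (RingHom.injective _)
  have hadd := trdeg_add_eq k (Z.residueField (φ z)) (A := Z'.residueField z)
  have hcb : c = b := by
    rw [hc', hb'] at hadd
    erw [ha'] at hadd
    exact_mod_cast (by simpa using hadd.symm)
  rw [localDim_eq_stalk_add_cdim (φ ≫ p), localDim_eq_stalk_add_cdim p, hc, hb, hcb] at he
  refine injective_of_dim_le (φ.stalkMap z).hom ha.symm.le ?_
  exact le_of_le_add_nat b he.ge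
end Groth.Agent.H06Unram.DimInjective
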