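import Mathlib.AlgebraicGeometry.Morphisms.FormallyUnramified
import Mathlib.AlgebraicGeometry.Morphisms.Separated
import Mathlib.AlgebraicGeometry.Fiber

/-!
# The open locus of agreement of two morphisms into an unramified scheme
-/

set_option autoImplicit false
set_option linter.style.haveILetI false
universe u

open CategoryTheory CategoryTheory.Limits AlgebraicGeometry TopologicalSpace

namespace Groth.Agent.H06Unram.AgreeOpen

variable {X Y S : Scheme.{u}} (h : Y ⟶ S) [FormallyUnramified h] [LocallyOfFiniteType h] (f g : X ⟶ Y)
  (w : g ≫ h = f ≫ h)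

/-- The open subset on which the two morphisms agree. -/
noncomputable def agree : X.Opens :=
  pullback.lift f g w.symm ⁻¹ᵁ (pullback.diagonal h).opensRange

theorem agree_spec {U : X.Opens} (hU : U ≤ agree h f g w) : U.ι ≫ f = U.ι ≫ g := by
  have hr : Set.range (U.ι ≫ pullback.lift f g w.symm) ⊆ Set.range (pullback.diagonal h) := by
    rintro _ ⟨z, rfl⟩
    exact hU z.2
  let k := IsOpenImmersion.lift (pullback.diagonal h) (U.ι ≫ pullback.lift f g w.symm) hr
  have hk : k ≫ pullback.diagonal h = U.ι ≫ pullback.lift f g w.symm := IsOpenImmersion.lift_fac _ _ _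
  have h1 := congrArg (· ≫ pullback.fst h h) hk
  have h2 := congrArg (· ≫ pullback.snd h h) hk
  simp only [Category.assoc, pullback.diagonal_fst, pullback.diagonal_snd, pullback.lift_fst,
    pullback.lift_snd, Category.comp_id] at h1 h2
  rw [← h1, ← h2]

theorem mem_agree_of_comp_eq {T : Scheme.{u}} (t : T ⟶ X) (ht : t ≫ f = t ≫ g) (z : T) :
    t z ∈ agree h f g w := by
  have h1 : t ≫ pullback.lift f g w.symm = (t ≫ f) ≫ pullback.diagonal h := by
    apply pullback.hom_ext <;>
      simp only [Category.assoc, pullback.lift_fst, pullback.lift_snd, pullback.diagonal_fst,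
        pullback.diagonal_snd, Category.comp_id, ht]
  exact ⟨(t ≫ f) z, congr($(h1.symm) z)⟩

theorem isClosed_agree [IsSeparated h] : IsClosed (agree h f g w : Set X) := by
  have : IsClosedImmersion (pullback.diagonal h) := IsSeparated.diagonal_isClosedImmersion
  exact (pullback.diagonal h).isClosedEmbedding.isClosed_range.preimage
    (pullback.lift f g w.symm).continuous

end Groth.Agent.H06Unram.AgreeOpen
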