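import Groth.Agent.H06Unram.QRSection
import Groth.Agent.H06EGA8.DescendThree
import Groth.Agent.H7Lim.Topology

/-!
# Differential smoothness and limits (EGA IV 17.12)
-/

set_option autoImplicit false
set_option linter.style.haveILetI false
set_option backward.isDefEq.respectTransparency false
set_option linter.unusedSectionVars false
universe u

open CategoryTheory CategoryTheory.Limits AlgebraicGeometry TopologicalSpace

namespace Groth.Agent.H06Unram.DiffSmoothLim

section square

variable {X Y X' Y' : Scheme.{u}} {f : X ⟶ Y} {f' : X' ⟶ Y'} {p : X' ⟶ X} {q : Y' ⟶ Y}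
  (h : IsPullback p f' f q)

/-- The map of self products induced by a cartesian square. -/
noncomputable def diagMap : pullback f' f' ⟶ pullback f f :=
  pullback.map f' f' f f p p q h.w.symm h.w.symm

theorem isPullback_diagMap :
    IsPullback (diagMap h) (pullback.snd f' f') (pullback.snd f f) p := by
  refine IsPullback.of_right (h₁₂ := pullback.fst f f) (h₂₂ := f) (v₁₃ := f) ?_ (by simp [diagMap])
    (IsPullback.of_hasPullback f f)
  rw [show diagMap h ≫ pullback.fst f f = pullback.fst f' f' ≫ p by simp [diagMap], h.w]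
  exact (IsPullback.of_hasPullback f' f').paste_horiz h

theorem diagonal_diagMap : pullback.diagonal f' ≫ diagMap h = p ≫ pullback.diagonal f := by
  apply pullback.hom_ext <;> simp [diagMap]

include h in
/-- Smoothness along the diagonal is stable under base change. -/
theorem diag_mem_smoothLocus_of_isPullback [LocallyOfFinitePresentation f] [LocallyOfFinitePresentation f']
    (x' : X')
    (hx : pullback.diagonal f (p x') ∈ (pullback.snd f f).smoothLocus) :
    pullback.diagonal f' x' ∈ (pullback.snd f' f').smoothLocus := by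
  refine H17.LocusBC.preimage_smoothLocus_le (isPullback_diagMap h) ?_
  show diagMap h (pullback.diagonal f' x') ∈ (pullback.snd f f).smoothLocus
  rw [← Scheme.Hom.comp_apply, diagonal_diagMap, Scheme.Hom.comp_apply]
  exact hx

end square

variable {I : Type u} [Category.{u} I] [IsCofiltered I] {D : I ⥤ Scheme.{u}} {c : Cone D}
  [∀ (i j : I) (f : i ⟶ j), IsAffineHom (D.map f)] (hc : IsLimit c) {i₀ : I}
  {X₀ : Scheme.{u}} (f₀ : X₀ ⟶ D.obj i₀) [LocallyOfFinitePresentation f₀]

/-- The open of a stage along which the base change is smooth over the diagonal. -/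
noncomputable def stageOpen (k : Over i₀) : Opens ↥((H7Lim.pbDiagram D i₀ f₀).obj k) :=
  (pullback.diagonal (pullback.snd f₀ (D.map k.hom))) ⁻¹ᵁ
    (pullback.snd (pullback.snd f₀ (D.map k.hom)) (pullback.snd f₀ (D.map k.hom))).smoothLocus

theorem preimage_stageOpen_le {j k : Over i₀} (t : j ⟶ k) :
    (H7Lim.pbDiagram D i₀ f₀).map t ⁻¹ᵁ stageOpen f₀ k ≤ stageOpen f₀ j :=
  fun x hx => diag_mem_smoothLocus_of_isPullback (H7Lim.isPullback_pbDiagram_map D i₀ f₀ t) x hx

include hc in
theorem exists_mem_stageOpen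
    (h : ∀ x, pullback.diagonal (pullback.snd f₀ (c.π.app i₀)) x ∈
      (pullback.snd (pullback.snd f₀ (c.π.app i₀)) (pullback.snd f₀ (c.π.app i₀))).smoothLocus)
    (x : (H7Lim.pbCone D c i₀ f₀).pt) :
    ∃ k : Over i₀, (H7Lim.pbCone D c i₀ f₀).π.app k x ∈ stageOpen f₀ k := by
  let f := pullback.snd f₀ (c.π.app i₀)
  have hX : IsPullback (pullback.fst f₀ (c.π.app i₀)) f f₀ (c.π.app i₀) := IsPullback.of_hasPullback _ _
  obtain ⟨j, φ, Pj, Yj, sj, gj, pY, pP, rX, hYj, hPj, hr₁, hr₂, V, hxV, hV⟩ :=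
    (H06EGA8.exists_descend_at_iff hc (P := @Smooth) H06EGA8.descendsAffine_smooth
      (fun u v _ h => by haveI : Smooth u := h; exact (inferInstance : Smooth (u ≫ v))) i₀
      (pullback.snd f₀ f₀) f₀ (f := pullback.snd f f) (g := f) hX (isPullback_diagMap hX)
      (pullback.diagonal f x)).mp
    ((H17.LocusBC.mem_smoothLocus_iff_exists _ _).mp (h x))
  haveI : LocallyOfFinitePresentation gj := MorphismProperty.of_isPullback hYj ‹_›
  let rY : (H7Lim.pbCone D c i₀ f₀).pt ⟶ Yj :=
    hYj.lift (pullback.fst f₀ (c.π.app i₀)) (f ≫ c.π.app j) (by rw [hX.w, Category.assoc, c.w])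
  let e := hPj.isoIsPullback _ _ (isPullback_diagMap hYj)
  have he₁ : e.hom ≫ diagMap hYj = pP := hPj.isoIsPullback_hom_fst _ _ _
  have he₂ : e.hom ≫ pullback.snd gj gj = sj := hPj.isoIsPullback_hom_snd _ _ _
  have hrd : pullback.diagonal f ≫ rX ≫ e.hom = rY ≫ pullback.diagonal gj := by
    have hkey : (pullback.diagonal f ≫ rX ≫ e.hom) ≫ pullback.snd gj gj = rY := by
      apply hYj.hom_ext
      · rw [hYj.lift_fst]
        simp only [Category.assoc, reassoc_of% he₂, ← hPj.w, reassoc_of% hr₁]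
        simp [diagMap]
      · rw [hYj.lift_snd]
        have := congrArg (fun m => pullback.diagonal f ≫ m) hr₂
        simp only [Category.assoc, reassoc_of% he₂] at this ⊢
        rw [this]
        simp
    apply pullback.hom_ext
    · simp only [Category.assoc, pullback.diagonal_fst, Category.comp_id]
      apply hYj.hom_ext
      · rw [hYj.lift_fst]
        have h1 : pullback.fst gj gj ≫ pY = diagMap hYj ≫ pullback.fst f₀ f₀ := by simp [diagMap]
        simp only [Category.assoc, h1, reassoc_of% he₁, reassoc_of% hr₁]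
        simp [diagMap]
      · rw [hYj.lift_snd]
        simp only [Category.assoc, pullback.condition, reassoc_of% he₂]
        rw [hr₂]
        simp
    · rw [hkey]
      simp
  have hmem : pullback.diagonal gj (rY x) ∈ (pullback.snd gj gj).smoothLocus := by
    rw [← Scheme.Hom.comp_apply, ← hrd, Scheme.Hom.comp_apply, Scheme.Hom.comp_apply]
    haveI : LocallyOfFinitePresentation sj := he₂ ▸ inferInstance
    refine H17.LocusBC.preimage_smoothLocus_le (IsPullback.of_horiz_isIso (g := 𝟙 Yj) (fst := e.inv)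
      (snd := pullback.snd gj gj) (f := sj) ⟨by rw [← he₂, e.inv_hom_id_assoc, Category.comp_id]⟩) ?_
    show e.inv (e.hom (rX (pullback.diagonal f x))) ∈ sj.smoothLocus
    rw [← Scheme.Hom.comp_apply e.hom, e.hom_inv_id]
    exact (H17.LocusBC.mem_smoothLocus_iff_exists _ _).mpr ⟨V, hxV, hV⟩
  let k : Over i₀ := Over.mk φ
  refine ⟨k, diag_mem_smoothLocus_of_isPullback (p := hYj.isoPullback.inv) (q := 𝟙 _)
    (f := gj) (f' := pullback.snd f₀ (D.map φ)) (IsPullback.of_horiz_isIso ⟨by simp⟩) ((H7Lim.pbCone D c i₀ f₀).π.app k x) ?_⟩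
  have h2 : (H7Lim.pbCone D c i₀ f₀).π.app k ≫ hYj.isoPullback.inv = rY := by
    apply hYj.hom_ext <;> simp [rY, k, f]
  have h3 : hYj.isoPullback.inv ((H7Lim.pbCone D c i₀ f₀).π.app k x) = rY x :=
    congrArg (fun m => m.base x) h2
  exact h3.symm ▸ hmem

include hc in
/-- Differential smoothness descends to a stage of the limit. -/
theorem exists_stage_forall [CompactSpace X₀]
    (h : ∀ x, pullback.diagonal (pullback.snd f₀ (c.π.app i₀)) x ∈
      (pullback.snd (pullback.snd f₀ (c.π.app i₀)) (pullback.snd f₀ (c.π.app i₀))).smoothLocus) :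
    ∃ (j : I) (φ : j ⟶ i₀), ∀ x, pullback.diagonal (pullback.snd f₀ (D.map φ)) x ∈
      (pullback.snd (pullback.snd f₀ (D.map φ)) (pullback.snd f₀ (D.map φ))).smoothLocus := by
  let D' := H7Lim.pbDiagram D i₀ f₀
  let c' := H7Lim.pbCone D c i₀ f₀
  have hc' : IsLimit c' := H7Lim.isLimitPbCone D i₀ f₀ hc
  haveI : CompactSpace c'.pt := H7Lim.compactSpace_pt_of_isAffineHom hc' (Over.mk (𝟙 i₀))
  obtain ⟨t, ht⟩ := isCompact_univ.elim_finite_subcover (fun k => ((c'.π.app k ⁻¹ᵁ stageOpen f₀ k : c'.pt.Opens) : Set c'.pt))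
    (fun k => (c'.π.app k ⁻¹ᵁ stageOpen f₀ k).2)
    (fun x _ => Set.mem_iUnion.mpr (exists_mem_stageOpen hc f₀ h x))
  obtain ⟨k, hk⟩ := IsCofiltered.inf_objs_exists t
  haveI : CompactSpace (D'.obj k) := inferInstance
  have hcov : c'.π.app k ⁻¹' (stageOpen f₀ k : Set _)ᶜ = ∅ := by
    refine Set.eq_empty_iff_forall_notMem.mpr fun x hx => hx ?_
    obtain ⟨a, ha, hxa⟩ := Set.mem_iUnion₂.mp (ht (Set.mem_univ x))
    refine preimage_stageOpen_le f₀ (hk ha).some ?_
    show D'.map (hk ha).some (c'.π.app k x) ∈ stageOpen f₀ a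
    rw [← Scheme.Hom.comp_apply, c'.w]
    exact hxa
  have hqc : H7Lim.QCImage (stageOpen f₀ k : Set (D'.obj k))ᶜ := by
    have h1 := (H7Lim.qcImage_of_isOpen_isCompact (X := D'.obj k) isOpen_univ isCompact_univ).inter_isClosed
      (stageOpen f₀ k).2.isClosed_compl
    rwa [Set.univ_inter] at h1
  obtain ⟨j, t', hj⟩ := hqc.exists_preimage_eq_empty hc' hcov
  refine ⟨j.left, j.hom, fun x => preimage_stageOpen_le f₀ t' ?_⟩
  by_contra hx
  exact (Set.eq_empty_iff_forall_notMem.mp hj x) hx

include hc in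
/-- A morphism is differentially smooth over a limit iff it is so at a finite stage. -/
theorem isRegularImmersion_diagonal_iff [CompactSpace X₀] {X : Scheme.{u}} (f : X ⟶ c.pt) (qX : X ⟶ X₀)
    (hX : IsPullback qX f f₀ (c.π.app i₀)) :
    RegImm.IsRegularImmersion .quasi (pullback.diagonal f) ↔
      ∃ (j : I) (φ : j ⟶ i₀) (Xj : Scheme.{u}) (fj : Xj ⟶ D.obj j) (pX : Xj ⟶ X₀),
        IsPullback pX fj f₀ (D.map φ) ∧ RegImm.IsRegularImmersion .quasi (pullback.diagonal fj) := by
  haveI : LocallyOfFinitePresentation f := MorphismProperty.of_isPullback hX ‹_›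
  rw [QRSection.isRegularImmersion_iff (pullback.snd f f) _ (pullback.diagonal_snd f)]
  constructor
  · intro h
    obtain ⟨j, φ, hj⟩ := exists_stage_forall hc f₀ fun x =>
      diag_mem_smoothLocus_of_isPullback (p := hX.isoPullback.inv) (q := 𝟙 _) (f := f)
        (f' := pullback.snd f₀ (c.π.app i₀)) (IsPullback.of_horiz_isIso ⟨by simp⟩) x (h _)
    exact ⟨j, φ, _, _, _, IsPullback.of_hasPullback f₀ (D.map φ),
      (QRSection.isRegularImmersion_iff _ _ (pullback.diagonal_snd _)).mpr hj⟩
  · rintro ⟨j, φ, Xj, fj, pX, hXj, hj⟩ x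
    haveI : LocallyOfFinitePresentation fj := MorphismProperty.of_isPullback hXj ‹_›
    let r : X ⟶ Xj := hXj.lift qX (f ≫ c.π.app j) (by rw [hX.w, Category.assoc, c.w])
    have hr : IsPullback r f fj (c.π.app j) :=
      IsPullback.of_right (h₁₂ := pX) (h₂₂ := D.map φ) (v₁₃ := f₀)
        (by rw [hXj.lift_fst, c.w]; exact hX) (hXj.lift_snd _ _ _) hXj
    exact diag_mem_smoothLocus_of_isPullback hr x
      ((QRSection.isRegularImmersion_iff _ _ (pullback.diagonal_snd fj)).mp hj (r x))

end Groth.Agent.H06Unram.DiffSmoothLim
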