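import Groth.Agent.H06Unram.EtalePoly

/-!
# Parameters and residue differentials (EGA IV 17.15.3, d)
-/

set_option autoImplicit false
set_option linter.style.haveILetI false
set_option backward.isDefEq.respectTransparency false
universe u v

namespace Groth.Agent.H06Unram.EtaleParams

open IsLocalRing TensorProduct

section Differentials

variable {k : Type u} [CommRing k] {R : Type v} [CommRing R] [IsLocalRing R] [Algebra k R]
  {ι : Type*} (g : ι → R) (s t : Set ι)

/-- If the differentials of `g` span, the differentials of the residue classes of those `g i` not in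
the maximal ideal span the differentials of the residue field. -/
theorem span_residue_eq_top
    (h : Submodule.span R (Set.range fun i => KaehlerDifferential.D k R (g i)) = ⊤)
    (hg : ∀ i, i ∈ t ∨ g i ∈ maximalIdeal R) :
    Submodule.span (ResidueField R)
      ((fun i => KaehlerDifferential.D k (ResidueField R) (residue R (g i))) '' t) = ⊤ := by
  set N := Submodule.span (ResidueField R)
    ((fun i => KaehlerDifferential.D k (ResidueField R) (residue R (g i))) '' t)
  let f := KaehlerDifferential.map k k R (ResidueField R)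
  have hf : Function.Surjective f :=
    KaehlerDifferential.map_surjective_of_surjective k k R (ResidueField R) residue_surjective
  refine eq_top_iff.mpr fun y _ => ?_
  obtain ⟨x, rfl⟩ := hf y
  have hle : Submodule.span R (Set.range fun i => KaehlerDifferential.D k R (g i)) ≤
      (N.restrictScalars R).comap f := by
    refine Submodule.span_le.mpr ?_
    rintro _ ⟨i, rfl⟩
    show f (KaehlerDifferential.D k R (g i)) ∈ N
    erw [KaehlerDifferential.map_D]
    rcases hg i with hi | hi
    · exact Submodule.subset_span ⟨i, hi, rfl⟩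
    · have h0 : algebraMap R (ResidueField R) (g i) = 0 := (residue_eq_zero_iff _).mpr hi
      rw [h0, map_zero]
      exact N.zero_mem
  rw [h] at hle
  exact hle Submodule.mem_top

/-- Nakayama: generators of the maximal ideal and of the residue differentials give generators of the
differentials. -/
theorem span_eq_top [Module.Finite R Ω[R⁄k]] (hm : Ideal.span (g '' s) = maximalIdeal R)
    (h : Submodule.span (ResidueField R)
      ((fun i => KaehlerDifferential.D k (ResidueField R) (residue R (g i))) '' t) = ⊤) :
    Submodule.span R (Set.range fun i => KaehlerDifferential.D k R (g i)) = ⊤ := by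
  set N := Submodule.span R (Set.range fun i => KaehlerDifferential.D k R (g i))
  rw [← map_tensorProduct_mk_eq_top]
  set M := N.map (TensorProduct.mk R (ResidueField R) Ω[R⁄k] 1)
  let φ := (KaehlerDifferential.mapBaseChange k R (ResidueField R)).restrictScalars R
  have hsur : Function.Surjective (algebraMap R (ResidueField R)) := residue_surjective
  have hker : LinearMap.ker φ ≤ M := by
    intro z hz
    obtain ⟨c, rfl⟩ := (KaehlerDifferential.exact_kerCotangentToTensor_mapBaseChange k R
      (ResidueField R) hsur z).mp hz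
    obtain ⟨⟨x, hx⟩, rfl⟩ := Ideal.toCotangent_surjective _ c
    rw [KaehlerDifferential.kerCotangentToTensor_toCotangent]
    have hx' : x ∈ Ideal.span (g '' s) := hm ▸ (residue_eq_zero_iff x).mp hx
    show (1 : ResidueField R) ⊗ₜ[R] KaehlerDifferential.D k R x ∈ M
    clear hx hz
    induction hx' using Submodule.span_induction with
    | mem y hy =>
      obtain ⟨i, _, rfl⟩ := hy
      exact ⟨_, Submodule.subset_span ⟨i, rfl⟩, rfl⟩
    | zero => rw [map_zero, tmul_zero]; exact M.zero_mem
    | add a b _ _ ha hb => rw [map_add, tmul_add]; exact M.add_mem ha hb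
    | smul a b hb' hb =>
      rw [smul_eq_mul, Derivation.leibniz, tmul_add, tmul_smul, tmul_smul]
      refine M.add_mem (M.smul_mem a hb) ?_
      have h0 : algebraMap R (ResidueField R) b = 0 := (residue_eq_zero_iff b).mpr (hm ▸ hb')
      rw [TensorProduct.smul_tmul', ← Algebra.algebraMap_eq_smul_one, h0, zero_tmul]
      exact M.zero_mem
  have hrange : Submodule.span R
      ((fun i => KaehlerDifferential.D k (ResidueField R) (residue R (g i))) '' t) ≤ M.map φ := by
    refine Submodule.span_le.mpr ?_
    rintro _ ⟨i, _, rfl⟩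
    refine ⟨(1 : ResidueField R) ⊗ₜ[R] KaehlerDifferential.D k R (g i),
      ⟨_, Submodule.subset_span ⟨i, rfl⟩, rfl⟩, ?_⟩
    show KaehlerDifferential.mapBaseChange k R (ResidueField R) _ = _
    rw [KaehlerDifferential.mapBaseChange_tmul, one_smul, KaehlerDifferential.map_D]
    rfl
  rw [← Submodule.restrictScalars_span R (ResidueField R) hsur, h, Submodule.restrictScalars_top] at hrange
  refine eq_top_iff.mpr fun z _ => ?_
  obtain ⟨m, hm', e⟩ := hrange (Submodule.mem_top (x := φ z))
  have h2 : z - m ∈ M := hker (by rw [LinearMap.mem_ker, map_sub, e, sub_self])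
  simpa using M.add_mem h2 hm'

end Differentials

section Heights

open MvPolynomial

variable (k : Type u) [Field k] (n : ℕ)

theorem isPrime_span_X_and_height (j : ℕ) (hj : j ≤ n) :
    (Ideal.span (X '' {i : Fin n | (i : ℕ) < j}) : Ideal (MvPolynomial (Fin n) k)).IsPrime ∧
      (j : ℕ∞) ≤ (Ideal.span (X '' {i : Fin n | (i : ℕ) < j}) : Ideal (MvPolynomial (Fin n) k)).height := by
  classical
  have hker : ∀ (j : ℕ), (Ideal.span (X '' {i : Fin n | (i : ℕ) < j}) : Ideal (MvPolynomial (Fin n) k)) =
      RingHom.ker (aeval fun i : Fin n => if (i : ℕ) < j then (0 : MvPolynomial (Fin n) k) else X i) := by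
    intro j
    set P := (Ideal.span (X '' {i : Fin n | (i : ℕ) < j}) : Ideal (MvPolynomial (Fin n) k))
    refine le_antisymm (Ideal.span_le.mpr ?_) fun f hf => ?_
    · rintro _ ⟨i, hi, rfl⟩
      simp [if_pos (show (i : ℕ) < j from hi)]
    · have key : (Ideal.Quotient.mkₐ k P).comp
          (aeval fun i : Fin n => if (i : ℕ) < j then (0 : MvPolynomial (Fin n) k) else X i) =
          Ideal.Quotient.mkₐ k P := by
        refine algHom_ext fun i => ?_
        rw [AlgHom.comp_apply, aeval_X]
        split_ifs with hi
        · rw [map_zero, Ideal.Quotient.mkₐ_eq_mk, eq_comm, Ideal.Quotient.eq_zero_iff_mem]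
          exact Ideal.subset_span ⟨i, hi, rfl⟩
        · rfl
      have h1 := AlgHom.congr_fun key f
      rw [AlgHom.comp_apply, RingHom.mem_ker.mp hf, map_zero, eq_comm, Ideal.Quotient.mkₐ_eq_mk,
        Ideal.Quotient.eq_zero_iff_mem] at h1
      exact h1
  have hp : ∀ j : ℕ, (Ideal.span (X '' {i : Fin n | (i : ℕ) < j}) : Ideal (MvPolynomial (Fin n) k)).IsPrime :=
    fun j => hker j ▸ RingHom.ker_isPrime _
  refine ⟨hp j, ?_⟩
  induction j with
  | zero => exact zero_le
  | succ j ih =>
    haveI := hp j
    haveI := hp (j + 1)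
    have hlt : (Ideal.span (X '' {i : Fin n | (i : ℕ) < j}) : Ideal (MvPolynomial (Fin n) k)) <
        Ideal.span (X '' {i : Fin n | (i : ℕ) < j + 1}) := by
      refine lt_of_le_of_ne (Ideal.span_mono (Set.image_mono fun i hi => Nat.lt_succ_of_lt hi)) fun e => ?_
      have : (X ⟨j, hj⟩ : MvPolynomial (Fin n) k) ∈ Ideal.span (X '' {i : Fin n | (i : ℕ) < j}) :=
        e ▸ Ideal.subset_span ⟨⟨j, hj⟩, Nat.lt_succ_self j, rfl⟩
      rw [hker j, RingHom.mem_ker, aeval_X, if_neg (lt_irrefl j)] at this
      exact X_ne_zero _ this
    rw [Nat.cast_succ]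
    exact (add_le_add (ih (Nat.le_of_succ_le hj)) le_rfl).trans (Ideal.height_add_one_le_of_lt_of_isPrime hlt)

/-- A prime of height at most `r` containing the first `r` variables is generated by them. -/
theorem eq_span_X (r : ℕ) (hr : r ≤ n) (y : Ideal (MvPolynomial (Fin n) k)) [y.IsPrime]
    (hy : y.height ≤ (r : ℕ∞)) (hX : ∀ i : Fin n, (i : ℕ) < r → X i ∈ y) :
    Ideal.span (X '' {i : Fin n | (i : ℕ) < r}) = y := by
  obtain ⟨hp, hh⟩ := isPrime_span_X_and_height k n r hr
  haveI := hp
  have hle : Ideal.span (X '' {i : Fin n | (i : ℕ) < r}) ≤ y :=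
    Ideal.span_le.mpr (by rintro _ ⟨i, hi, rfl⟩; exact hX i hi)
  exact eq_of_le_of_not_lt hle fun hlt =>
    (Ideal.height_strict_mono_of_isPrime hlt).not_ge (hy.trans hh)

end Heights

/-- Going down along an etale prime: heights do not drop. -/
theorem height_under_le_of_isEtaleAt (T : Type u) [CommRing T] [IsNoetherianRing T] (A : Type u) [CommRing A] [IsNoetherianRing A]
    [Algebra T A] [Algebra.FinitePresentation T A] (p : Ideal A) [p.IsPrime] [Algebra.IsEtaleAt T p] :
    (p.under T).height ≤ p.height := by
  obtain ⟨f, hf, _⟩ := Algebra.exists_etale_of_isEtaleAt (R := T) p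
  have hdisj : Disjoint (Submonoid.powers f : Set A) (p : Set A) := by
    rw [Set.disjoint_left]
    rintro _ ⟨m, rfl⟩ hm
    exact hf (Ideal.IsPrime.mem_of_pow_mem ‹_› m hm)
  let P := p.map (algebraMap A (Localization.Away f))
  haveI : P.IsPrime := IsLocalization.isPrime_of_isPrime_disjoint _ _ p ‹_› hdisj
  haveI : P.LiesOver (p.under T) := ⟨by
    rw [← Ideal.under_under (B := A) P,
      IsLocalization.under_map_of_isPrime_disjoint (Submonoid.powers f) (Localization.Away f) ‹p.IsPrime› hdisj]⟩
  haveI : IsNoetherianRing (Localization.Away f) :=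
    IsLocalization.isNoetherianRing (Submonoid.powers f) _ inferInstance
  rw [← IsLocalization.height_map_of_disjoint (S := Localization.Away f) (Submonoid.powers f) p hdisj,
    Ideal.height_eq_height_add_of_liesOver_of_hasGoingDown (p.under T) P]
  exact le_self_add

end Groth.Agent.H06Unram.EtaleParams
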