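import Groth.Agent.H1Branch.Etale
import Groth.Agent.H06EGA9.UnramifiedLocus
import Groth.Agent.H06EGA9.AtPoint
import Groth.Agent.H06EGA14.UnibranchEquiv
import Groth.Agent.H06EGA17.LocalModel

/-!
# Etale and unramified morphisms over geometrically unibranch local domains
-/

set_option autoImplicit false
set_option linter.style.haveILetI false
universe u
open CategoryTheory AlgebraicGeometry

namespace Groth.Agent.H06Unram

open TensorProduct IsLocalRing

/-- The local rings of a smooth algebra over a geometrically unibranch local domain are geometrically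
unibranch domains. -/
theorem isDomain_and_geomUnibranch_atPrime_of_smooth {A B : Type u} [CommRing A] [CommRing B] [Algebra A B]
    [Algebra.Smooth A B] (q : Ideal B) [q.IsPrime] (p : Ideal A) [p.IsPrime] [q.LiesOver p]
    (hd : IsDomain (Localization.AtPrime p)) (hA : CAlg2.IsGeomUnibranch (Localization.AtPrime p)) :
    IsDomain (Localization.AtPrime q) ∧ CAlg2.IsGeomUnibranch (Localization.AtPrime q) := by
  letI := Localization.AtPrime.algebraOfLiesOver p q
  haveI : IsLocalHom (algebraMap (Localization.AtPrime p) (Localization.AtPrime q)) :=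
    Localization.isLocalHom_localRingHom p q _ _
  obtain ⟨S', _, _, _, _, _, M, _⟩ := H1Branch.exists_smooth_presentation (R := A) q p
  have h1 : Brnch.numGeomBranches (Localization.AtPrime q) = 1 := by
    rw [← H1Branch.numGeomBranches_eq (A := Localization.AtPrime p) M]
    exact (Groth.Agent.S9236.result _).mpr hA
  have h2 := (Groth.Agent.S9236.result _).mp h1
  refine ⟨?_, h2⟩
  haveI : IsReduced S' := H02CA.isReduced_of_smooth (Localization.AtPrime p) S'
  haveI : IsReduced (Localization.AtPrime q) :=
    isReduced_localizationPreserves M (Localization.AtPrime q) inferInstance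
  have hinj : Function.Injective (Ideal.Quotient.mk (nilradical (Localization.AtPrime q))) := by
    rw [RingHom.injective_iff_ker_eq_bot, Ideal.mk_ker, ← Ideal.zero_eq_bot, nilradical_eq_zero]
  haveI := h2.1.1
  exact Function.Injective.isDomain _ hinj

/-- The local rings of a smooth algebra over a geometrically unibranch local ring are geometrically
unibranch. -/
theorem geomUnibranch_atPrime_of_smooth {A B : Type u} [CommRing A] [CommRing B] [Algebra A B]
    [Algebra.Smooth A B] (q : Ideal B) [q.IsPrime] (p : Ideal A) [p.IsPrime] [q.LiesOver p]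
    (hA : CAlg2.IsGeomUnibranch (Localization.AtPrime p)) :
    CAlg2.IsGeomUnibranch (Localization.AtPrime q) := by
  letI := Localization.AtPrime.algebraOfLiesOver p q
  haveI : IsLocalHom (algebraMap (Localization.AtPrime p) (Localization.AtPrime q)) :=
    Localization.isLocalHom_localRingHom p q _ _
  obtain ⟨S', _, _, _, _, _, M, _⟩ := H1Branch.exists_smooth_presentation (R := A) q p
  refine (Groth.Agent.S9236.result _).mp ?_
  rw [← H1Branch.numGeomBranches_eq (A := Localization.AtPrime p) M]
  exact (Groth.Agent.S9236.result _).mpr hA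

/-- An unramified point over a geometrically unibranch local domain at which the local homomorphism is
injective is a smooth point. -/
theorem isSmoothAt_of_injective {A C : Type u} [CommRing A] [CommRing C] [Algebra A C]
    [Algebra.FiniteType A C] (q : Ideal C) [q.IsPrime] (p : Ideal A) [p.IsPrime] [q.LiesOver p]
    [Algebra.IsUnramifiedAt A q]
    (hd : IsDomain (Localization.AtPrime p)) (hA : CAlg2.IsGeomUnibranch (Localization.AtPrime p))
    (hinj : Function.Injective (Localization.localRingHom p q (algebraMap A C) (q.over_def p))) :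
    Algebra.IsSmoothAt A q := by
  let N := Algebra.algebraMapSubmonoid C p.primeCompl
  let R := Localization.AtPrime p
  let C' := Localization N
  let q' : Ideal C' := q.map (algebraMap C C')
  have hdis : Disjoint (N : Set C) q := Set.disjoint_left.mpr fun _ ⟨a, ha, hax⟩ h => by
    subst hax
    exact ha (by rw [q.over_def p]; exact h)
  haveI hq'p : q'.IsPrime := IsLocalization.isPrime_of_isPrime_disjoint N C' q inferInstance hdis
  have hq' : q'.under C = q := IsLocalization.comap_map_of_isPrime_disjoint N C' inferInstance hdis
  haveI : IsLocalization.AtPrime (Localization.AtPrime q') q := by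
    have h := IsLocalization.isLocalization_isLocalization_atPrime_isLocalization N (Localization.AtPrime q') q'
    simp_rw [show q'.comap (algebraMap C C') = q from hq'] at h
    exact h
  let eq : Localization.AtPrime q ≃ₐ[C] Localization.AtPrime q' :=
    IsLocalization.algEquiv q.primeCompl (Localization.AtPrime q) (Localization.AtPrime q')
  haveI : Algebra.IsUnramifiedAt R q' := by
    haveI : Algebra.FormallyUnramified A (Localization.AtPrime q') :=
      Algebra.FormallyUnramified.of_equiv (eq.restrictScalars A)
    exact Algebra.FormallyUnramified.of_restrictScalars A R (Localization.AtPrime q')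
  haveI : Algebra.FiniteType R C' :=
    Algebra.FiniteType.equiv inferInstance (Localization.tensorRightAlgEquiv p.primeCompl C)
  haveI hlies : q'.LiesOver (maximalIdeal R) := ⟨by
    have hprime : (q'.under R).IsPrime := inferInstance
    refine (Localization.AtPrime.eq_maximalIdeal_iff_under_eq.mp ?_).symm
    rw [Ideal.under_under, ← Ideal.under_under (A := A) (B := C) q', hq', ← q.over_def p]⟩
  haveI : IsDomain R := hd
  have hRm : CAlg2.IsGeomUnibranch (Localization.AtPrime (maximalIdeal R)) :=
    H06EGA14.isGeomUnibranch_of_ringEquiv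
      (IsLocalization.atUnits R (maximalIdeal R).primeCompl (S := Localization.AtPrime (maximalIdeal R))
        (fun x hx => notMem_maximalIdeal.mp hx)).toRingEquiv hA
  have hinj' : ∀ a : R, algebraMap R (Localization.AtPrime q') a = 0 → a = 0 := by
    have hcomm : (eq : Localization.AtPrime q →+* Localization.AtPrime q').comp
        (Localization.localRingHom p q (algebraMap A C) (q.over_def p)) =
        algebraMap R (Localization.AtPrime q') := by
      refine IsLocalization.ringHom_ext p.primeCompl (RingHom.ext fun a => ?_)
      simp only [RingHom.comp_apply, Localization.localRingHom_to_map]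
      rw [← IsScalarTower.algebraMap_apply A R, IsScalarTower.algebraMap_apply A C (Localization.AtPrime q')]
      exact eq.commutes _
    intro a ha
    rw [← hcomm, RingHom.comp_apply] at ha
    exact (injective_iff_map_eq_zero _).mp hinj a (eq.injective (ha.trans (map_zero eq).symm))
  obtain ⟨g, hg, _⟩ := H1Branch.exists_etale_away q' (maximalIdeal R) hRm hinj'
  have hle : Submonoid.powers g ≤ q'.primeCompl := Submonoid.powers_le.mpr hg
  letI : Algebra (Localization.Away g) (Localization.AtPrime q') :=
    IsLocalization.localizationAlgebraOfSubmonoidLe (Localization.Away g) (Localization.AtPrime q') _ _ hle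
  haveI : IsScalarTower C' (Localization.Away g) (Localization.AtPrime q') :=
    IsLocalization.localization_isScalarTower_of_submonoid_le (Localization.Away g) (Localization.AtPrime q')
      (Submonoid.powers g) q'.primeCompl hle
  haveI := IsLocalization.isLocalization_of_submonoid_le (Localization.Away g) (Localization.AtPrime q')
    (Submonoid.powers g) q'.primeCompl hle
  haveI : IsScalarTower R (Localization.Away g) (Localization.AtPrime q') := IsScalarTower.to₁₃₄ R C' _ _
  haveI : Algebra.FormallySmooth (Localization.Away g) (Localization.AtPrime q') :=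
    Algebra.FormallySmooth.of_isLocalization (q'.primeCompl.map (algebraMap C' (Localization.Away g)))
  haveI : Algebra.FormallySmooth R (Localization.AtPrime q') :=
    Algebra.FormallySmooth.comp R (Localization.Away g) _
  haveI : Algebra.FormallySmooth A R := Algebra.FormallySmooth.of_isLocalization p.primeCompl
  haveI : Algebra.FormallySmooth A (Localization.AtPrime q') := Algebra.FormallySmooth.comp A R _
  exact Algebra.FormallySmooth.of_equiv (eq.restrictScalars A).symm

section scheme

variable {X Y : Scheme.{u}} (f : X ⟶ Y)

/-- A morphism étale near a point with geometrically unibranch domain below has such a local ring above. -/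
theorem isDomain_and_geomUnibranch_stalk [LocallyOfFinitePresentation f] {x : X} (hx : x ∈ f.smoothLocus)
    (hY : IsDomain (Y.presheaf.stalk (f.base x))) (hY' : CAlg2.IsGeomUnibranch (Y.presheaf.stalk (f.base x))) :
    IsDomain (X.presheaf.stalk x) ∧ CAlg2.IsGeomUnibranch (X.presheaf.stalk x) := by
  obtain ⟨A, B, _, _, _, _, -, q, _, eY, eX, -⟩ := H06EGA17.exists_localModel f x hx
  obtain ⟨h1, h2⟩ := isDomain_and_geomUnibranch_atPrime_of_smooth q (q.comap (algebraMap A B))
    (eY.toMulEquiv.isDomain _) (H06EGA14.isGeomUnibranch_of_ringEquiv eY.symm hY')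
  exact ⟨eX.symm.toMulEquiv.isDomain _, H06EGA14.isGeomUnibranch_of_ringEquiv eX h2⟩

/-- Smooth morphisms preserve geometric unibranchness of local rings. -/
theorem geomUnibranch_stalk [LocallyOfFinitePresentation f] {x : X} (hx : x ∈ f.smoothLocus)
    (hY' : CAlg2.IsGeomUnibranch (Y.presheaf.stalk (f.base x))) :
    CAlg2.IsGeomUnibranch (X.presheaf.stalk x) := by
  obtain ⟨A, B, _, _, _, _, -, q, _, eY, eX, -⟩ := H06EGA17.exists_localModel f x hx
  exact H06EGA14.isGeomUnibranch_of_ringEquiv eX (geomUnibranch_atPrime_of_smooth q (q.comap (algebraMap A B))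
    (H06EGA14.isGeomUnibranch_of_ringEquiv eY.symm hY'))

/-- An unramified point over a geometrically unibranch local domain with injective stalk map is smooth. -/
theorem mem_smoothLocus_of_injective [LocallyOfFinitePresentation f] {x : X}
    (hu : x ∈ H06EGA9.unramSet f) (hY : IsDomain (Y.presheaf.stalk (f.base x)))
    (hY' : CAlg2.IsGeomUnibranch (Y.presheaf.stalk (f.base x))) (hinj : Function.Injective (f.stalkMap x)) :
    x ∈ f.smoothLocus := by
  obtain ⟨R, A, _, _, _, a, b, _, _, ⟨z, rfl⟩, w⟩ := H06EGA9.exists_affine_chart f x
  let zz : PrimeSpectrum A := z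
  haveI := H17.LocusBC.finiteType_of_chart f a b w
  have hu' : Algebra.IsUnramifiedAt R zz.asIdeal := (H06EGA9.preimage_unramSet_chart f a b w).le hu
  haveI := hu'
  refine (H17.LocusBC.formallySmooth_stalkMap_comp_iff a f b _ w z).mp
    ((H17.LocusBC.formallySmooth_stalkMap_Spec_iff zz).mpr ?_)
  let φ := Spec.map (CommRingCat.ofHom (algebraMap R A))
  have key : ∀ (g₁ g₂ : Spec (.of A) ⟶ Y), g₁ = g₂ →
      Function.Injective (g₁.stalkMap z) → IsDomain (Y.presheaf.stalk (g₁ z)) →
      CAlg2.IsGeomUnibranch (Y.presheaf.stalk (g₁ z)) → Function.Injective (g₂.stalkMap z) ∧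
        IsDomain (Y.presheaf.stalk (g₂ z)) ∧ CAlg2.IsGeomUnibranch (Y.presheaf.stalk (g₂ z)) := by
    rintro g₁ _ rfl h1 h2 h3; exact ⟨h1, h2, h3⟩
  have h0 : Function.Injective ((a ≫ f).stalkMap z) := by
    rw [Scheme.Hom.stalkMap_comp]
    exact (asIso (a.stalkMap z)).commRingCatIsoToRingEquiv.injective.comp hinj
  obtain ⟨h1, h2, h3⟩ := key _ (φ ≫ b) w.symm h0 hY hY'
  let eb : Y.presheaf.stalk ((φ ≫ b) z) ≃+* (Spec (.of R)).presheaf.stalk (φ z) :=
    (asIso (b.stalkMap (φ z))).commRingCatIsoToRingEquiv
  have h1' : Function.Injective (φ.stalkMap z) := by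
    intro s t hst
    obtain ⟨s, rfl⟩ := eb.surjective s
    obtain ⟨t, rfl⟩ := eb.surjective t
    refine congrArg eb (h1 ?_)
    rw [Scheme.Hom.stalkMap_comp]
    exact hst
  let p := (zz.comap (algebraMap R A)).asIdeal
  haveI : zz.asIdeal.LiesOver p := ⟨rfl⟩
  let e := Scheme.arrowStalkMapSpecIso (CommRingCat.ofHom (algebraMap R A)) zz
  let e₁ : (Spec (.of R)).presheaf.stalk (φ z) ≃+* Localization.AtPrime p :=
    (Arrow.leftFunc.mapIso e).commRingCatIsoToRingEquiv
  let e₂ : (Spec (.of A)).presheaf.stalk z ≃+* Localization.AtPrime zz.asIdeal :=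
    (Arrow.rightFunc.mapIso e).commRingCatIsoToRingEquiv
  refine isSmoothAt_of_injective zz.asIdeal p ((eb.trans e₁).symm.toMulEquiv.isDomain _)
    (H06EGA14.isGeomUnibranch_of_ringEquiv (eb.trans e₁) h3) ?_
  intro s t hst
  obtain ⟨s, rfl⟩ := e₁.surjective s
  obtain ⟨t, rfl⟩ := e₁.surjective t
  have hw : ∀ r, Localization.localRingHom p zz.asIdeal (algebraMap R A) (zz.asIdeal.over_def p) (e₁ r) =
      e₂ (φ.stalkMap z r) := fun r => ConcreteCategory.congr_hom e.hom.w r
  rw [hw, hw] at hst
  exact congrArg e₁ (h1' (e₂.injective hst))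

end scheme

end Groth.Agent.H06Unram
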