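import Groth.Agent.H9Hens.EtaleSplitNbhd
import Mathlib

/-! Splitting off the unramified points of a finite type algebra after an étale extension. -/

set_option autoImplicit false
set_option linter.style.haveILetI false
set_option linter.unusedSectionVars false
set_option backward.isDefEq.respectTransparency false

universe u

open AlgebraicGeometry CategoryTheory CategoryTheory.Limits TopologicalSpace TensorProduct

namespace Groth.Agent.H06Unram.EtaleSplit

variable {R : Type u} [CommRing R]

/-- An open-closed piece of `Spec T` closed in `Spec R'` gives an idempotent with surjective structure map. -/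
theorem exists_idempotent {R' T : Type u} [CommRing R'] [CommRing T] [Algebra R' T] {V : Scheme.{u}}
    (j : V ⟶ Spec (CommRingCat.of T)) [IsOpenImmersion j]
    [IsClosedImmersion (j ≫ Spec.map (CommRingCat.ofHom (algebraMap R' T)))]
    (Q : PrimeSpectrum T) (hQ : Q ∈ Set.range j) :
    ∃ e : T, IsIdempotentElem e ∧ e ∉ Q.asIdeal ∧
      Function.Surjective (algebraMap R' (T ⧸ Ideal.span {1 - e})) := by
  haveI : IsClosedImmersion j := IsClosedImmersion.of_comp j (Spec.map (CommRingCat.ofHom (algebraMap R' T)))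
  obtain ⟨e, he, hr⟩ := (PrimeSpectrum.isClopen_iff (s := Set.range j)).1
    ⟨j.isClosedEmbedding.isClosed_range, j.isOpenEmbedding.isOpen_range⟩
  refine ⟨e, he, by rw [hr] at hQ; exact hQ, ?_⟩
  let A := T ⧸ Ideal.span {1 - e}
  haveI : IsLocalization.Away e A :=
    IsLocalization.away_of_isIdempotentElem he Ideal.mk_ker Ideal.Quotient.mk_surjective
  haveI := IsOpenImmersion.of_isLocalization (R := T) (S := A) e
  have hrange : Set.range (Spec.map (CommRingCat.ofHom (algebraMap T A))) = Set.range j := by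
    rw [hr]
    exact PrimeSpectrum.localization_away_comap_range A e
  let i := IsOpenImmersion.isoOfRangeEq (Spec.map (CommRingCat.ofHom (algebraMap T A))) j hrange
  haveI : IsClosedImmersion (Spec.map (CommRingCat.ofHom (algebraMap R' A))) := by
    have : Spec.map (CommRingCat.ofHom (algebraMap R' A)) =
        i.hom ≫ j ≫ Spec.map (CommRingCat.ofHom (algebraMap R' T)) := by
      rw [← Category.assoc, IsOpenImmersion.isoOfRangeEq_hom_fac, ← Spec.map_comp]
      rfl
    rw [this]
    infer_instance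
  obtain ⟨-, hs⟩ := IsClosedImmersion.isAffine_surjective_of_isAffine
    (Spec.map (CommRingCat.ofHom (algebraMap R' A)))
  intro a
  obtain ⟨b, hb⟩ := hs ((Scheme.ΓSpecIso (CommRingCat.of A)).inv.hom a)
  refine ⟨(Scheme.ΓSpecIso (CommRingCat.of R')).hom.hom b, ?_⟩
  have hn := congr($(Scheme.ΓSpecIso_naturality (CommRingCat.ofHom (algebraMap R' A))).hom b)
  refine hn.symm.trans ?_
  exact (congrArg (fun z => (Scheme.ΓSpecIso (CommRingCat.of A)).hom.hom z) hb).trans
    congr($((Scheme.ΓSpecIso (CommRingCat.of A)).inv_hom_id).hom a)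

theorem exists_nbhd (S : Type u) [CommRing S] [Algebra R S] (g : S)
    [Algebra.Unramified R (Localization.Away g)] (p : Ideal R) [p.IsPrime] {ι : Type} [Finite ι]
    (q : ι → Ideal S) [∀ i, (q i).IsPrime] (hg : ∀ i, g ∉ q i) (hq : ∀ i, (q i).comap (algebraMap R S) = p) :
    ∃ (R' : Type u) (_ : CommRing R') (_ : Algebra R R') (_ : Algebra.Etale R R') (p' : Ideal R')
      (_ : p'.IsPrime) (_ : p'.LiesOver p),
      {Q : PrimeSpectrum (R' ⊗[R] S) | Q.asIdeal.comap (algebraMap R' _) = p' ∧
          ∃ i, Q.asIdeal.comap (Algebra.TensorProduct.includeRight : S →ₐ[R] R' ⊗[R] S).toRingHom = q i}.Finite ∧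
      (∀ i, ∃ Q : PrimeSpectrum (R' ⊗[R] S), Q.asIdeal.comap (algebraMap R' _) = p' ∧
          Q.asIdeal.comap (Algebra.TensorProduct.includeRight : S →ₐ[R] R' ⊗[R] S).toRingHom = q i) ∧
      ∀ Q : PrimeSpectrum (R' ⊗[R] S), Q.asIdeal.comap (algebraMap R' _) = p' →
        (∃ i, Q.asIdeal.comap (Algebra.TensorProduct.includeRight : S →ₐ[R] R' ⊗[R] S).toRingHom = q i) →
        ∃ e : R' ⊗[R] S, IsIdempotentElem e ∧ e ∉ Q.asIdeal ∧
          Function.Surjective (algebraMap R' ((R' ⊗[R] S) ⧸ Ideal.span {1 - e})) := by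
  classical
  let Sg := Localization.Away g
  let fS := Spec.map (CommRingCat.ofHom (algebraMap R S))
  let lS := Spec.map (CommRingCat.ofHom (algebraMap S Sg))
  haveI : IsOpenImmersion lS := IsOpenImmersion.of_isLocalization g
  let f : Spec (CommRingCat.of Sg) ⟶ Spec (CommRingCat.of R) := lS ≫ fS
  have hf : f = Spec.map (CommRingCat.ofHom (algebraMap R Sg)) := by
    rw [IsScalarTower.algebraMap_eq R S Sg, CommRingCat.ofHom_comp, Spec.map_comp]
  haveI : FormallyUnramified f := by
    rw [hf, HasRingHomProperty.Spec_iff (P := @FormallyUnramified), CommRingCat.hom_ofHom,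
      RingHom.formallyUnramified_algebraMap]
    infer_instance
  haveI : LocallyOfFiniteType f := by
    rw [hf, HasRingHomProperty.Spec_iff (P := @LocallyOfFiniteType), CommRingCat.hom_ofHom,
      RingHom.finiteType_algebraMap]
    infer_instance
  have hy : ∀ i, ∃ y : Spec (CommRingCat.of Sg), lS y = (⟨q i, inferInstance⟩ : PrimeSpectrum S) := fun i => by
    have : (⟨q i, inferInstance⟩ : PrimeSpectrum S) ∈ Set.range (PrimeSpectrum.comap (algebraMap S Sg)) := by
      rw [PrimeSpectrum.localization_away_comap_range Sg g]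
      exact hg i
    exact this
  choose y hy using hy
  have hys : ∀ i, f (y i) = (⟨p, inferInstance⟩ : PrimeSpectrum R) := fun i => by
    rw [Scheme.Hom.comp_apply, hy]
    exact PrimeSpectrum.ext (hq i)
  obtain ⟨U, gU, w₀, hgU, hw₀, hfin, hV⟩ := H9Hens.exists_charts_of_formallyUnramified f _ y hys
  obtain ⟨W, hW, hwW, -⟩ := Opens.isBasis_iff_nbhd.mp U.isBasis_affineOpens (show w₀ ∈ (⊤ : U.Opens) from trivial)
  replace hW : IsAffineOpen W := hW
  let R' := Γ(U, W)
  let h : Spec R' ⟶ Spec (CommRingCat.of R) := hW.fromSpec ≫ gU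
  letI : Algebra R R' := (Spec.preimage h).hom.toAlgebra
  have hh : Spec.map (CommRingCat.ofHom (algebraMap R R')) = h := Spec.map_preimage h
  haveI : Etale h := inferInstance
  haveI : Algebra.Etale R R' := by
    rw [← RingHom.etale_algebraMap, ← CommRingCat.hom_ofHom (algebraMap R R'),
      ← HasRingHomProperty.Spec_iff (P := @Etale), hh]
    infer_instance
  obtain ⟨p', hp'⟩ : ∃ p' : Spec R', hW.fromSpec p' = w₀ := by
    have : w₀ ∈ Set.range hW.fromSpec := by rw [hW.range_fromSpec]; exact hwW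
    exact this
  have hp'R : Spec.map (CommRingCat.ofHom (algebraMap R R')) p' = (⟨p, inferInstance⟩ : PrimeSpectrum R) := by
    rw [hh, Scheme.Hom.comp_apply]
    exact (congrArg gU hp').trans hw₀
  haveI : p'.asIdeal.LiesOver p := ⟨(congrArg PrimeSpectrum.asIdeal hp'R).symm⟩
  let hR := Spec.map (CommRingCat.ofHom (algebraMap R R'))
  -- Spec of the tensor product, with its open subscheme over `D(g)`
  let ψ : pullback f hR ⟶ Spec (CommRingCat.of (R' ⊗[R] S)) :=
    pullback.map f hR fS hR lS (𝟙 _) (𝟙 _) (by simp [f]) (by simp) ≫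
      (pullbackSymmetry _ _).hom ≫ (pullbackSpecIso R R' S).hom
  haveI : IsOpenImmersion (pullback.map f hR fS hR lS (𝟙 _) (𝟙 _) (by simp [f]) (by simp)) :=
    MorphismProperty.pullbackMap (P := @IsOpenImmersion) ‹_› inferInstance (by simp [f]) (by simp)
  haveI : IsOpenImmersion ψ := inferInstance
  have hψ1 : ψ ≫ Spec.map (CommRingCat.ofHom (algebraMap R' (R' ⊗[R] S))) = pullback.snd f hR := by
    simp only [ψ, Category.assoc]
    rw [show CommRingCat.ofHom (algebraMap R' (R' ⊗[R] S)) = CommRingCat.ofHom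
      (Algebra.TensorProduct.includeLeftRingHom (R := R) (A := R') (B := S)) from rfl,
      pullbackSpecIso_hom_fst]
    erw [pullbackSymmetry_hom_comp_fst, pullback.lift_snd, Category.comp_id]
  have hψ2 : ψ ≫ Spec.map (CommRingCat.ofHom
      (Algebra.TensorProduct.includeRight : S →ₐ[R] R' ⊗[R] S).toRingHom) = pullback.fst f hR ≫ lS := by
    have : (pullbackSpecIso R R' S).hom ≫ Spec.map (CommRingCat.ofHom
      (Algebra.TensorProduct.includeRight : S →ₐ[R] R' ⊗[R] S).toRingHom) = pullback.snd _ _ := by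
      exact ((Iso.inv_comp_eq _).1 (pullbackSpecIso_inv_snd R R' S)).symm
    simp only [ψ, Category.assoc]
    erw [this, pullbackSymmetry_hom_comp_snd, pullback.lift_fst]
  have hrange : ∀ z : Spec (CommRingCat.of (R' ⊗[R] S)),
      g ∉ (z.asIdeal).comap (Algebra.TensorProduct.includeRight : S →ₐ[R] R' ⊗[R] S).toRingHom →
        z ∈ Set.range ψ := by
    intro z hz
    let e := (pullbackSymmetry fS hR).hom ≫ (pullbackSpecIso R R' S).hom
    haveI : IsIso e := inferInstance
    obtain ⟨w, rfl⟩ := e.surjective z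
    have hw : w ∈ Set.range (pullback.map f hR fS hR lS (𝟙 _) (𝟙 _) (by simp [f]) (by simp)) := by
      rw [Scheme.Pullback.range_map]
      refine ⟨?_, ⟨_, rfl⟩⟩
      rw [Set.mem_preimage]
      show (pullback.fst fS hR w : PrimeSpectrum S) ∈ Set.range (PrimeSpectrum.comap (algebraMap S Sg))
      rw [PrimeSpectrum.localization_away_comap_range Sg g]
      have h2 : e ≫ Spec.map (CommRingCat.ofHom
          (Algebra.TensorProduct.includeRight : S →ₐ[R] R' ⊗[R] S).toRingHom) = pullback.fst fS hR := by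
        simp only [e, Category.assoc]
        erw [← (Iso.inv_comp_eq _).1 (pullbackSpecIso_inv_snd R R' S), pullbackSymmetry_hom_comp_snd]
      rw [← h2, Scheme.Hom.comp_apply]
      exact hz
    obtain ⟨v, rfl⟩ := hw
    exact ⟨v, rfl⟩
  -- transfer of the charts
  let m : Spec R' ⟶ U := hW.fromSpec
  have e0 : hR = m ≫ gU := hh
  let n : pullback f hR ⟶ pullback f gU :=
    pullback.lift (pullback.fst _ _) (pullback.snd _ _ ≫ m)
      (by rw [Category.assoc, ← e0, pullback.condition])
  have hcharts : ∀ V : (pullback f gU).Opens, IsClosedImmersion (V.ι ≫ pullback.snd f gU) →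
      IsClosedImmersion ((n ⁻¹ᵁ V).ι ≫ pullback.snd f hR) := by
    intro V hVc
    have hn : IsPullback n (pullback.snd f hR) (pullback.snd f gU) m := by
      refine .of_right ?_ (pullback.lift_snd _ _ _) (IsPullback.of_hasPullback f gU)
      rw [show n ≫ pullback.fst f gU = pullback.fst _ _ from pullback.lift_fst _ _ _, ← e0]
      exact IsPullback.of_hasPullback f hR
    exact MorphismProperty.of_isPullback ((isPullback_morphismRestrict n V).paste_vert hn) hVc
  have hpt : ∀ Q : PrimeSpectrum (R' ⊗[R] S), Q.asIdeal.comap (algebraMap R' _) = p'.asIdeal →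
      ∀ i, Q.asIdeal.comap (Algebra.TensorProduct.includeRight : S →ₐ[R] R' ⊗[R] S).toRingHom = q i →
      ∃ v, ψ v = Q ∧ pullback.snd f gU (n v) = w₀ ∧ pullback.fst f gU (n v) = y i := by
    intro Q hQ i hi
    obtain ⟨v, hv⟩ := hrange Q (by rw [hi]; exact hg i)
    refine ⟨v, hv, ?_, ?_⟩
    · rw [← Scheme.Hom.comp_apply, pullback.lift_snd, Scheme.Hom.comp_apply, ← hψ1,
        Scheme.Hom.comp_apply, hv, ← hp']
      exact congrArg _ (PrimeSpectrum.ext hQ)
    · rw [← Scheme.Hom.comp_apply, pullback.lift_fst]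
      apply lS.isOpenEmbedding.injective
      rw [← Scheme.Hom.comp_apply, ← hψ2, Scheme.Hom.comp_apply, hv, hy]
      exact PrimeSpectrum.ext hi
  refine ⟨R', inferInstance, inferInstance, inferInstance, p'.asIdeal, inferInstance, inferInstance, ?_, ?_, ?_⟩
  · have hinj : Set.InjOn n {v | pullback.snd f gU (n v) = w₀ ∧ ∃ i, pullback.fst f gU (n v) = y i} := by
      intro v hv v' hv' hvv'
      obtain ⟨V, hvV, hVc⟩ := hV (n v) hv.1 hv.2
      haveI := hcharts V hVc
      have hs : pullback.snd f hR v = pullback.snd f hR v' := by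
        apply hW.fromSpec.isOpenEmbedding.injective
        have := congrArg (pullback.snd f gU) hvv'
        rwa [← Scheme.Hom.comp_apply, ← Scheme.Hom.comp_apply, pullback.lift_snd,
          Scheme.Hom.comp_apply, Scheme.Hom.comp_apply] at this
      exact congrArg Subtype.val (((n ⁻¹ᵁ V).ι ≫ pullback.snd f hR).isClosedEmbedding.injective
        (a₁ := ⟨v, hvV⟩) (a₂ := ⟨v', by show n v' ∈ V; rw [← hvv']; exact hvV⟩) hs)
    refine ((Set.Finite.of_finite_image (hfin.subset ?_) hinj).image ψ).subset ?_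
    · rintro _ ⟨v, hv, rfl⟩; exact hv
    · rintro Q ⟨hQ, i, hi⟩
      obtain ⟨v, hv, h1, h2⟩ := hpt Q hQ i hi
      exact ⟨v, ⟨h1, i, h2⟩, hv⟩
  · intro i
    obtain ⟨v, hv1, hv2⟩ := Scheme.Pullback.exists_preimage_pullback (f := f) (g := hR) (y i) p'
      (by rw [hys, hp'R])
    refine ⟨ψ v, ?_, ?_⟩
    · exact congrArg PrimeSpectrum.asIdeal ((congr($hψ1 v)).trans hv2)
    · have : lS (pullback.fst f hR v) = (⟨q i, inferInstance⟩ : PrimeSpectrum S) := by rw [hv1, hy]
      exact congrArg PrimeSpectrum.asIdeal ((congr($hψ2 v)).trans this)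
  · rintro Q hQ ⟨i, hi⟩
    obtain ⟨v, hv, h1, h2⟩ := hpt Q hQ i hi
    obtain ⟨V, hvV, hVc⟩ := hV (n v) h1 ⟨i, h2⟩
    haveI := hcharts V hVc
    let j := (n ⁻¹ᵁ V).ι ≫ ψ
    haveI : IsClosedImmersion (j ≫ Spec.map (CommRingCat.ofHom (algebraMap R' (R' ⊗[R] S)))) := by
      rw [Category.assoc, hψ1]; infer_instance
    exact exists_idempotent j Q ⟨⟨v, hvV⟩, hv⟩

end Groth.Agent.H06Unram.EtaleSplit
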