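import Groth.Agent.H06Unram.EtaleSplit
import Mathlib

/-! Idempotent algebra for etale splittings. -/

set_option autoImplicit false
set_option linter.style.haveILetI false
set_option linter.unusedSectionVars false
set_option backward.isDefEq.respectTransparency false

universe u

namespace Groth.Agent.H06Unram.EtaleSplit

variable {R' T : Type u} [CommRing R'] [CommRing T] [Algebra R' T]

theorem span_one_sub_le {Q : Ideal T} [Q.IsPrime] {e : T} (he : IsIdempotentElem e) (h : e ∉ Q) :
    Ideal.span {1 - e} ≤ Q := by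
  rw [Ideal.span_singleton_le_iff_mem]
  refine (Ideal.IsPrime.mem_or_mem (I := Q) ‹_› ?_).resolve_left h
  rw [mul_sub, mul_one, he.eq, sub_self]
  exact Q.zero_mem

/-- The piece cut out by `e` has exactly one prime over `p'`. -/
theorem piece_prime {e : T} (he : IsIdempotentElem e)
    (hs : Function.Surjective (algebraMap R' (T ⧸ Ideal.span {1 - e}))) {p' : Ideal R'}
    (Q : Ideal T) [Q.IsPrime] (heQ : e ∉ Q) (hQ : Q.comap (algebraMap R' T) = p') :
    (p'.map (algebraMap R' (T ⧸ Ideal.span {1 - e}))).IsPrime ∧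
      (p'.map (algebraMap R' (T ⧸ Ideal.span {1 - e}))).comap (algebraMap R' (T ⧸ Ideal.span {1 - e})) = p' ∧
      (p'.map (algebraMap R' (T ⧸ Ideal.span {1 - e}))).comap (Ideal.Quotient.mk _) = Q := by
  have hle := span_one_sub_le he heQ
  let Qb := Q.map (Ideal.Quotient.mk (Ideal.span {1 - e}))
  have hQb : Qb.comap (Ideal.Quotient.mk _) = Q := by
    rw [Ideal.comap_map_of_surjective _ Ideal.Quotient.mk_surjective, ← RingHom.ker_eq_comap_bot,
      Ideal.mk_ker, sup_eq_left.2 hle]
  haveI : Qb.IsPrime :=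
    Ideal.map_isPrime_of_surjective Ideal.Quotient.mk_surjective (by rw [Ideal.mk_ker]; exact hle)
  have hc : Qb.comap (algebraMap R' (T ⧸ Ideal.span {1 - e})) = p' := by
    rw [← hQ, ← hQb, Ideal.comap_comap]
    rfl
  have hm : p'.map (algebraMap R' (T ⧸ Ideal.span {1 - e})) = Qb := by
    rw [← hc, Ideal.map_comap_of_surjective _ hs]
  rw [hm]
  exact ⟨inferInstance, hc, hQb⟩

theorem piece_unique {e : T} (he : IsIdempotentElem e)
    (hs : Function.Surjective (algebraMap R' (T ⧸ Ideal.span {1 - e}))) {p' : Ideal R'}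
    (Q Q' : Ideal T) [Q.IsPrime] [Q'.IsPrime] (heQ : e ∉ Q) (heQ' : e ∉ Q')
    (hQ : Q.comap (algebraMap R' T) = p') (hQ' : Q'.comap (algebraMap R' T) = p') : Q = Q' :=
  (piece_prime he hs Q heQ hQ).2.2.symm.trans (piece_prime he hs Q' heQ' hQ').2.2

theorem surjective_of_mul {e f : T} (h : f * e = f)
    (hs : Function.Surjective (algebraMap R' (T ⧸ Ideal.span {1 - e}))) :
    Function.Surjective (algebraMap R' (T ⧸ Ideal.span {1 - f})) := by
  have hle : Ideal.span {1 - e} ≤ Ideal.span {1 - f} := by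
    rw [Ideal.span_singleton_le_span_singleton]
    exact ⟨1 - e, by linear_combination -h⟩
  intro a
  obtain ⟨t, rfl⟩ := Ideal.Quotient.mk_surjective a
  obtain ⟨r, hr⟩ := hs (Ideal.Quotient.mk _ t)
  refine ⟨r, ?_⟩
  have := congrArg (Ideal.Quotient.factor hle) hr
  rw [Ideal.Quotient.factor_mk] at this
  rw [← this]
  rfl

/-- Split by orthogonal idempotents. -/
noncomputable def splitEquiv {n : ℕ} (e : Fin n → T) (he : OrthogonalIdempotents e) :
    T ≃ₐ[R'] (∀ i, T ⧸ Ideal.span {1 - e i}) × (T ⧸ Ideal.span {∑ i, e i}) :=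
  AlgEquiv.ofBijective ((AlgHom.pi (R := R') fun i => Ideal.Quotient.mkₐ R' _).prod
    (Ideal.Quotient.mkₐ R' _)) ⟨by
    rw [injective_iff_map_eq_zero]
    intro x hx
    have h1 : ∀ i, x * e i = 0 := fun i => by
      obtain ⟨c, hc⟩ := Ideal.mem_span_singleton'.1 (Ideal.Quotient.eq_zero_iff_mem.1 (congrFun (congrArg Prod.fst hx) i))
      rw [← hc, mul_assoc, sub_mul, one_mul, (he.idem i).eq, sub_self, mul_zero]
    obtain ⟨c, hc⟩ := Ideal.mem_span_singleton'.1 (Ideal.Quotient.eq_zero_iff_mem.1 (congrArg Prod.snd hx))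
    have hx2 : x = x * ∑ i, e i := by
      rw [← hc, mul_assoc, he.isIdempotentElem_sum.eq]
    rw [hx2, Finset.mul_sum]
    exact Finset.sum_eq_zero fun i _ => h1 i,
    by
    rintro ⟨a, b⟩
    choose a' ha using fun i => Ideal.Quotient.mk_surjective (a i)
    obtain ⟨b', rfl⟩ := Ideal.Quotient.mk_surjective b
    refine ⟨(∑ i, a' i * e i) + b' * (1 - ∑ i, e i), Prod.ext (funext fun i => ?_) ?_⟩
    · show Ideal.Quotient.mk _ _ = a i
      rw [← ha i, Ideal.Quotient.eq, Ideal.mem_span_singleton']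
      refine ⟨(∑ j, a' j * e j) + b' * (1 - ∑ j, e j) - a' i, ?_⟩
      have e1 : (∑ j, a' j * e j) * e i = a' i * e i := by
        rw [Finset.sum_mul, Finset.sum_eq_single i (fun j _ hj => by rw [mul_assoc, he.ortho hj, mul_zero]) (by simp),
          mul_assoc, (he.idem i).eq]
      have e2 : (∑ j, e j) * e i = e i := by
        rw [Finset.sum_mul, Finset.sum_eq_single i (fun j _ hj => he.ortho hj) (by simp), (he.idem i).eq]
      linear_combination (-1 : T) * e1 + b' * e2
    · show Ideal.Quotient.mk _ _ = Ideal.Quotient.mk _ b'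
      rw [Ideal.Quotient.eq, Ideal.mem_span_singleton']
      refine ⟨(∑ i, a' i * e i) - b', ?_⟩
      have e3 : (∑ i, a' i * e i) * (∑ i, e i) = ∑ i, a' i * e i := by
        rw [Finset.sum_mul]
        refine Finset.sum_congr rfl fun i _ => ?_
        rw [mul_assoc, Finset.mul_sum, Finset.sum_eq_single i (fun j _ hj => he.ortho hj.symm) (by simp),
          (he.idem i).eq]
      linear_combination e3⟩

end Groth.Agent.H06Unram.EtaleSplit

namespace Groth.Agent.H06Unram.EtaleSplit

open TensorProduct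

theorem decomposition_at (R : Type u) [CommRing R] (S : Type u) [CommRing S] [Algebra R S]
    [Algebra.FiniteType R S] (q : Ideal S) [q.IsPrime] [Algebra.IsUnramifiedAt R q] :
    ∃ (R' : Type u) (_ : CommRing R') (_ : Algebra R R') (_ : Algebra.Etale R R') (p' : Ideal R')
      (_ : p'.IsPrime) (_ : p'.LiesOver (q.under R)) (A : Type u) (_ : CommRing A) (_ : Algebra R' A)
      (B : Type u) (_ : CommRing B) (_ : Algebra R' B) (e : (R' ⊗[R] S) ≃ₐ[R'] (A × B)),
      Function.Surjective (algebraMap R' A) ∧ (p'.map (algebraMap R' A)).IsPrime ∧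
        (p'.map (algebraMap R' A)).comap (algebraMap R' A) = p' ∧
        (p'.map (algebraMap R' A)).comap (((RingHom.fst A B).comp e.toRingHom).comp
          (Algebra.TensorProduct.includeRight : S →ₐ[R] R' ⊗[R] S).toRingHom) = q := by
  obtain ⟨g, hgq, hg⟩ := Algebra.exists_unramified_of_isUnramifiedAt (R := R) q
  obtain ⟨R', _, _, _, p', _, _, -, hex, hidem⟩ := exists_nbhd S g (q.under R) (ι := Fin 1) (fun _ => q)
    (fun _ => hgq) (fun _ => rfl)
  obtain ⟨Q, hQ, hQq⟩ := hex 0
  obtain ⟨e, he, heQ, hs⟩ := hidem Q hQ ⟨0, hQq⟩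
  have ho : OrthogonalIdempotents (fun _ : Fin 1 => e) := ⟨fun _ => he, fun i j h => (h (Subsingleton.elim i j)).elim⟩
  obtain ⟨h1, h2, h3⟩ := piece_prime he hs Q.asIdeal heQ hQ
  refine ⟨R', inferInstance, inferInstance, inferInstance, p', inferInstance, inferInstance, (R' ⊗[R] S) ⧸ Ideal.span {1 - e},
    inferInstance, inferInstance, (R' ⊗[R] S) ⧸ Ideal.span {∑ _i : Fin 1, e}, inferInstance, inferInstance,
    (splitEquiv _ ho).trans (AlgEquiv.prodCongr
      ((AlgEquiv.piCongrLeft R' _ (Equiv.ofUnique (Fin 1) (Fin 1))).trans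
        (AlgEquiv.funUnique R' (Fin 1) ((R' ⊗[R] S) ⧸ Ideal.span {1 - e}))) AlgEquiv.refl), hs, h1, h2, ?_⟩
  rw [← hQq, ← h3, Ideal.comap_comap]
  rfl

theorem decomposition_all (R : Type u) [CommRing R] (S : Type u) [CommRing S] [Algebra R S]
    [Algebra.Unramified R S] (p : Ideal R) [p.IsPrime] :
    ∃ (R' : Type u) (_ : CommRing R') (_ : Algebra R R') (_ : Algebra.Etale R R') (p' : Ideal R')
      (_ : p'.IsPrime) (_ : p'.LiesOver p) (n : ℕ) (A : Fin n → Type u) (_ : ∀ i, CommRing (A i))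
      (_ : ∀ i, Algebra R' (A i)) (B : Type u) (_ : CommRing B) (_ : Algebra R' B),
      Nonempty ((R' ⊗[R] S) ≃ₐ[R'] ((∀ i, A i) × B)) ∧
        (∀ i, Function.Surjective (algebraMap R' (A i)) ∧
          (p'.map (algebraMap R' (A i))).IsPrime ∧
          (p'.map (algebraMap R' (A i))).comap (algebraMap R' (A i)) = p') ∧
        ∀ (q : Ideal B) [q.IsPrime], q.comap (algebraMap R' B) ≠ p' := by
  classical
  haveI : Algebra.Unramified R (Localization.Away (1 : S)) := Algebra.Unramified.of_equiv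
    ((IsLocalization.atOne S (Localization.Away (1 : S))).restrictScalars R)
  have hpf : Finite (p.primesOver S) := (Algebra.QuasiFinite.finite_primesOver p).to_subtype
  obtain ⟨m, ⟨em⟩⟩ := Finite.exists_equiv_fin (p.primesOver S)
  let qs : Fin m → Ideal S := fun i => (em.symm i).1
  haveI : ∀ i, (qs i).IsPrime := fun i => (em.symm i).2.1
  obtain ⟨R', _, _, _, p', _, hover, hfin, -, hidem⟩ := exists_nbhd S 1 p (ι := Fin m) qs
    (fun i h => (inferInstance : (qs i).IsPrime).ne_top ((Ideal.eq_top_iff_one _).2 h))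
    (fun i => (em.symm i).2.2.over.symm)
  have hall : ∀ Q : PrimeSpectrum (R' ⊗[R] S), Q.asIdeal.comap (algebraMap R' _) = p' →
      ∃ i, Q.asIdeal.comap (Algebra.TensorProduct.includeRight : S →ₐ[R] R' ⊗[R] S).toRingHom = qs i := by
    intro Q hQ
    refine ⟨em ⟨Q.asIdeal.comap (Algebra.TensorProduct.includeRight : S →ₐ[R] R' ⊗[R] S).toRingHom, inferInstance, ⟨?_⟩⟩, by simp [qs]⟩
    rw [hover.over, Ideal.under, Ideal.under, ← hQ, Ideal.comap_comap, Ideal.comap_comap]
    congr 1
    ext r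
    simp [Algebra.TensorProduct.algebraMap_apply]
  let K := {Q : PrimeSpectrum (R' ⊗[R] S) // Q.asIdeal.comap (algebraMap R' _) = p'}
  haveI : Finite K := by
    haveI := hfin.to_subtype
    refine Finite.of_injective (fun Q : K => (⟨Q.1, Q.2, hall Q.1 Q.2⟩ : {Q : PrimeSpectrum (R' ⊗[R] S) |
      Q.asIdeal.comap (algebraMap R' _) = p' ∧ ∃ i, Q.asIdeal.comap (Algebra.TensorProduct.includeRight :
        S →ₐ[R] R' ⊗[R] S).toRingHom = qs i})) (fun a b h => Subtype.ext (congrArg Subtype.val h :))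
  obtain ⟨n, ⟨en⟩⟩ := Finite.exists_equiv_fin K
  let Q : Fin n → PrimeSpectrum (R' ⊗[R] S) := fun i => (en.symm i).1
  have hQ : ∀ i, (Q i).asIdeal.comap (algebraMap R' _) = p' := fun i => (en.symm i).2
  have hQinj : Function.Injective Q := fun a b h => en.symm.injective (Subtype.ext h)
  choose e he heQ hs using fun i => hidem (Q i) (hQ i) (hall (Q i) (hQ i))
  let c : Fin n → Fin n → (R' ⊗[R] S) := fun i j => if j < i then 1 - e j else 1
  let f : Fin n → (R' ⊗[R] S) := fun i => e i * ∏ j, c i j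
  have hc : ∀ i j, IsIdempotentElem (c i j) := fun i j => by
    simp only [c]; split_ifs
    · exact (he j).one_sub
    · exact IsIdempotentElem.one
  have hprod : ∀ i, IsIdempotentElem (∏ j, c i j) := fun i => by
    show _ * _ = _
    rw [← Finset.prod_mul_distrib]
    exact Finset.prod_congr rfl fun j _ => (hc i j).eq
  have hlt : ∀ i j, i < j → f i * f j = 0 := fun i j hij => by
    have h0 : e i * c j i = 0 := by simp only [c, if_pos hij]; rw [mul_sub, mul_one, (he i).eq, sub_self]
    calc f i * f j = (e i * c j i) * ((∏ k, c i k) * e j * ∏ k ∈ Finset.univ.erase i, c j k) := by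
          simp only [f]; rw [← Finset.mul_prod_erase Finset.univ (fun k => c j k) (Finset.mem_univ i)]; ring
      _ = 0 := by rw [h0, zero_mul]
  have ho : OrthogonalIdempotents f := ⟨fun i => (he i).mul (hprod i), fun i j hij => by
    rcases lt_or_gt_of_ne hij with h | h
    · exact hlt i j h
    · show f i * f j = 0
      rw [mul_comm]; exact hlt j i h⟩
  have hfQ : ∀ i, f i ∉ (Q i).asIdeal := fun i h => by
    rcases (Q i).isPrime.mem_or_mem h with h | h
    · exact heQ i h
    · obtain ⟨j, -, hj⟩ := (Ideal.IsPrime.prod_mem_iff).1 h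
      simp only [c] at hj
      split_ifs at hj with hji
      · refine hji.ne (hQinj (PrimeSpectrum.ext (piece_unique (he j) (hs j) _ _ (heQ j) ?_ (hQ j) (hQ i))))
        intro hej
        exact (Q i).isPrime.ne_top ((Ideal.eq_top_iff_one _).2 (by
          have := add_mem hj hej
          rwa [sub_add_cancel] at this))
      · exact (Q i).isPrime.ne_top ((Ideal.eq_top_iff_one _).2 hj)
  have hfe : ∀ i, f i * e i = f i := fun i => by
    show e i * _ * e i = e i * _
    rw [mul_right_comm, (he i).eq]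
  refine ⟨R', inferInstance, inferInstance, inferInstance, p', inferInstance, hover, n, fun i => (R' ⊗[R] S) ⧸ Ideal.span {1 - f i},
    inferInstance, inferInstance, (R' ⊗[R] S) ⧸ Ideal.span {∑ i, f i}, inferInstance, inferInstance,
    ⟨splitEquiv f ho⟩, fun i => ?_, fun q _ hq => ?_⟩
  · have h := surjective_of_mul (hfe i) (hs i)
    exact ⟨h, (piece_prime (ho.idem i) h _ (hfQ i) (hQ i)).1, (piece_prime (ho.idem i) h _ (hfQ i) (hQ i)).2.1⟩
  · let q' : PrimeSpectrum (R' ⊗[R] S) := ⟨q.comap (Ideal.Quotient.mk _), inferInstance⟩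
    have hq' : q'.asIdeal.comap (algebraMap R' _) = p' := by
      rw [← hq, Ideal.comap_comap]
      rfl
    obtain ⟨i, hi⟩ : ∃ i, Q i = q' := ⟨en ⟨q', hq'⟩, by simp [Q]⟩
    refine hfQ i ?_
    rw [hi]
    show Ideal.Quotient.mk _ (f i) ∈ q
    have : f i = f i * ∑ j, f j := by
      rw [Finset.mul_sum, Finset.sum_eq_single i (fun j _ hj => ho.ortho hj.symm) (by simp), (ho.idem i).eq]
    rw [this, map_mul, show Ideal.Quotient.mk (Ideal.span {∑ j, f j}) (∑ j, f j) = 0 from
      Ideal.Quotient.eq_zero_iff_mem.2 (Ideal.subset_span rfl), mul_zero]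
    exact q.zero_mem

end Groth.Agent.H06Unram.EtaleSplit
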