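import Groth.Agent.H06Unram.GeomUnibranch
import Groth.Agent.H06Topo.Basic
import Mathlib

/-!
# Irreducible components of unramified schemes over unibranch bases
-/

set_option autoImplicit false
set_option linter.style.haveILetI false
set_option backward.isDefEq.respectTransparency false
universe u
open CategoryTheory AlgebraicGeometry Topology

namespace Groth.Agent.H06Unram

open IsLocalRing

theorem lqf_of_unramified {X Y : Scheme.{u}} (f : X ⟶ Y) [hl : LocallyOfFiniteType f]
    [hu : FormallyUnramified f] : LocallyQuasiFinite f := by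
  rw [HasRingHomProperty.iff_appLE (P := @LocallyQuasiFinite)]
  intro U V e
  have h1 := HasRingHomProperty.appLE @LocallyOfFiniteType f hl U V e
  have h2 := HasRingHomProperty.appLE @FormallyUnramified f hu U V e
  algebraize [(f.appLE U V e).hom]
  exact (inferInstance : Algebra.QuasiFinite Γ(Y, U) Γ(X, V))

theorem minimalPrimes_subsingleton_of_isDomain_red {R : Type u} [CommRing R] (h : IsDomain (CAlg2.red R)) :
    (minimalPrimes R).Subsingleton := by
  have hp : (nilradical R).IsPrime := (Ideal.Quotient.isDomain_iff_prime _).mp h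
  have key : ∀ p ∈ minimalPrimes R, p = nilradical R := fun p hp' =>
    le_antisymm (hp'.2 ⟨hp, bot_le⟩ (haveI := hp'.1.1; nilradical_le_prime p))
      (haveI := hp'.1.1; nilradical_le_prime p)
  exact fun p hp' q hq => (key p hp').trans (key q hq).symm

/-- A point whose local ring has a unique minimal prime lies in a unique irreducible component. -/
theorem existsUnique_component {X : Scheme.{u}} (x : X) (h : (minimalPrimes (X.presheaf.stalk x)).Subsingleton) :
    ∃! Z, Z ∈ irreducibleComponents ↥X ∧ x ∈ Z := by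
  refine ⟨irreducibleComponent x, ⟨irreducibleComponent_mem_irreducibleComponents x, mem_irreducibleComponent⟩,
    fun Z hZ => ?_⟩
  have key : ∀ T ∈ irreducibleComponents ↥X, x ∈ T → ∃ p : PrimeSpectrum (X.presheaf.stalk x),
      p.asIdeal ∈ minimalPrimes (X.presheaf.stalk x) ∧ IsGenericPoint (X.fromSpecStalk x p) T := by
    intro T hT hxT
    obtain ⟨γ, hγ⟩ := QuasiSober.sober hT.1 (isClosed_of_mem_irreducibleComponents T hT)
    obtain ⟨p, rfl⟩ : γ ∈ Set.range (X.fromSpecStalk x) := by
      rw [Scheme.range_fromSpecStalk]; exact hγ.specializes hxT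
    refine ⟨p, ⟨⟨p.2, bot_le⟩, fun J hJ hle => ?_⟩, hγ⟩
    let q : PrimeSpectrum (X.presheaf.stalk x) := ⟨J, hJ.1⟩
    have hqp : q ⤳ p := (PrimeSpectrum.le_iff_specializes q p).mp hle
    have h1 : X.fromSpecStalk x q ⤳ X.fromSpecStalk x p := hqp.map (X.fromSpecStalk x).continuous
    have h2 : T ⊆ closure {X.fromSpecStalk x q} := hγ.def ▸ h1.closure_subset
    have h3 := hT.2 isIrreducible_singleton.closure h2
    have h4 : X.fromSpecStalk x p ⤳ X.fromSpecStalk x q := hγ.specializes (h3 (subset_closure rfl))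
    exact (PrimeSpectrum.le_iff_specializes p q).mpr ((X.fromSpecStalk x).isEmbedding.isInducing.specializes_iff.mp h4)
  obtain ⟨p, hp, hpg⟩ := key _ hZ.1 hZ.2
  obtain ⟨q, hq, hqg⟩ := key _ (irreducibleComponent_mem_irreducibleComponents x) mem_irreducibleComponent
  obtain rfl : p = q := PrimeSpectrum.ext (h hp hq)
  exact hpg.def.symm.trans hqg.def

variable {X Y : Scheme.{u}} (f : X ⟶ Y)

/-- The components of a scheme generalizing and locally quasi-finite over an irreducible scheme, when
every point lies in a single component. -/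
theorem isOpen_component_and_unique_generic [IrreducibleSpace Y] [LocallyQuasiFinite f]
    [LocallyOfFiniteType f] (hg : GeneralizingMap f)
    (huniq : ∀ x : X, ∃! Z, Z ∈ irreducibleComponents ↥X ∧ x ∈ Z) {Z : Set X}
    (hZ : Z ∈ irreducibleComponents ↥X) :
    IsOpen Z ∧ ∃! x : X, x ∈ Z ∧ f.base x = genericPoint Y := by
  have hη : ∀ y : Y, genericPoint Y ⤳ y := fun y => (genericPoint_spec Y).specializes (Set.mem_univ y)
  have hgen : ∀ {T : Set X}, T ∈ irreducibleComponents ↥X → ∀ {ξ : X}, IsGenericPoint ξ T →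
      f ξ = genericPoint Y := by
    intro T hT ξ hξ
    obtain ⟨-, h2⟩ := H06Topo.closure_singleton_image_mem_irreducibleComponents f.continuous hg hT hξ
    exact ((hη (f ξ)).antisymm
      (specializes_iff_closure_subset.mpr fun z hz => h2.2 (IrreducibleSpace.isIrreducible_univ (X := ↥Y)) (Set.subset_univ _) (Set.mem_univ z))).symm.eq
  have hdisc : ∀ {a b : X}, f a = genericPoint Y → f b = genericPoint Y → a ⤳ b → a = b := by
    intro a b ha hb hab
    have hd := (f.isDiscrete_preimage_singleton (genericPoint Y)).to_subtype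
    have h : (⟨a, ha⟩ : f ⁻¹' {genericPoint Y}) ⤳ ⟨b, hb⟩ :=
      IsInducing.subtypeVal.specializes_iff.mp hab
    exact congrArg Subtype.val h.eq
  have hcomp : ∀ {ξ : X}, f ξ = genericPoint Y → closure {ξ} ∈ irreducibleComponents ↥X := by
    intro ξ hξ
    refine ⟨isIrreducible_singleton.closure, fun T hT hle => ?_⟩
    obtain ⟨s, hs⟩ := QuasiSober.sober hT.closure isClosed_closure
    have hsξ : s ⤳ ξ := hs.specializes (subset_closure (hle (subset_closure rfl)))
    have hfs : f s = genericPoint Y :=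
      ((hη (f s)).antisymm (hξ ▸ hsξ.map f.continuous)).symm.eq
    obtain rfl := hdisc hfs hξ hsξ
    exact subset_closure.trans hs.def.symm.subset
  obtain ⟨ξ, hξ⟩ := QuasiSober.sober hZ.1 (isClosed_of_mem_irreducibleComponents Z hZ)
  refine ⟨isOpen_iff_forall_mem_open.mpr fun x hx => ?_, ξ, ⟨hξ.mem, hgen hZ hξ⟩, fun a ha => ?_⟩
  · obtain ⟨W, hW, hxW, -⟩ := exists_isAffineOpen_mem_and_subset (X := Y) (x := f x) (U := ⊤) trivial
    obtain ⟨V, hV, hxV, hle⟩ := exists_isAffineOpen_mem_and_subset (X := X) (x := x) (U := f ⁻¹ᵁ W) hxW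
    have hle' : V ≤ f ⁻¹ᵁ W := hle
    let g := f.resLE W V hle'
    haveI : IsAffine (Scheme.Opens.toScheme V) := hV
    haveI : IsAffine (Scheme.Opens.toScheme W) := hW
    haveI : LocallyQuasiFinite g := by dsimp only [g]; infer_instance
    haveI : QuasiCompact g := (HasAffineProperty.iff_of_isAffine (P := @QuasiCompact)).mpr inferInstance
    have hWη : genericPoint Y ∈ W := (hη (f x)).mem_open W.2 hxW
    have hfin : {a : X | a ∈ V ∧ f a = genericPoint Y}.Finite := by
      refine ((g.finite_preimage_singleton ⟨_, hWη⟩).image V.ι).subset ?_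
      rintro a ⟨haV, hfa⟩
      let a' : V.toScheme := ⟨a, haV⟩
      refine ⟨a', ?_, rfl⟩
      apply W.ι.isOpenEmbedding.injective
      show (g ≫ W.ι).base a' = _
      rw [Scheme.Hom.resLE_comp_ι, Scheme.Hom.comp_apply]
      exact hfa
    let F : Set X := ⋃ a ∈ {a : X | a ∈ V ∧ f a = genericPoint Y} \ {ξ}, closure {a}
    have hF : IsClosed F := hfin.sdiff.isClosed_biUnion fun _ _ => isClosed_closure
    refine ⟨(V : Set X) \ F, fun w hw => ?_, V.2.sdiff hF, hxV, fun hxF => ?_⟩
    · obtain ⟨T, ⟨hT, hwT⟩, -⟩ := huniq w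
      obtain ⟨γ, hγ⟩ := QuasiSober.sober hT.1 (isClosed_of_mem_irreducibleComponents T hT)
      rcases eq_or_ne γ ξ with rfl | hne
      · exact hξ.def.subset (hγ.specializes hwT).mem_closure
      · exact absurd (show w ∈ F from Set.mem_biUnion (x := γ) ⟨⟨(hγ.specializes hwT).mem_open V.2 hw.1, hgen hT hγ⟩, hne⟩
          (hγ.specializes hwT).mem_closure) hw.2
    · obtain ⟨a, ⟨⟨-, hfa⟩, hne⟩, hxa⟩ := Set.mem_iUnion₂.mp hxF
      exact hne (hξ.eq (show closure {a} = Z from (huniq x).unique ⟨hcomp hfa, hxa⟩ ⟨hZ, hx⟩)).symm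
  · exact (hdisc (hgen hZ hξ) ha.2 (hξ.specializes ha.1)).symm

/-- An unramified point over an integral scheme at a geometrically unibranch point, with injective
stalk map, has an etale neighbourhood. -/
theorem exists_etale_nhd_of_injective [IsIntegral Y] [LocallyOfFiniteType f] {x : X}
    (hu : x ∈ H06EGA9.unramSet f) (hY : CAlg2.IsGeomUnibranch (Y.presheaf.stalk (f.base x)))
    (hinj : Function.Injective (f.stalkMap x)) :
    ∃ U : X.Opens, x ∈ U ∧ Etale (U.ι ≫ f) := by
  obtain ⟨R, A, _, _, _, a, b, _, _, ⟨z, rfl⟩, w⟩ := H06EGA9.exists_affine_chart f x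
  let zz : PrimeSpectrum A := z
  haveI := H17.LocusBC.finiteType_of_chart f a b w
  have hu' : Algebra.IsUnramifiedAt R zz.asIdeal := (H06EGA9.preimage_unramSet_chart f a b w).le hu
  haveI := hu'
  haveI : Nonempty ↥(Spec (CommRingCat.of R)) := ⟨(Spec.map (CommRingCat.ofHom (algebraMap R A))) z⟩
  haveI : IsIntegral (Spec (CommRingCat.of R)) := isIntegral_of_isOpenImmersion b
  haveI : IsDomain R := affine_isIntegral_iff _ |>.mp ‹_›
  let φ := Spec.map (CommRingCat.ofHom (algebraMap R A))
  have key : ∀ (g₁ g₂ : Spec (.of A) ⟶ Y), g₁ = g₂ →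
      Function.Injective (g₁.stalkMap z) →
      CAlg2.IsGeomUnibranch (Y.presheaf.stalk (g₁ z)) → Function.Injective (g₂.stalkMap z) ∧
        CAlg2.IsGeomUnibranch (Y.presheaf.stalk (g₂ z)) := by
    rintro g₁ _ rfl h1 h2; exact ⟨h1, h2⟩
  have h0 : Function.Injective ((a ≫ f).stalkMap z) := by
    rw [Scheme.Hom.stalkMap_comp]
    exact (asIso (a.stalkMap z)).commRingCatIsoToRingEquiv.injective.comp hinj
  obtain ⟨h1, h3⟩ := key _ (φ ≫ b) w.symm h0 hY
  let eb : Y.presheaf.stalk ((φ ≫ b) z) ≃+* (Spec (.of R)).presheaf.stalk (φ z) :=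
    (asIso (b.stalkMap (φ z))).commRingCatIsoToRingEquiv
  have h1' : Function.Injective (φ.stalkMap z) := by
    intro s t hst
    obtain ⟨s, rfl⟩ := eb.surjective s
    obtain ⟨t, rfl⟩ := eb.surjective t
    refine congrArg eb (h1 ?_)
    rw [Scheme.Hom.stalkMap_comp]
    exact hst
  let p := (zz.comap (algebraMap R A)).asIdeal
  haveI : zz.asIdeal.LiesOver p := ⟨rfl⟩
  let e := Scheme.arrowStalkMapSpecIso (CommRingCat.ofHom (algebraMap R A)) zz
  let e₁ : (Spec (.of R)).presheaf.stalk (φ z) ≃+* Localization.AtPrime p :=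
    (Arrow.leftFunc.mapIso e).commRingCatIsoToRingEquiv
  let e₂ : (Spec (.of A)).presheaf.stalk z ≃+* Localization.AtPrime zz.asIdeal :=
    (Arrow.rightFunc.mapIso e).commRingCatIsoToRingEquiv
  have hp : Function.Injective
      (Localization.localRingHom p zz.asIdeal (algebraMap R A) (zz.asIdeal.over_def p)) := by
    intro s t hst
    obtain ⟨s, rfl⟩ := e₁.surjective s
    obtain ⟨t, rfl⟩ := e₁.surjective t
    have hw : ∀ r, Localization.localRingHom p zz.asIdeal (algebraMap R A) (zz.asIdeal.over_def p) (e₁ r) =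
        e₂ (φ.stalkMap z r) := fun r => ConcreteCategory.congr_hom e.hom.w r
    rw [hw, hw] at hst
    exact congrArg e₁ (h1' (e₂.injective hst))
  obtain ⟨g, hg, hget⟩ := H1Branch.exists_etale_away (A := R) (B := A) zz.asIdeal p
    (H06EGA14.isGeomUnibranch_of_ringEquiv (eb.trans e₁) h3) (fun r hr => by
      refine IsLocalization.injective (Localization.AtPrime p) p.primeCompl_le_nonZeroDivisors
        ((hp ?_).trans (map_zero (algebraMap R (Localization.AtPrime p))).symm)
      rw [Localization.localRingHom_to_map, map_zero, ← IsScalarTower.algebraMap_apply]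
      exact hr)
  let j := Spec.map (CommRingCat.ofHom (algebraMap A (Localization.Away g))) ≫ a
  haveI : IsOpenImmersion (Spec.map (CommRingCat.ofHom (algebraMap A (Localization.Away g)))) :=
    IsOpenImmersion.of_isLocalization g
  refine ⟨j.opensRange, ?_, ?_⟩
  · obtain ⟨v, hv⟩ : zz ∈ Set.range (PrimeSpectrum.comap (algebraMap A (Localization.Away g))) := by
      rw [PrimeSpectrum.localization_away_comap_range (Localization.Away g) g]; exact hg
    exact ⟨v, congrArg a hv⟩
  · have he : Etale (j ≫ f) := by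
      rw [Category.assoc, ← w, ← Category.assoc, ← Spec.map_comp]
      haveI : Etale (Spec.map (CommRingCat.ofHom (algebraMap A (Localization.Away g))) ) := inferInstance
      haveI : Etale (Spec.map (CommRingCat.ofHom (algebraMap R A) ≫
          CommRingCat.ofHom (algebraMap A (Localization.Away g)))) := by
        rw [← CommRingCat.ofHom_comp, ← IsScalarTower.algebraMap_eq]
        exact (HasRingHomProperty.Spec_iff (P := @Etale)).mpr (RingHom.etale_algebraMap.mpr hget)
      infer_instance
    have heq : j.opensRange.ι ≫ f = j.isoOpensRange.inv ≫ (j ≫ f) := by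
      rw [← Category.assoc, Scheme.Hom.isoOpensRange_inv_comp]
    rw [heq]; infer_instance

/-- Over an integral scheme with geometrically unibranch local rings, a connected unramified scheme
meeting the generic fibre is etale. -/
theorem etale_of_connected [IsIntegral Y] (hY : ∀ y : Y, CAlg2.IsGeomUnibranch (Y.presheaf.stalk y))
    [ConnectedSpace X] [LocallyOfFiniteType f] [FormallyUnramified f]
    (hη : ∃ x : X, f.base x = genericPoint Y) : Etale f := by
  let E : Set X := {x | Function.Injective (f.stalkMap x)}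
  have hu : ∀ x : X, x ∈ H06EGA9.unramSet f := fun x => FormallyUnramified.stalkMap f x
  have hnhd : ∀ x ∈ E, ∃ U : X.Opens, x ∈ U ∧ Etale (U.ι ≫ f) := fun x hx =>
    exists_etale_nhd_of_injective f (hu x) (hY _) hx
  have hflat : ∀ x : X, (f.stalkMap x).hom.Flat → x ∈ E := fun x hfl => by
    letI := (f.stalkMap x).hom.toAlgebra
    haveI : Module.Flat (Y.presheaf.stalk (f.base x)) (X.presheaf.stalk x) := hfl
    haveI : IsLocalHom (algebraMap (Y.presheaf.stalk (f.base x)) (X.presheaf.stalk x)) :=
      inferInstanceAs (IsLocalHom (f.stalkMap x).hom)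
    haveI : Module.FaithfullyFlat (Y.presheaf.stalk (f.base x)) (X.presheaf.stalk x) :=
      Module.FaithfullyFlat.of_flat_of_isLocalHom
    exact FaithfulSMul.algebraMap_injective (Y.presheaf.stalk (f.base x)) (X.presheaf.stalk x)
  have hopen : IsOpen E := isOpen_iff_forall_mem_open.mpr fun x hx => by
    obtain ⟨U, hxU, hU⟩ := hnhd x hx
    refine ⟨U, fun y hy => hflat y ?_, U.2, hxU⟩
    let z : U.toScheme := ⟨y, hy⟩
    have h := Flat.stalkMap (U.ι ≫ f) z
    rw [Scheme.Hom.stalkMap_comp] at h
    exact RingHom.Flat.respectsIso.cancel_right_isIso (f.stalkMap y) (U.ι.stalkMap z) |>.mp h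
  have hclosed : IsClosed E := by
    rw [← isOpen_compl_iff, isOpen_iff_forall_mem_open]
    intro x hx
    obtain ⟨s, hs, hs0⟩ : ∃ s, f.stalkMap x s = 0 ∧ s ≠ 0 := by
      by_contra h
      push Not at h
      exact hx ((injective_iff_map_eq_zero _).mpr h)
    obtain ⟨W, hxW, t, rfl⟩ := Y.presheaf.exists_germ_eq s
    rw [Scheme.Hom.germ_stalkMap_apply] at hs
    obtain ⟨V, hxV, i, i', h0⟩ := X.presheaf.germ_eq x (show x ∈ f ⁻¹ᵁ W from hxW) (show x ∈ f ⁻¹ᵁ W from hxW)
      (f.app W t) 0 (hs.trans (map_zero _).symm)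
    refine ⟨V, fun y hy hyE => hs0 ?_, V.2, hxV⟩
    have hy' : y ∈ f ⁻¹ᵁ W := i.le hy
    have h1 : f.stalkMap y (Y.presheaf.germ W (f y) hy' t) = 0 :=
      (Scheme.Hom.germ_stalkMap_apply f W y hy' t).trans ((X.presheaf.germ_res_apply i y hy _).symm.trans
        ((congrArg _ h0).trans ((congrArg _ (map_zero _)).trans (map_zero _))))
    have h2 := hyE (h1.trans (map_zero _).symm)
    haveI : Nonempty ↥W := ⟨⟨_, hxW⟩⟩
    rw [germ_injective_of_isIntegral Y (f y) hy' (h2.trans (map_zero _).symm), map_zero]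
  have hne : E.Nonempty := by
    obtain ⟨x₀, hx₀⟩ := hη
    have hfld : IsField (Y.presheaf.stalk (f.base x₀)) := by
      rw [hx₀]; exact Field.toIsField Y.functionField
    letI := hfld.toField
    exact ⟨x₀, (f.stalkMap x₀).hom.injective⟩
  have hall : E = Set.univ := IsClopen.eq_univ ⟨hclosed, hopen⟩ hne
  choose U hxU hU using fun x : X => hnhd x (hall ▸ Set.mem_univ x)
  exact (IsZariskiLocalAtSource.iff_of_iSup_eq_top (P := @Etale) U
    (eq_top_iff.mpr fun x _ => TopologicalSpace.Opens.mem_iSup.mpr ⟨x, hxU x⟩)).mpr hU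

end Groth.Agent.H06Unram
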