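import Mathlib

/-!
# Unramified local homomorphisms and the closed fibre ring
-/

set_option autoImplicit false
set_option linter.style.haveILetI false
universe u
open IsLocalRing

namespace Groth.Agent.H06Unram

theorem sep_and_map_iff {R A : Type u} [CommRing R] [IsLocalRing R] [CommRing A] [IsLocalRing A]
    [Algebra R A] [IsLocalHom (algebraMap R A)] [Algebra.EssFiniteType R A] :
    (Algebra.IsSeparable (ResidueField R) (ResidueField A) ∧
      (maximalIdeal R).map (algebraMap R A) = maximalIdeal A) ↔
      letI := (Ideal.quotientMap ((maximalIdeal R).map (algebraMap R A)) (algebraMap R A) Ideal.le_comap_map).toAlgebra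
      IsField (A ⧸ (maximalIdeal R).map (algebraMap R A)) ∧
        Module.Finite (R ⧸ maximalIdeal R) (A ⧸ (maximalIdeal R).map (algebraMap R A)) ∧
        Algebra.IsSeparable (R ⧸ maximalIdeal R) (A ⧸ (maximalIdeal R).map (algebraMap R A)) := by
  let J := (maximalIdeal R).map (algebraMap R A)
  letI : Algebra (R ⧸ maximalIdeal R) (A ⧸ J) := (Ideal.quotientMap J (algebraMap R A) Ideal.le_comap_map).toAlgebra
  have key : ∀ hmax : J = maximalIdeal A, ∃ e : (A ⧸ J) ≃+* ResidueField A,
      ∀ r : R, e (Ideal.quotientMap J (algebraMap R A) Ideal.le_comap_map (Ideal.Quotient.mk _ r)) =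
        algebraMap (ResidueField R) (ResidueField A) (residue R r) :=
    fun hmax => ⟨Ideal.quotEquivOfEq hmax, fun r => rfl⟩
  letI : Field (R ⧸ maximalIdeal R) := Ideal.Quotient.field _
  let e₀ : ResidueField R ≃+* (R ⧸ maximalIdeal R) := RingEquiv.refl _
  constructor
  · rintro ⟨hsep, hmax⟩
    obtain ⟨e, he⟩ := key hmax
    haveI := hsep
    haveI : Algebra.EssFiniteType (ResidueField R) (ResidueField A) := by
      haveI : Algebra.EssFiniteType A (ResidueField A) :=
        haveI := Algebra.FiniteType.of_surjective (Algebra.ofId A (ResidueField A)) residue_surjective; inferInstance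
      haveI := Algebra.EssFiniteType.comp R A (ResidueField A)
      exact Algebra.EssFiniteType.of_comp R (ResidueField R) (ResidueField A)
    haveI : Algebra.FormallyEtale (ResidueField R) (ResidueField A) := Algebra.FormallyEtale.of_isSeparable _ _
    haveI hfin : Module.Finite (ResidueField R) (ResidueField A) := Algebra.FormallyUnramified.finite_of_free _ _
    have hc : (algebraMap (R ⧸ maximalIdeal R) (A ⧸ J)).comp e₀.toRingHom =
        e.symm.toRingHom.comp (algebraMap (ResidueField R) (ResidueField A)) := RingHom.ext fun r => by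
      obtain ⟨r, rfl⟩ := residue_surjective r
      refine e.injective ?_
      exact (he r).trans (e.apply_symm_apply _).symm
    exact ⟨e.toMulEquiv.isField (Field.toIsField _), Module.Finite.of_equiv_equiv e₀ e.symm hc,
      Algebra.IsSeparable.of_equiv_equiv e₀ e.symm hc⟩
  · rintro ⟨hfld, -, hsep⟩
    have hmax : J = maximalIdeal A :=
      eq_maximalIdeal (Ideal.Quotient.maximal_of_isField _ hfld)
    obtain ⟨e, he⟩ := key hmax
    have hc : (algebraMap (ResidueField R) (ResidueField A)).comp e₀.symm.toRingHom =
        e.toRingHom.comp (algebraMap (R ⧸ maximalIdeal R) (A ⧸ J)) := RingHom.ext fun r => by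
      obtain ⟨r, rfl⟩ := Ideal.Quotient.mk_surjective r
      exact (he r).symm
    haveI := hsep
    exact ⟨Algebra.IsSeparable.of_equiv_equiv e₀.symm e hc, hmax⟩

end Groth.Agent.H06Unram
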