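import Groth.Agent.H8Props.FibreStalk
import Groth.Agent.H05EGA4.GeomFibre
import Groth.Agent.H05EGA4.RegHomFS
import Groth.Agent.H02CA.EssFTSmooth
import Groth.Agent.H06EGA17.StalkApps
import Groth.Agent.H17.LocusBC
import Groth.Agent.H12AlgSp.LocPCancel
import Groth.Prelude.Def_FDesc

/-!
# Geometric regularity of the local ring of a fibre and smoothness of the fibre (EGA IV 17.5.1)
-/

set_option autoImplicit false
set_option linter.style.haveILetI false
set_option backward.isDefEq.respectTransparency false
universe u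

open CategoryTheory CategoryTheory.Limits AlgebraicGeometry IsLocalRing

namespace Groth.Agent.H06Unram.GeomRegFibre

/-- The fibre local ring map over the residue field, up to isomorphism. -/
theorem formallySmooth_fibre_iff {X Y : Scheme.{u}} (f : X ⟶ Y) (x : X) :
    ((f.fiberToSpecResidueField (f x)).stalkMap (f.asFiber x)).hom.FormallySmooth ↔
      (Ideal.quotientMap ((maximalIdeal (Y.presheaf.stalk (f x))).map (f.stalkMap x).hom) (f.stalkMap x).hom
        Ideal.le_comap_map :
        ResidueField (Y.presheaf.stalk (f x)) →+* X.presheaf.stalk x ⧸ (maximalIdeal (Y.presheaf.stalk (f x))).map (f.stalkMap x).hom).FormallySmooth := by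
  let φ0 := f.fiberToSpecResidueField (f x)
  let g := Y.fromSpecResidueField (f x)
  let z := f.asFiber x
  have hz : g (φ0 z) = f x := Scheme.fromSpecResidueField_apply _ _
  let μ : Y.presheaf.stalk (f x) ⟶ (Spec (Y.residueField (f x))).presheaf.stalk (φ0 z) :=
    (Y.presheaf.stalkCongr (.of_eq hz.symm)).hom ≫ g.stalkMap (φ0 z)
  have hμ : Function.Surjective μ.hom :=
    (g.stalkMap_surjective (φ0 z)).comp
      (ConcreteCategory.bijective_of_isIso (Y.presheaf.stalkCongr (.of_eq hz.symm)).hom).2
  have hK := H8Props.FibreStalk.isField_stalk_Spec (Y.residueField (f x)) (Field.toIsField _) (φ0 z)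
  have hker : RingHom.ker μ.hom = maximalIdeal (Y.presheaf.stalk (f x)) := by
    letI := hK.toField
    exact IsLocalRing.eq_maximalIdeal (RingHom.ker_isMaximal_of_surjective μ.hom hμ)
  let ε : ResidueField (Y.presheaf.stalk (f x)) ≃+* (Spec (Y.residueField (f x))).presheaf.stalk (φ0 z) :=
    (Ideal.quotEquivOfEq hker.symm).trans (RingHom.quotientKerEquivOfSurjective hμ)
  let e := H8Props.FibreStalk.asFiberStalkEquiv f x
  have key : μ ≫ φ0.stalkMap z =
      f.stalkMap x ≫ H8Props.FibreStalk.toFibre f x (f x) z (f.fiberι_asFiber x) := by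
    have hfac : f.fiberι (f x) ≫ f = φ0 ≫ g := f.fiber_fac _
    have h1 : ∀ (w : X) (hw : f.fiberι (f x) z = w),
        f.stalkMap w ≫ (X.presheaf.stalkCongr (.of_eq hw.symm)).hom ≫ (f.fiberι (f x)).stalkMap z =
          (Y.presheaf.stalkCongr (.of_eq (show f w = (f.fiberι (f x) ≫ f) z by rw [Scheme.Hom.comp_apply, hw]))).hom ≫
            (f.fiberι (f x) ≫ f).stalkMap z := by
      rintro w rfl
      rw [Scheme.Hom.stalkMap_comp]
      simp [TopCat.Presheaf.stalkCongr, TopCat.Presheaf.stalkSpecializes_refl]
    rw [show f.stalkMap x ≫ H8Props.FibreStalk.toFibre f x (f x) z (f.fiberι_asFiber x) = _ from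
      h1 x (f.fiberι_asFiber x), Scheme.Hom.stalkMap_congr_hom _ _ hfac z, Scheme.Hom.stalkMap_comp]
    simp [μ, g, φ0, TopCat.Presheaf.stalkCongr, TopCat.Presheaf.stalkSpecializes_comp_assoc]
  let ψ : ResidueField (Y.presheaf.stalk (f x)) →+*
      X.presheaf.stalk x ⧸ (maximalIdeal (Y.presheaf.stalk (f x))).map (f.stalkMap x).hom :=
    Ideal.quotientMap _ (f.stalkMap x).hom Ideal.le_comap_map
  have hsq : (φ0.stalkMap z).hom.comp ε.toRingHom = e.toRingHom.comp ψ := by
    refine Ideal.Quotient.ringHom_ext (RingHom.ext fun a => ?_)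
    exact congr($key a)
  have h1 : (φ0.stalkMap z).hom = (e.toRingHom.comp ψ).comp ε.symm.toRingHom := by
    rw [← hsq]
    ext w
    exact congrArg _ (ε.apply_symm_apply w).symm
  have h2 : ψ = (e.symm.toRingHom.comp (φ0.stalkMap z).hom).comp ε.toRingHom := by
    rw [RingHom.comp_assoc, hsq]
    ext w
    exact (e.symm_apply_apply _).symm
  constructor
  · intro h
    show ψ.FormallySmooth
    rw [h2]
    exact RingHom.FormallySmooth.respectsIso.2 _ ε (RingHom.FormallySmooth.respectsIso.1 _ e.symm h)
  · intro h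
    rw [h1]
    exact RingHom.FormallySmooth.respectsIso.2 _ ε.symm (RingHom.FormallySmooth.respectsIso.1 _ e h)

/-- Over a field, formal smoothness of an essentially finite type local algebra is geometric regularity. -/
theorem formallySmooth_iff_isGeometricallyRegular (k R : Type u) [Field k] [CommRing R] [IsLocalRing R]
    [IsNoetherianRing R] [Algebra k R] [Algebra.EssFiniteType k R] :
    Algebra.FormallySmooth k R ↔ CAlg.IsGeometricallyRegular k R := by
  constructor
  · intro h k' _ _ hfin
    exact H05EGA4.isRegularRing_tensor_of_isAdicFormallySmooth (R := k) (S := R)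
      (fun C _ _ J hJ ψ _ => Algebra.FormallySmooth.comp_surjective k R J hJ ψ) k'
  · exact fun h => H02CA.EssFTSmooth.formallySmooth_of_isAdicFormallySmooth
      (H05EGA4.isAdicFormallySmooth_of_isGeometricallyRegular h)

/-- EGA IV 17.5.1: the fibre is smooth at a point iff its local ring is geometrically regular. -/
theorem mem_smoothLocus_iff {X Y : Scheme.{u}} (f : X ⟶ Y) [IsLocallyNoetherian Y] [LocallyOfFiniteType f]
    [LocallyOfFinitePresentation f] (x : X) [LocallyOfFinitePresentation (f.fiberToSpecResidueField (f x))] :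
    letI φ := (f.stalkMap x).hom
    letI 𝔪 := maximalIdeal ↑(Y.presheaf.stalk (f x))
    letI : Algebra (ResidueField ↑(Y.presheaf.stalk (f x))) (↑(X.presheaf.stalk x) ⧸ 𝔪.map φ) :=
      (Ideal.quotientMap (𝔪.map φ) φ Ideal.le_comap_map).toAlgebra
    f.asFiber x ∈ (f.fiberToSpecResidueField (f x)).smoothLocus ↔
      CAlg.IsGeometricallyRegular (ResidueField ↑(Y.presheaf.stalk (f x))) (↑(X.presheaf.stalk x) ⧸ 𝔪.map φ) := by
  haveI : IsLocallyNoetherian X := LocallyOfFiniteType.isLocallyNoetherian f
  let A := Y.presheaf.stalk (f x)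
  let B := X.presheaf.stalk x
  let I : Ideal B := (maximalIdeal A).map (f.stalkMap x).hom
  letI : Algebra A B := (f.stalkMap x).hom.toAlgebra
  haveI : Algebra.EssFiniteType A B := LocallyOfFiniteType.stalkMap f x
  letI : Algebra (ResidueField A) (B ⧸ I) :=
    (Ideal.quotientMap I (f.stalkMap x).hom Ideal.le_comap_map).toAlgebra
  haveI : IsScalarTower A (ResidueField A) (B ⧸ I) := IsScalarTower.of_algebraMap_eq fun a => rfl
  haveI : Algebra.EssFiniteType A (B ⧸ I) := inferInstance
  haveI : Algebra.EssFiniteType (ResidueField A) (B ⧸ I) := Algebra.EssFiniteType.of_comp A _ _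
  haveI : Nontrivial (B ⧸ I) := Ideal.Quotient.nontrivial_iff.mpr
    (ne_top_of_le_ne_top (maximalIdeal.isMaximal B).ne_top (map_maximalIdeal_le (f.stalkMap x).hom))
  haveI : IsLocalRing (B ⧸ I) := .of_surjective' _ Ideal.Quotient.mk_surjective
  rw [Scheme.Hom.mem_smoothLocus, formallySmooth_fibre_iff]
  exact (RingHom.formallySmooth_algebraMap (R := ResidueField A) (S := B ⧸ I)).trans
    (formallySmooth_iff_isGeometricallyRegular (ResidueField A) (B ⧸ I))

/-- A point where a scheme over a field is smooth is geometrically reduced. -/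
theorem isGeomReducedAt_of_mem_smoothLocus {k : Type u} [Field k] {X : Scheme.{u}}
    (f : X ⟶ Spec (CommRingCat.of k)) [LocallyOfFinitePresentation f] {x : X} (hx : x ∈ f.smoothLocus) :
    FBase.IsGeomReducedAt f x := by
  intro K _ _ x' hx'
  haveI : LocallyOfFinitePresentation (pullback.snd f (Spec.map (CommRingCat.ofHom (algebraMap k K)))) :=
    MorphismProperty.pullback_snd _ _ inferInstance
  have h : x' ∈ (pullback.snd f (Spec.map (CommRingCat.ofHom (algebraMap k K)))).smoothLocus :=
    H17.LocusBC.preimage_smoothLocus_le (IsPullback.of_hasPullback _ _) (show FBase.bcπ f K x' ∈ f.smoothLocus from hx'.symm ▸ hx)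
  refine (H06EGA17.isReduced_stalk_iff _ x' h).mpr ?_
  letI := (H8Props.FibreStalk.isField_stalk_Spec (CommRingCat.of K) (Field.toIsField _)
    (pullback.snd f (Spec.map (CommRingCat.ofHom (algebraMap k K))) x')).toField
  infer_instance

end Groth.Agent.H06Unram.GeomRegFibre
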