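import Groth.Agent.H17.LocusBC
import Groth.Agent.H06EGA9.AtPoint
import Mathlib

/-!
# Smoothness and unramifiedness at a point via liftings against thickenings of local rings
-/

set_option autoImplicit false
set_option linter.style.haveILetI false
set_option backward.isDefEq.respectTransparency false
universe u
open CategoryTheory AlgebraicGeometry IsLocalRing

namespace Groth.Agent.H06Unram.LocalLifting

section translate

variable {X : Scheme.{u}}

/-- A morphism from a local spectrum sending the closed point to `x` comes from a local homomorphism. -/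
theorem exists_eq {B : Type u} [CommRing B] [IsLocalRing B] (α : Spec (CommRingCat.of B) ⟶ X) {x : X}
    (hα : α (closedPoint B) = x) :
    ∃ a : X.presheaf.stalk x ⟶ CommRingCat.of B, IsLocalHom a.hom ∧ Spec.map a ≫ X.fromSpecStalk x = α := by
  subst hα
  exact ⟨Scheme.stalkClosedPointTo α, inferInstance, Scheme.Spec_stalkClosedPointTo_fromSpecStalk α⟩

theorem apply_closedPoint {B : Type u} [CommRing B] [IsLocalRing B] {x : X}
    (a : X.presheaf.stalk x ⟶ CommRingCat.of B) [IsLocalHom a.hom] :
    (Spec.map a ≫ X.fromSpecStalk x) (closedPoint B) = x := by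
  rw [Scheme.Hom.comp_apply]
  exact (congrArg _ (Spec_closedPoint (f := a))).trans Scheme.fromSpecStalk_closedPoint

theorem inj {B : Type u} [CommRing B] [IsLocalRing B] {x : X}
    (a a' : X.presheaf.stalk x ⟶ CommRingCat.of B) [IsLocalHom a.hom] [IsLocalHom a'.hom]
    (h : Spec.map a ≫ X.fromSpecStalk x = Spec.map a' ≫ X.fromSpecStalk x) : a = a' := by
  have h' := (SpecToEquivOfLocalRing X (CommRingCat.of B)).symm.injective
    (a₁ := ⟨x, a, inferInstance⟩) (a₂ := ⟨x, a', inferInstance⟩) h
  exact congrArg Subtype.val (eq_of_heq (Sigma.mk.inj_iff.mp h').2)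

end translate

variable {X Y : Scheme.{u}} (f : X ⟶ Y) (x : X)

theorem isLocalHom_of_comp_surjective {A B B' : Type u} [CommRing A] [CommRing B] [CommRing B']
    [IsLocalRing B] [IsLocalRing B'] (φ : B' →+* B) (hφ : Function.Surjective φ) (c : A →+* B')
    [IsLocalHom (φ.comp c)] : IsLocalHom c :=
  ⟨fun a ha => IsUnit.of_map (φ.comp c) a (ha.map φ)⟩

/-- Lifting along a thickening in terms of the stalks. -/
theorem exists_lift {B B' : Type u} [CommRing B] [CommRing B'] [IsLocalRing B] [IsLocalRing B']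
    (φ : B' →+* B) (hφ : Function.Surjective φ)
    (H : ∀ (a : X.presheaf.stalk x →+* B) (b : Y.presheaf.stalk (f.base x) →+* B'), IsLocalHom a → IsLocalHom b →
      φ.comp b = a.comp (f.stalkMap x).hom →
        ∃ c : X.presheaf.stalk x →+* B', φ.comp c = a ∧ c.comp (f.stalkMap x).hom = b)
    (α : Spec (CommRingCat.of B) ⟶ X) (β : Spec (CommRingCat.of B') ⟶ Y)
    (hα : α (closedPoint B) = x) (hc : Spec.map (CommRingCat.ofHom φ) ≫ β = α ≫ f) :
    ∃ γ : Spec (CommRingCat.of B') ⟶ X, Spec.map (CommRingCat.ofHom φ) ≫ γ = α ∧ γ ≫ f = β := by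
  haveI : IsLocalHom φ := IsLocalHom.of_surjective φ hφ
  haveI : IsLocalHom (CommRingCat.ofHom φ).hom := ‹IsLocalHom φ›
  have hβ : β (closedPoint B') = f x := by
    have h1 := congr(($hc) (closedPoint B))
    rw [Scheme.Hom.comp_apply, Scheme.Hom.comp_apply, hα] at h1
    exact (congrArg β (Spec_closedPoint (f := CommRingCat.ofHom φ)).symm).trans h1
  obtain ⟨a, _, rfl⟩ := exists_eq α hα
  obtain ⟨b, _, rfl⟩ := exists_eq β hβ
  haveI : IsLocalHom (b ≫ CommRingCat.ofHom φ).hom := RingHom.isLocalHom_comp _ _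
  haveI : IsLocalHom (f.stalkMap x ≫ a).hom := by
    haveI : IsLocalHom (CommRingCat.Hom.hom (f.stalkMap x)) := inferInstance
    exact RingHom.isLocalHom_comp _ _
  have hw : b ≫ CommRingCat.ofHom φ = f.stalkMap x ≫ a := by
    refine inj _ _ ?_
    rw [Spec.map_comp, Spec.map_comp, Category.assoc, Category.assoc, hc, Category.assoc,
      Scheme.SpecMap_stalkMap_fromSpecStalk]
  obtain ⟨c, hc1, hc2⟩ := H a.hom b.hom inferInstance inferInstance congr(CommRingCat.Hom.hom $hw)
  refine ⟨Spec.map (CommRingCat.ofHom c) ≫ X.fromSpecStalk x, ?_, ?_⟩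
  · rw [← Category.assoc, ← Spec.map_comp, show CommRingCat.ofHom c ≫ CommRingCat.ofHom φ = a from
      CommRingCat.hom_ext hc1]
  · rw [Category.assoc, ← Scheme.SpecMap_stalkMap_fromSpecStalk, ← Category.assoc, ← Spec.map_comp,
      show f.stalkMap x ≫ CommRingCat.ofHom c = b from CommRingCat.hom_ext hc2]

/-- Lifting condition at `x` on stalks from the scheme-theoretic one. -/
theorem exists_ringLift {B B' : Type u} [CommRing B] [CommRing B'] [IsLocalRing B] [IsLocalRing B']
    (φ : B' →+* B) (hφ : Function.Surjective φ)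
    (H : ∀ (α : Spec (CommRingCat.of B) ⟶ X) (β : Spec (CommRingCat.of B') ⟶ Y),
      α (closedPoint B) = x → Spec.map (CommRingCat.ofHom φ) ≫ β = α ≫ f →
        ∃ γ : Spec (CommRingCat.of B') ⟶ X, Spec.map (CommRingCat.ofHom φ) ≫ γ = α ∧ γ ≫ f = β)
    (a : X.presheaf.stalk x →+* B) (b : Y.presheaf.stalk (f.base x) →+* B') [IsLocalHom a] [IsLocalHom b]
    (h : φ.comp b = a.comp (f.stalkMap x).hom) :
    ∃ c : X.presheaf.stalk x →+* B', φ.comp c = a ∧ c.comp (f.stalkMap x).hom = b := by
  haveI : IsLocalHom φ := IsLocalHom.of_surjective φ hφ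
  haveI : IsLocalHom (CommRingCat.ofHom a).hom := ‹IsLocalHom a›
  haveI : IsLocalHom (CommRingCat.ofHom b).hom := ‹IsLocalHom b›
  haveI : IsLocalHom (CommRingCat.ofHom φ).hom := ‹IsLocalHom φ›
  obtain ⟨γ, h1, h2⟩ := H (Spec.map (CommRingCat.ofHom a) ≫ X.fromSpecStalk x)
    (Spec.map (CommRingCat.ofHom b) ≫ Y.fromSpecStalk (f x)) (apply_closedPoint _) (by
      rw [← Category.assoc, ← Spec.map_comp, Category.assoc, ← Scheme.SpecMap_stalkMap_fromSpecStalk,
        ← Category.assoc (Spec.map _), ← Spec.map_comp,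
        show CommRingCat.ofHom b ≫ CommRingCat.ofHom φ = f.stalkMap x ≫ CommRingCat.ofHom a from
          CommRingCat.hom_ext h])
  have hγ : γ (closedPoint B') = x := by
    have h3 := congr(($h1) (closedPoint B))
    rw [apply_closedPoint (CommRingCat.ofHom a), Scheme.Hom.comp_apply] at h3
    exact (congrArg γ (Spec_closedPoint (f := CommRingCat.ofHom φ)).symm).trans h3
  obtain ⟨c, _, rfl⟩ := exists_eq γ hγ
  haveI : IsLocalHom (c ≫ CommRingCat.ofHom φ).hom := RingHom.isLocalHom_comp _ _
  haveI : IsLocalHom (f.stalkMap x ≫ c).hom := by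
    haveI : IsLocalHom (CommRingCat.Hom.hom (f.stalkMap x)) := inferInstance
    exact RingHom.isLocalHom_comp _ _
  refine ⟨c.hom, congr(CommRingCat.Hom.hom $(inj (c ≫ CommRingCat.ofHom φ) (CommRingCat.ofHom a) ?_)),
    congr(CommRingCat.Hom.hom $(inj (f.stalkMap x ≫ c) (CommRingCat.ofHom b) ?_))⟩
  · rw [Spec.map_comp, Category.assoc, h1]
  · rw [Spec.map_comp, Category.assoc, Scheme.SpecMap_stalkMap_fromSpecStalk, ← Category.assoc, h2]

/-- A local algebra is formally smooth if it lifts against square-zero thickenings of local rings. -/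
theorem formallySmooth_of_local_lifts {R A : Type u} [CommRing R] [IsLocalRing R] [CommRing A] [IsLocalRing A]
    [Algebra R A] [IsLocalHom (algebraMap R A)] [Algebra.EssFiniteType R A]
    (H : ∀ (B' : Type u) [CommRing B'] [IsLocalRing B'] [Algebra R B'] (φ : B' →ₐ[R] A),
      IsLocalHom (algebraMap R B') → Function.Surjective φ → RingHom.ker φ.toRingHom ^ 2 = ⊥ →
        ∃ c : A →ₐ[R] B', φ.comp c = AlgHom.id R A) : Algebra.FormallySmooth R A := by
  let P := MvPolynomial A R
  let π : P →ₐ[R] A := MvPolynomial.aeval id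
  let p : Ideal P := (maximalIdeal A).comap π.toRingHom
  haveI : p.IsPrime := Ideal.comap_isPrime _ _
  let L := Localization.AtPrime p
  have hu : ∀ y : p.primeCompl, IsUnit (π.toRingHom y) := fun y => by
    have hy := y.2
    rw [Ideal.mem_primeCompl_iff, Ideal.mem_comap, mem_maximalIdeal, mem_nonunits_iff, not_not] at hy
    exact hy
  let g : L →ₐ[R] A :=
    { (IsLocalization.lift hu : L →+* A) with
      commutes' := fun r => by
        show IsLocalization.lift hu (algebraMap R L r) = _
        rw [IsScalarTower.algebraMap_apply R P L, IsLocalization.lift_eq]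
        exact π.commutes r }
  have hg : Function.Surjective g := fun a => ⟨algebraMap P L (MvPolynomial.X a), by
    show IsLocalization.lift hu _ = a
    rw [IsLocalization.lift_eq]
    exact MvPolynomial.aeval_X id a⟩
  haveI : Algebra.FormallySmooth R L := by
    haveI : Algebra.FormallySmooth P L := Algebra.FormallySmooth.of_isLocalization p.primeCompl
    exact Algebra.FormallySmooth.comp R P L
  refine (Algebra.FormallySmooth.iff_split_surjection g hg).mpr ?_
  let g' := g.kerSquareLift
  haveI : Nontrivial (L ⧸ RingHom.ker g.toRingHom ^ 2) := g'.toRingHom.domain_nontrivial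
  haveI : IsLocalRing (L ⧸ RingHom.ker g.toRingHom ^ 2) :=
    IsLocalRing.of_surjective' (Ideal.Quotient.mk _) Ideal.Quotient.mk_surjective
  have hs : Function.Surjective g' := fun a => by
    obtain ⟨l, rfl⟩ := hg a
    exact ⟨Ideal.Quotient.mk _ l, rfl⟩
  refine H _ g' ⟨fun r hr => ?_⟩ hs (by rw [g.ker_kerSquareLift, Ideal.cotangentIdeal_square])
  exact IsUnit.of_map (algebraMap R A) r (by rw [← g'.commutes r]; exact hr.map g'.toRingHom)

set_option backward.isDefEq.respectTransparency true in
theorem derivation_eq_zero {R A M : Type u} [CommRing R] [IsLocalRing R] [CommRing A] [IsLocalRing A]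
    [Algebra R A] [IsLocalHom (algebraMap R A)] [AddCommGroup M] [Module A M] [Module R M] [IsScalarTower R A M]
    [Module Aᵐᵒᵖ M] [IsCentralScalar A M]
    (H : ∀ (B' : Type u) [CommRing B'] [IsLocalRing B'] [Algebra R B'] (φ : B' →ₐ[R] A),
      IsLocalHom (algebraMap R B') → Function.Surjective φ → RingHom.ker φ.toRingHom ^ 2 = ⊥ →
        ∀ c₁ c₂ : A →ₐ[R] B', φ.comp c₁ = AlgHom.id R A → φ.comp c₂ = AlgHom.id R A → c₁ = c₂)
    (D : Derivation R A M) (x : A) : D x = 0 := by
  haveI : IsScalarTower R Aᵐᵒᵖ M := ⟨fun r a m => by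
    obtain ⟨a, rfl⟩ := MulOpposite.op_surjective a
    rw [← MulOpposite.op_smul, op_smul_eq_smul, op_smul_eq_smul, smul_assoc]⟩
  let φ : (TrivSqZeroExt A M) →ₐ[R] A := TrivSqZeroExt.fstHom R A M
  let c₁ : A →ₐ[R] (TrivSqZeroExt A M) := TrivSqZeroExt.inlAlgHom R A M
  let c₂ : A →ₐ[R] (TrivSqZeroExt A M) :=
    { toFun := fun a => TrivSqZeroExt.inl a + TrivSqZeroExt.inr (D a)
      map_one' := TrivSqZeroExt.ext (by simp) (by simp)
      map_mul' := fun a b => TrivSqZeroExt.ext (by simp) (by simp [Derivation.leibniz])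
      map_zero' := TrivSqZeroExt.ext (by simp) (by simp)
      map_add' := fun a b => TrivSqZeroExt.ext (by simp) (by simp)
      commutes' := fun r => by
        rw [TrivSqZeroExt.algebraMap_eq_inl']
        exact TrivSqZeroExt.ext (by simp) (by simp) }
  haveI : IsLocalRing (TrivSqZeroExt A M) := IsLocalRing.of_nonunits_add fun a b ha hb => by
    rw [mem_nonunits_iff, TrivSqZeroExt.isUnit_iff_isUnit_fst] at ha hb ⊢
    rw [TrivSqZeroExt.fst_add]
    exact IsLocalRing.nonunits_add ha hb
  have h := H (TrivSqZeroExt A M) φ ⟨fun r hr => IsUnit.of_map (algebraMap R A) r (by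
      rw [← φ.commutes r]; exact hr.map φ.toRingHom)⟩
    (fun a => ⟨TrivSqZeroExt.inl a, rfl⟩) (by
      rw [pow_two, eq_bot_iff, Ideal.mul_le]
      intro a ha b hb
      rw [Ideal.mem_bot]
      have ha' : a.fst = 0 := ha
      have hb' : b.fst = 0 := hb
      exact TrivSqZeroExt.ext (by simp [ha', hb']) (by simp [ha', hb']))
    c₁ c₂ (AlgHom.ext fun a => rfl) (AlgHom.ext fun a => by simp [φ, c₂])
  have := congrArg TrivSqZeroExt.snd (DFunLike.congr_fun h x)
  simpa [c₁, c₂] using this.symm

/-- A local algebra is formally unramified if lifts against square-zero thickenings of local rings are unique. -/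
theorem formallyUnramified_of_local_lifts {R A : Type u} [CommRing R] [IsLocalRing R] [CommRing A] [IsLocalRing A]
    [Algebra R A] [IsLocalHom (algebraMap R A)]
    (H : ∀ (B' : Type u) [CommRing B'] [IsLocalRing B'] [Algebra R B'] (φ : B' →ₐ[R] A),
      IsLocalHom (algebraMap R B') → Function.Surjective φ → RingHom.ker φ.toRingHom ^ 2 = ⊥ →
        ∀ c₁ c₂ : A →ₐ[R] B', φ.comp c₁ = AlgHom.id R A → φ.comp c₂ = AlgHom.id R A → c₁ = c₂) :
    Algebra.FormallyUnramified R A := by
  letI : Module Aᵐᵒᵖ (Ω[A⁄R]) := Module.compHom (Ω[A⁄R]) ((RingHom.id A).fromOpposite mul_comm)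
  haveI : IsCentralScalar A (Ω[A⁄R]) := ⟨fun a m => rfl⟩
  refine ⟨⟨fun a b => ?_⟩⟩
  have key : ∀ m : Ω[A⁄R], m = 0 := fun m => by
    have hm : m ∈ Submodule.span A (Set.range (KaehlerDifferential.D R A)) := by
      rw [KaehlerDifferential.span_range_derivation]; trivial
    induction hm using Submodule.span_induction with
    | mem m hm =>
      obtain ⟨a, rfl⟩ := hm
      exact derivation_eq_zero H (KaehlerDifferential.D R A) a
    | zero => rfl
    | add a b _ _ ha hb => rw [ha, hb, add_zero]
    | smul r a _ ha => rw [ha, smul_zero]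
  rw [key a, key b]

end Groth.Agent.H06Unram.LocalLifting
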