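import Groth.Agent.H29Omega.DerLocal
import Groth.Agent.H8Props.FinLocFree.Sheaf
import Groth.Agent.H8Props.FormallySmoothScheme
import Groth.Agent.S9763
import Groth.Agent.H06EGA9.QuotFlat

/-!
# Differentials of formally smooth morphisms locally of finite type are finite locally free
-/

set_option autoImplicit false
set_option linter.style.haveILetI false
universe u

open CategoryTheory CategoryTheory.Limits AlgebraicGeometry TopologicalSpace Opposite

namespace Groth.Agent.H06Unram.OmegaLocFree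

variable {X S : Scheme.{u}}

/-- Sections of a universal receptacle of a formally smooth morphism on small affines. -/
theorem sections {f : X ⟶ S} (hf : MoreMor.IsFormallySmoothHom f) [LocallyOfFiniteType f] {Ω : X.Modules}
    {d : OmegaSh.Der f Ω} (hd : OmegaSh.IsUniversal d) {U : X.Opens} (hU : IsAffineOpen U)
    {V : S.Opens} (hV : IsAffineOpen V) (h : U ≤ f ⁻¹ᵁ V) :
    Module.FinitePresentation Γ(X, U) Γ(Ω, U) ∧ Module.Flat Γ(X, U) Γ(Ω, U) := by
  haveI : IsAffine U := hU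
  obtain ⟨e⟩ := H29Omega.nonempty_restrict_iso_sheaf hd U.ι
  have h' : (⊤ : U.toScheme.Opens) ≤ (U.ι ≫ f) ⁻¹ᵁ V := fun y _ => h y.2
  have hf' : MoreMor.IsFormallySmoothHom (U.ι ≫ f) := by
    intro A _ I hI a b hab
    obtain ⟨l, hla, hlb⟩ := hf A I hI (a ≫ U.ι) b (by rw [hab, Category.assoc])
    obtain ⟨m, hm⟩ := S9763.exists_lift_opens I hI U a l hla
    refine ⟨m, ?_, ?_⟩
    · rw [← cancel_mono U.ι, Category.assoc, hm, hla]
    · rw [← Category.assoc, hm, hlb]
  let f' := U.ι ≫ f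
  have hfs := H8Props.FormallySmoothScheme.formallySmooth_appLE f' hf' (isAffineOpen_top U.toScheme) hV h'
  have hft : (f'.appLE V ⊤ h').hom.FiniteType := f'.finiteType_appLE hV (isAffineOpen_top U.toScheme) h'
  have := H17.OmegaLocal.isIso_toSect f' (isAffineOpen_top U.toScheme) hV h'
  algebraize [(f'.appLE V ⊤ h').hom]
  haveI : Module.Projective Γ(U.toScheme, ⊤) (CommRingCat.KaehlerDifferential (f'.appLE V ⊤ h')) :=
    (inferInstance : Module.Projective Γ(U.toScheme, ⊤) Ω[Γ(U.toScheme, ⊤)⁄Γ(S, V)])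
  haveI : Module.Finite Γ(U.toScheme, ⊤) (CommRingCat.KaehlerDifferential (f'.appLE V ⊤ h')) :=
    (inferInstance : Module.Finite Γ(U.toScheme, ⊤) Ω[Γ(U.toScheme, ⊤)⁄Γ(S, V)])
  let E := (asIso (OmAff.toSect f' V ⊤ h')).toLinearEquiv
  haveI : Module.Projective Γ(U.toScheme, ⊤) Γ(Omega.sheaf f', ⊤) := Module.Projective.of_equiv E
  haveI : Module.Finite Γ(U.toScheme, ⊤) Γ(Omega.sheaf f', ⊤) := Module.Finite.equiv E
  haveI : Module.FinitePresentation Γ(U.toScheme, ⊤) Γ(Omega.sheaf f', ⊤) :=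
    Module.finitePresentation_of_projective _ _
  let σ : Γ(U.toScheme, ⊤) →+* Γ(X, U) :=
    (X.presheaf.map (eqToHom U.ι_image_top.symm).op).hom.comp (U.ι.appIso ⊤).inv.hom
  have hσ : Function.Bijective σ :=
    (ConcreteCategory.bijective_of_isIso (X.presheaf.map (eqToHom U.ι_image_top.symm).op)).comp
      (ConcreteCategory.bijective_of_isIso (U.ι.appIso ⊤).inv)
  let φ : Γ(Omega.sheaf (U.ι ≫ f), ⊤) →+ Γ(Ω, U) :=
    (Ω.presheaf.map (eqToHom U.ι_image_top.symm).op).hom.comp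
      ((Ω.restrictAppIso U.ι ⊤).hom.hom.comp (e.inv.app ⊤).hom)
  have hφ : Function.Bijective φ := by
    haveI : IsIso (e.inv.app ⊤) := inferInstance
    exact (ConcreteCategory.bijective_of_isIso (Ω.presheaf.map (eqToHom U.ι_image_top.symm).op)).comp
      ((ConcreteCategory.bijective_of_isIso (Ω.restrictAppIso U.ι ⊤).hom).comp
        (ConcreteCategory.bijective_of_isIso (e.inv.app ⊤)))
  have hlin : ∀ (a : Γ(U.toScheme, ⊤)) (m : Γ(Omega.sheaf (U.ι ≫ f), ⊤)), φ (a • m) = σ a • φ m := by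
    intro a m
    show Ω.presheaf.map _ ((Ω.restrictAppIso U.ι ⊤).hom (e.inv.app ⊤ (a • m))) = _
    rw [Scheme.Modules.Hom.app_smul]
    erw [Scheme.Modules.smul_restrictAppIso_hom_apply]
    exact Scheme.Modules.map_smul Ω _ _ _
  exact ⟨H29Fitt.finitePresentation_of_semilinear σ hσ φ hlin hφ, H06EGA9.flat_of_semilinear σ hσ φ hφ hlin inferInstance⟩

theorem isFinLocFree {f : X ⟶ S} (hf : MoreMor.IsFormallySmoothHom f) [LocallyOfFiniteType f] {Ω : X.Modules}
    {d : OmegaSh.Der f Ω} (hd : OmegaSh.IsUniversal d) : FlatMod.IsFinLocFree Ω :=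
  H8Props.FinLocFree.isFinLocFree_of_sections Ω (H29Omega.isQCoh_of_isUniversal hd) fun x => by
    obtain ⟨U, V, hxU, hU, hV, hle⟩ := H29Omega.exists_affine_chart f x
    exact ⟨U, hU, hxU, sections hf hd hU hV hle⟩

end Groth.Agent.H06Unram.OmegaLocFree
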