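import Groth.Agent.S2767
import Groth.Agent.H06EGA9.FibreSmooth

/-!
# Open immersions among monomorphisms by fibre dimensions (EGA IV 17.11.6)
-/

set_option autoImplicit false
set_option linter.style.haveILetI false
universe u

open CategoryTheory CategoryTheory.Limits AlgebraicGeometry

namespace Groth.Agent.H06Unram.OpenImmersionDim

theorem isOpenImmersion_iff {X Y S : Scheme.{u}} (g : Y ⟶ S) (h : X ⟶ S)
    [LocallyOfFinitePresentation g] [LocallyOfFinitePresentation h] [Flat h]
    (hnorm : ∀ y : Y, IsDomain ((g.fiber (g.base y)).presheaf.stalk (g.asFiber y)) ∧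
      IsIntegrallyClosed ((g.fiber (g.base y)).presheaf.stalk (g.asFiber y)))
    (f : X ⟶ Y) (w : f ≫ g = h) :
    IsOpenImmersion f ↔ (Mono f ∧ ∀ x : X, FlatMor.fibreDimAt h x = FlatMor.fibreDimAt g (f.base x)) := by
  haveI : LocallyOfFinitePresentation (f ≫ g) := w ▸ ‹LocallyOfFinitePresentation h›
  haveI : LocallyOfFinitePresentation f := H7Lim.locallyOfFinitePresentation_of_comp f g
  constructor
  · intro hf
    refine ⟨inferInstance, fun x => ((S2767.result g h f w x (Flat.stalkMap h x) (hnorm _)).mp
      ⟨⊤, trivial, ?_⟩).2⟩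
    infer_instance
  · rintro ⟨_, hd⟩
    haveI : FormallyUnramified f := inferInstance
    have hloc : ∀ x : X, ∃ U : X.Opens, x ∈ U ∧ Etale (U.ι ≫ f) := fun x =>
      (S2767.result g h f w x (Flat.stalkMap h x) (hnorm _)).mpr
        ⟨⟨⊤, trivial, inferInstance⟩, hd x⟩
    choose U hxU hU using hloc
    haveI : IsZariskiLocalAtSource @Etale :=
      HasRingHomProperty.instIsZariskiLocalAtSource
        (Q := fun {R S} [CommRing R] [CommRing S] (φ : R →+* S) => RingHom.Etale φ)
    haveI : Etale f := IsZariskiLocalAtSource.of_iSup_eq_top (P := @Etale) U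
      (TopologicalSpace.Opens.ext (Set.eq_univ_of_forall fun x =>
        (TopologicalSpace.Opens.mem_iSup).mpr ⟨x, hxU x⟩)) hU
    haveI : UniversallyInjective f := inferInstance
    exact (H06EGA9.isOpenImmersion_iff_etale_and_universallyInjective f).mpr ⟨inferInstance, inferInstance⟩

end Groth.Agent.H06Unram.OpenImmersionDim
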