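import Groth.Agent.H18Et.PurityFlatScheme

/-!
# A finite flat morphism etale off a closed subset of codimension two is etale

Codimension variant of `Groth.Agent.H18Et.PurityFlat` (depth two).
-/

set_option autoImplicit false
set_option linter.style.haveILetI false

universe u

open CategoryTheory CategoryTheory.Limits AlgebraicGeometry IsLocalRing
open Groth.Agent.H18Et.PurityFlat (isEtaleAt_localization_iff isEtaleAt_of_etale etale_iff_isUnit_discr)

namespace Groth.Agent.H06Unram.PurityFlatDim

/-- A finite flat algebra étale off a set of primes of codimension two is étale. -/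
theorem etale_of_dim {S T : Type u} [CommRing S] [IsNoetherianRing S] [CommRing T] [Algebra S T]
    [Module.Finite S T] [Module.Flat S T]
    (h : ∀ (p : Ideal S) [p.IsPrime], (2 : WithBot ℕ∞) ≤ ringKrullDim (Localization.AtPrime p) ∨
      ∀ (q : Ideal T) [q.IsPrime], q.comap (algebraMap S T) = p → Algebra.IsEtaleAt S q) :
    Algebra.Etale S T := by
  haveI : Algebra.FiniteType S T := inferInstance
  haveI : Algebra.FinitePresentation S T := Algebra.FinitePresentation.of_finiteType.mp inferInstance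
  rw [← Algebra.etaleLocus_eq_univ_iff_etale]
  suffices H : ∀ n : ℕ∞, ∀ (p : Ideal S) [p.IsPrime], p.height = n → ∀ (q : Ideal T) [q.IsPrime],
      q.comap (algebraMap S T) = p → Algebra.IsEtaleAt S q by
    refine Set.eq_univ_of_forall fun q => ?_
    exact H _ (q.asIdeal.comap (algebraMap S T)) rfl q.asIdeal rfl
  intro n
  induction n using WellFoundedLT.induction with
  | ind n ih =>
  intro p hp hpn q hq hqp
  rcases h p with hd | hgood
  swap
  · exact hgood q hqp
  let S' := Localization.AtPrime p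
  let T' := Localization (Algebra.algebraMapSubmonoid T p.primeCompl)
  letI : Algebra S' T' := localizationAlgebra p.primeCompl T
  haveI : Module.Finite S' T' := Module.Finite.of_isLocalization S T p.primeCompl
  haveI : IsLocalizedModule p.primeCompl (IsScalarTower.toAlgHom S T T').toLinearMap :=
    isLocalizedModule_iff_isLocalization.mpr inferInstance
  haveI : Module.Flat S' T' :=
    Module.Flat.of_isLocalizedModule S' p.primeCompl (IsScalarTower.toAlgHom S T T').toLinearMap
  haveI : Module.Free S' T' := Module.free_of_flat_of_isLocalRing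
  classical
  let b := Module.Free.chooseBasis S' T'
  -- transfer to the localization
  suffices hS' : Algebra.Etale S' T' by
    have hdisj : Disjoint (Algebra.algebraMapSubmonoid T p.primeCompl : Set T) (q : Set T) := by
      rw [Set.disjoint_left]
      rintro _ ⟨s, hs, rfl⟩ hsq
      exact hs (hqp ▸ (show s ∈ q.comap (algebraMap S T) from hsq))
    let Q : Ideal T' := q.map (algebraMap T T')
    haveI : Q.IsPrime := IsLocalization.isPrime_of_isPrime_disjoint _ T' q hq hdisj
    have e : Q.comap (algebraMap T T') = q := IsLocalization.comap_map_of_isPrime_disjoint _ T' hq hdisj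
    have := (isEtaleAt_localization_iff (S := S) (T := T) p.primeCompl Q).1 (isEtaleAt_of_etale (S := S') Q)
    simpa only [e] using this
  rw [etale_iff_isUnit_discr b]
  by_contra hd0
  obtain ⟨P, hP⟩ := Ideal.nonempty_minimalPrimes (I := Ideal.span {Algebra.discr S' b})
    (by rwa [Ne, Ideal.span_singleton_eq_top])
  haveI := hP.1.1
  have hP1 : P.height ≤ 1 := Ideal.height_le_one_of_isPrincipal_of_mem_minimalPrimes _ P hP
  have hne : P ≠ maximalIdeal S' := by
    rintro rfl
    have h1 : ((2 : ℕ∞) : WithBot ℕ∞) ≤ ringKrullDim S' := hd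
    rw [← IsLocalRing.maximalIdeal_height_eq_ringKrullDim] at h1
    exact absurd ((WithBot.coe_le_coe.mp h1).trans hP1) (by decide)
  let p' := P.comap (algebraMap S S')
  have hlt : p' < p := by
    have hle : p' ≤ p := by
      rw [← show (maximalIdeal S').comap (algebraMap S S') = p from IsLocalization.AtPrime.comap_maximalIdeal S' p]
      exact Ideal.comap_mono (le_maximalIdeal hP.1.1.ne_top)
    refine lt_of_le_of_ne hle fun e => hne ?_
    exact (IsLocalization.map_comap p.primeCompl S' P).symm.trans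
      ((congrArg (Ideal.map (algebraMap S S')) e).trans (IsLocalization.AtPrime.map_eq_maximalIdeal p S'))
  let S'' := Localization.AtPrime P
  let T'' := Localization (Algebra.algebraMapSubmonoid T' P.primeCompl)
  letI : Algebra S'' T'' := localizationAlgebra P.primeCompl T'
  haveI : Module.Finite S'' T'' := Module.Finite.of_isLocalization S' T' P.primeCompl
  haveI : Algebra.FinitePresentation S' T' := Algebra.FinitePresentation.of_finiteType.mp inferInstance
  haveI : Algebra.FinitePresentation S'' T'' := Algebra.FinitePresentation.of_finiteType.mp inferInstance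
  have het : Algebra.Etale S'' T'' := by
    rw [← Algebra.etaleLocus_eq_univ_iff_etale]
    refine Set.eq_univ_of_forall fun Q'' => ?_
    show Algebra.IsEtaleAt S'' Q''.asIdeal
    rw [isEtaleAt_localization_iff (S := S') (T := T') P.primeCompl,
      isEtaleAt_localization_iff (S := S) (T := T) p.primeCompl]
    set q₀ := (Q''.asIdeal.comap (algebraMap T' T'')).comap (algebraMap T T')
    have hle : q₀.comap (algebraMap S T) ≤ p' := by
      intro s hs
      by_contra hsp
      refine Q''.isPrime.ne_top (Ideal.eq_top_of_isUnit_mem _ ?_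
        (IsLocalization.map_units T'' (⟨algebraMap S' T' (algebraMap S S' s), algebraMap S S' s, hsp, rfl⟩ :
          Algebra.algebraMapSubmonoid T' P.primeCompl)))
      show algebraMap T' T'' (algebraMap S' T' (algebraMap S S' s)) ∈ Q''.asIdeal
      rw [← IsScalarTower.algebraMap_apply S S' T', IsScalarTower.algebraMap_apply S T T']
      exact hs
    haveI : (q₀.comap (algebraMap S T)).IsPrime := inferInstance
    exact ih _ (hpn ▸ Ideal.height_strict_mono_of_isPrime (lt_of_le_of_lt hle hlt)) _ rfl q₀ rfl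
  let b'' := b.localizationLocalization S'' P.primeCompl T''
  rw [etale_iff_isUnit_discr b'', Algebra.discr_localizationLocalization,
    IsLocalization.AtPrime.isUnit_to_map_iff S'' P] at het
  exact het (hP.1.2 (Ideal.mem_span_singleton_self _))

theorem etale_of_dim_affine {X Y : Scheme.{u}} [IsAffine X] [IsLocallyNoetherian X] (U : X.Opens)
    (hU : ∀ x : X, x ∉ U → (2 : WithBot ℕ∞) ≤ ringKrullDim (X.presheaf.stalk x)) (π : Y ⟶ X)
    [IsFinite π] [Flat π] (hπ : Etale ((π ⁻¹ᵁ U).ι ≫ π)) : Etale π := by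
  haveI : IsAffine Y := isAffine_of_isAffineHom π
  haveI : IsNoetherianRing Γ(X, ⊤) := IsLocallyNoetherian.component_noetherian ⟨⊤, isAffineOpen_top X⟩
  have hfin : π.appTop.hom.Finite := π.finite_app _ (isAffineOpen_top X)
  have hflat : π.appTop.hom.Flat := HasRingHomProperty.appTop @Flat π ‹_›
  rw [HasRingHomProperty.iff_of_isAffine (P := @Etale)]
  algebraize [π.appTop.hom]
  haveI : Algebra.FiniteType Γ(X, ⊤) Γ(Y, ⊤) := inferInstance
  haveI : Algebra.FinitePresentation Γ(X, ⊤) Γ(Y, ⊤) := Algebra.FinitePresentation.of_finiteType.mp inferInstance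
  suffices Algebra.Etale Γ(X, ⊤) Γ(Y, ⊤) from RingHom.etale_algebraMap.mpr this
  refine etale_of_dim fun p hp => ?_
  have hX := isAffineOpen_top X
  let x : X := hX.fromSpec ⟨p, hp⟩
  by_cases hx : x ∈ U
  · refine Or.inr fun q hq hqp => ?_
    obtain ⟨g, hgU, hxg⟩ := hX.exists_basicOpen_le (V := U) ⟨x, hx⟩ trivial
    let W := Y.basicOpen (π.appTop g)
    have hWg : W = π ⁻¹ᵁ X.basicOpen g := (Scheme.preimage_basicOpen π g).symm
    have hWU : W ≤ π ⁻¹ᵁ U := hWg ▸ Scheme.Hom.preimage_mono π hgU
    have hW : IsAffineOpen W := (isAffineOpen_top Y).basicOpen _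
    haveI : IsAffine (W : Scheme.{u}) := hW
    haveI het : Etale (W.ι ≫ π) := by
      haveI := hπ
      rw [← Scheme.homOfLE_ι Y hWU, Category.assoc]
      infer_instance
    have he : W ≤ π ⁻¹ᵁ ⊤ := le_top
    have he' : (⊤ : (W : Scheme.{u}).Opens) ≤ W.ι ⁻¹ᵁ W := fun z _ => z.2
    have h1 : (π.appLE ⊤ W he).hom.Etale := by
      have h2 := HasRingHomProperty.appLE @Etale (W.ι ≫ π) het ⟨⊤, hX⟩ ⟨⊤, isAffineOpen_top _⟩ le_top
      rw [← Scheme.Hom.appLE_comp_appLE W.ι π _ W _ he he'] at h2
      haveI : IsIso (W.ι.appLE W ⊤ he') := by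
        rw [show W.ι.appLE W ⊤ he' = W.ι.app W ≫ (W : Scheme.{u}).presheaf.map (homOfLE he').op from rfl]
        haveI : IsIso (W.ι.app W) := W.ι.isIso_app W (by rw [Scheme.Opens.opensRange_ι])
        have : W.ι ⁻¹ᵁ W = (⊤ : (W : Scheme.{u}).Opens) := top_le_iff.1 he'
        haveI : IsIso (homOfLE he').op := by
          haveI : IsIso (homOfLE he') := ⟨homOfLE this.le, Subsingleton.elim _ _, Subsingleton.elim _ _⟩
          infer_instance
        infer_instance
      exact (RingHom.Etale.respectsIso.cancel_right_isIso _ _).1 h2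
    letI : Algebra Γ(Y, ⊤) Γ(Y, W) := (Y.presheaf.map (homOfLE (le_top : W ≤ ⊤)).op).hom.toAlgebra
    haveI : IsLocalization.Away (π.appTop g) Γ(Y, W) := (isAffineOpen_top Y).isLocalization_basicOpen _
    letI : Algebra Γ(X, ⊤) Γ(Y, W) := (π.appLE ⊤ W he).hom.toAlgebra
    haveI : IsScalarTower Γ(X, ⊤) Γ(Y, ⊤) Γ(Y, W) := .of_algebraMap_eq fun _ => rfl
    haveI : Algebra.Etale Γ(X, ⊤) Γ(Y, W) := RingHom.etale_algebraMap.mp h1
    haveI : Algebra.Etale Γ(X, ⊤) (Localization.Away (π.appTop g)) :=
      Algebra.Etale.of_equiv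
        ((IsLocalization.algEquiv (Submonoid.powers (π.appTop g)) Γ(Y, W) _).restrictScalars Γ(X, ⊤))
    refine (Algebra.basicOpen_subset_etaleLocus_iff_etale.mpr this)
      (show (⟨q, hq⟩ : PrimeSpectrum Γ(Y, ⊤)) ∈ PrimeSpectrum.basicOpen (π.appTop g) from ?_)
    intro hgq
    have hgp : g ∈ p := hqp ▸ hgq
    have : (⟨p, hp⟩ : PrimeSpectrum Γ(X, ⊤)) ∈ PrimeSpectrum.basicOpen g := by
      have h3 := hX.fromSpec_preimage_basicOpen g
      exact h3.le hxg
    exact this hgp
  · refine Or.inl ?_
    have hxtop : x ∈ (⊤ : X.Opens) := trivial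
    letI := TopCat.Presheaf.algebra_section_stalk X.presheaf (⟨x, hxtop⟩ : (⊤ : X.Opens))
    haveI : IsLocalization.AtPrime (X.presheaf.stalk x) p := hX.isLocalization_stalk' ⟨p, hp⟩ hxtop
    let E : X.presheaf.stalk x ≃+* Localization.AtPrime p :=
      (IsLocalization.algEquiv p.primeCompl _ _).toRingEquiv
    rw [← ringKrullDim_eq_of_ringEquiv E]
    exact hU x hx

theorem etale_of_dim_scheme {X Y : Scheme.{u}} [IsLocallyNoetherian X] (U : X.Opens)
    (hU : ∀ x : X, x ∉ U → (2 : WithBot ℕ∞) ≤ ringKrullDim (X.presheaf.stalk x)) (π : Y ⟶ X)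
    [IsFinite π] [Flat π] [Etale (pullback.snd π U.ι)] : Etale π := by
  rw [IsZariskiLocalAtTarget.iff_of_iSup_eq_top (P := @Etale) (fun V : X.affineOpens => (V : X.Opens))
    (iSup_affineOpens_eq_top X)]
  intro V
  haveI : IsAffine ((V : X.Opens) : Scheme.{u}) := V.2
  haveI : IsFinite (π ∣_ (V : X.Opens)) := IsZariskiLocalAtTarget.restrict ‹_› _
  haveI : Flat (π ∣_ (V : X.Opens)) := IsZariskiLocalAtTarget.restrict ‹_› _
  refine etale_of_dim_affine ((V : X.Opens).ι ⁻¹ᵁ U) (fun x hx => ?_) _ ?_
  · rw [← ringKrullDim_eq_of_ringEquiv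
      (asIso ((V : X.Opens).ι.stalkMap x)).commRingCatIsoToRingEquiv]
    exact hU _ hx
  · have h1 : Etale (π ∣_ U) := by
      refine (MorphismProperty.cancel_left_of_respectsIso @Etale (pullbackRestrictIsoRestrict π U).hom _).mp ?_
      rw [pullbackRestrictIsoRestrict_hom_morphismRestrict]
      infer_instance
    have h2 : Etale ((π ∣_ U) ≫ U.ι) := inferInstance
    rw [morphismRestrict_ι] at h2
    let W := (π ∣_ (V : X.Opens)) ⁻¹ᵁ ((V : X.Opens).ι ⁻¹ᵁ U)
    haveI : Etale ((W.ι ≫ (π ∣_ (V : X.Opens))) ≫ (V : X.Opens).ι) := by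
      rw [Category.assoc, morphismRestrict_ι, ← Category.assoc]
      have hle : Set.range (W.ι ≫ (π ⁻¹ᵁ (V : X.Opens)).ι) ⊆ Set.range (π ⁻¹ᵁ U).ι := by
        rw [Scheme.Opens.range_ι]
        rintro _ ⟨z, rfl⟩
        show π ((π ⁻¹ᵁ (V : X.Opens)).ι (W.ι z)) ∈ U
        have hz : (V : X.Opens).ι ((π ∣_ (V : X.Opens)) (W.ι z)) ∈ U := z.2
        rw [← Scheme.Hom.comp_apply, morphismRestrict_ι] at hz
        exact hz
      rw [← IsOpenImmersion.lift_fac (π ⁻¹ᵁ U).ι (W.ι ≫ (π ⁻¹ᵁ (V : X.Opens)).ι) hle, Category.assoc]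
      infer_instance
    exact Etale.of_comp (W.ι ≫ (π ∣_ (V : X.Opens))) (V : X.Opens).ι

end Groth.Agent.H06Unram.PurityFlatDim
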