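import Groth.Agent.H06Unram.QRSmooth
import Groth.Agent.H06EGA9.AtPoint
import Groth.Agent.H29Slice.RegImm
import Groth.Agent.H8Props.KoszImm.Bridge
import Groth.Agent.H17.KoszComp.Scheme
import Groth.Agent.S8656
import Groth.Agent.S8905
import Groth.Agent.H8Props.AlgSpLci.Lci

/-!
# A section is quasi-regular exactly where the morphism is smooth (EGA IV 17.12.1)
-/

set_option autoImplicit false
set_option linter.style.haveILetI false
set_option backward.isDefEq.respectTransparency false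
universe u

open CategoryTheory CategoryTheory.Limits AlgebraicGeometry TopologicalSpace

namespace Groth.Agent.H06Unram.QRSection

variable {X S : Scheme.{u}} (f : X ⟶ S)

/-- Smooth along a quasi-regular section. -/
theorem mem_smoothLocus_of_quasiRegularAt [LocallyOfFinitePresentation f] (u : S ⟶ X) (hu : u ≫ f = 𝟙 S)
    {V : S.Opens} (z : V.toScheme) (h : RegImm.IsRegularImmersionAt .quasi (V.ι ≫ u) z) :
    u (V.ι z) ∈ f.smoothLocus := by
  have hfu : ∀ y, f (u y) = y := fun y => by rw [← Scheme.Hom.comp_apply, hu]; rfl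
  let i : V.toScheme ⟶ X := V.ι ≫ u
  have hzV : V.ι z ∈ V := z.2
  obtain ⟨D, (hD : IsAffineOpen D), hsD, hDV⟩ := Opens.isBasis_iff_nbhd.mp S.isBasis_affineOpens hzV
  obtain ⟨⟨U, hU⟩, hzU, hUO, hcl, rs, hrs, hker⟩ :=
    H29Slice.exists_shrink (Or.inr rfl) i z h (f ⁻¹ᵁ D) (show f (u (V.ι z)) ∈ D by rw [hfu]; exact hsD)
  obtain ⟨a, hale, hsa⟩ := hD.exists_basicOpen_le (V := u ⁻¹ᵁ U) ⟨V.ι z, hzU⟩ hsD
  let Da := S.basicOpen a
  let r : Γ(X, U) := (f.appLE D U hUO).hom a
  have hr : X.basicOpen r = U ⊓ f ⁻¹ᵁ Da := by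
    show X.basicOpen (f.appLE D U hUO a) = _
    rw [Scheme.Hom.appLE, CommRingCat.comp_apply, Scheme.basicOpen_res, Scheme.preimage_basicOpen]
  let U' := X.basicOpen r
  have hU' : IsAffineOpen U' := hU.basicOpen r
  have hle : U' ≤ f ⁻¹ᵁ Da := hr.le.trans inf_le_right
  have hzU' : u (V.ι z) ∈ U' := hr.ge ⟨hzU, show f (u (V.ι z)) ∈ Da by rw [hfu]; exact hsa⟩
  have hDu : Da ≤ u ⁻¹ᵁ U' := fun y hy => hr.ge ⟨hale hy, show f (u y) ∈ Da by rw [hfu]; exact hy⟩
  have hDaV : Da ≤ V := (S.basicOpen_le a).trans hDV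
  have hDaA : IsAffineOpen Da := hD.basicOpen a
  have hpre : i ⁻¹ᵁ U' = V.ι ⁻¹ᵁ Da := by
    refine SetLike.ext fun y => ⟨fun hy => ?_, fun hy => hDu hy⟩
    have := hle hy
    show V.ι y ∈ Da
    rwa [← hfu (V.ι y)]
  -- the sequence on the smaller open
  have hUU' : U' ≤ U := X.basicOpen_le r
  obtain ⟨-, hker'⟩ := H29Slice.restrict_baseChange (IsPullback.of_horiz_isIso (g := 𝟙 X) (fst := 𝟙 V.toScheme)
    ⟨by simp⟩) hU hcl hU' (e := hUU') (i := i) (i' := i)
  letI : Algebra Γ(X, U) Γ(X, U') := (X.presheaf.map (homOfLE hUU').op).hom.toAlgebra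
  haveI : IsLocalization.Away r Γ(X, U') := hU.isLocalization_basicOpen r
  let rs' := rs.map (algebraMap Γ(X, U) Γ(X, U'))
  have hrs' : RegImm.Kind.Seq .quasi Γ(X, U') rs' :=
    H29Slice.seq_localization (Or.inr rfl) (Submonoid.powers r) hrs
  have hker'' : RingHom.ker (i.app U').hom = Ideal.ofList rs' := by
    rw [hker', hker, Ideal.map_ofList]
    simp only [Scheme.Hom.appLE, Scheme.Hom.id_app]
    rfl
  letI : Algebra Γ(S, Da) Γ(X, U') := (f.appLE Da U' hle).hom.toAlgebra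
  haveI : Algebra.FinitePresentation Γ(S, Da) Γ(X, U') := f.finitePresentation_appLE hDaA hU' hle
  let σ : Γ(X, U') →ₐ[Γ(S, Da)] Γ(S, Da) :=
    { (u.appLE U' Da hDu).hom with
      commutes' := fun c => by
        show (f.appLE Da U' hle ≫ u.appLE U' Da hDu).hom c = c
        rw [Scheme.Hom.appLE_comp_appLE]
        have e : ∀ (g : S ⟶ S) (_ : g = 𝟙 S) (h : Da ≤ g ⁻¹ᵁ Da), (g.appLE Da Da h).hom c = c := by
          rintro g rfl h
          simp [Scheme.Hom.appLE]
          erw [S.presheaf.map_id]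
          rfl
        exact e _ hu _ }
  have hσker : RingHom.ker σ = Ideal.ofList rs' := by
    rw [← hker'']
    have hbij : Function.Bijective (V.ι.appLE Da (V.ι ⁻¹ᵁ Da) le_rfl).hom := by
      rw [← Scheme.Hom.app_eq_appLE]
      haveI : IsIso (V.ι.app Da) := V.ι.isIso_app _ (by rw [Scheme.Opens.opensRange_ι]; exact hDaV)
      exact ConcreteCategory.bijective_of_isIso _
    have key : ∀ (W : V.toScheme.Opens) (hW : W ≤ i ⁻¹ᵁ U'), i ⁻¹ᵁ U' = W →
        RingHom.ker (i.appLE U' W hW).hom = RingHom.ker (i.app U').hom := by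
      rintro _ hW rfl
      rw [Scheme.Hom.app_eq_appLE]
    refine Eq.trans ?_ (key _ hpre.ge hpre)
    rw [← Scheme.Hom.appLE_comp_appLE V.ι u U' Da (V.ι ⁻¹ᵁ Da) hDu le_rfl, CommRingCat.hom_comp,
      RingHom.ker_comp_of_injective _ hbij.1]
    rfl
  let q := hU'.primeIdealOf ⟨_, hzU'⟩
  have hq : hU'.fromSpec q = u (V.ι z) := hU'.fromSpec_primeIdealOf _
  have hspan : Ideal.span (Set.range rs'.get) = RingHom.ker σ := by
    rw [hσker, Set.range_list_get]
  have hle' : RingHom.ker σ ≤ q.asIdeal := by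
    intro g hg
    by_contra hgq
    have h1 : u (V.ι z) ∈ X.basicOpen g :=
      (H8Props.KoszImm.mem_basicOpen_iff_notMem ⟨U', hU'⟩ _ hzU' g).mpr hgq
    have h2 : V.ι z ∈ S.basicOpen ((u.appLE U' Da hDu).hom g) := by
      have e : S.basicOpen ((u.appLE U' Da hDu).hom g) = Da ⊓ u ⁻¹ᵁ X.basicOpen g := by
        show S.basicOpen (u.appLE U' Da hDu g) = _
        rw [Scheme.Hom.appLE, CommRingCat.comp_apply, Scheme.basicOpen_res]
        congr 1
        exact (Scheme.preimage_basicOpen u g).symm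
      rw [e]
      exact ⟨hsa, h1⟩
    rw [show (u.appLE U' Da hDu).hom g = 0 from hg, Scheme.basicOpen_zero] at h2
    exact h2
  have hsm : Algebra.IsSmoothAt Γ(S, Da) q.asIdeal :=
    QRSmooth.isSmoothAt Γ(S, Da) Γ(X, U') rs'.get hrs' σ hspan.symm q.asIdeal (hspan.le.trans hle')
  show (f.stalkMap (u (V.ι z))).hom.FormallySmooth
  rw [← hq]
  exact (H17.LocusBC.formallySmooth_stalkMap_comp_iff hU'.fromSpec f hDaA.fromSpec _
    (hDaA.SpecMap_appLE_fromSpec f hU' hle) q).mp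
    ((H17.LocusBC.formallySmooth_stalkMap_Spec_iff (R := Γ(S, Da)) q).mpr hsm)

/-- The restriction of a section to where it lands in an open on which the morphism is smooth is quasi-regular. -/
theorem isRegularImmersion_of_smooth (u : S ⟶ X) (hu : u ≫ f = 𝟙 S) (W : X.Opens) [Smooth (W.ι ≫ f)] :
    RegImm.IsRegularImmersion .quasi ((u ⁻¹ᵁ W).ι ≫ u) := by
  let V := u ⁻¹ᵁ W
  let i : V.toScheme ⟶ W.toScheme := u ∣_ W
  have hi : i ≫ W.ι ≫ f = V.ι := by
    rw [morphismRestrict_ι_assoc, hu, Category.comp_id]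
  haveI : IsImmersion (i ≫ W.ι ≫ f) := by rw [hi]; infer_instance
  haveI : IsImmersion i := IsImmersion.of_comp i (W.ι ≫ f)
  have hk : RegImm.IsRegularImmersion .koszul i :=
    S8656.result V.ι (fun z => H8Props.AlgSpLci.isKoszulAt_of_smooth V.ι z) (W.ι ≫ f) i hi
  have hW : RegImm.IsRegularImmersion .koszul W.ι :=
    S8656.result W.ι (fun z => H8Props.AlgSpLci.isKoszulAt_of_smooth W.ι z) (𝟙 X) W.ι (Category.comp_id _)
  have hc := H17.KoszComp.comp_isRegularImmersion W.ι i hW hk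
  rw [morphismRestrict_ι] at hc
  exact (S8905.result _).2.2 ((S8905.result _).2.1 hc)

end Groth.Agent.H06Unram.QRSection

namespace Groth.Agent.H06Unram.QRSection

theorem isRegularImmersionAt_iso_comp {k : RegImm.Kind} {X Y Z : Scheme.{u}} (e : Z ⟶ Y) [IsIso e] (i : Y ⟶ X)
    (z : Z) (h : RegImm.IsRegularImmersionAt k i (e z)) : RegImm.IsRegularImmersionAt k (e ≫ i) z := by
  obtain ⟨U, hz, hcl, rs, hrs, hker⟩ := h
  refine ⟨U, hz, ?_, rs, hrs, ?_⟩
  · rw [morphismRestrict_comp]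
    haveI := hcl
    haveI : IsIso (e ∣_ i ⁻¹ᵁ U.1) := inferInstance
    infer_instance
  · rw [Scheme.Hom.comp_app, CommRingCat.hom_comp, RingHom.ker_comp_of_injective _ ?_, hker]
    exact (ConcreteCategory.bijective_of_isIso (e.app (i ⁻¹ᵁ U.1))).1

theorem isRegularImmersion_top_iff {k : RegImm.Kind} {X S : Scheme.{u}} (u : S ⟶ X) :
    RegImm.IsRegularImmersion k ((⊤ : S.Opens).ι ≫ u) ↔ RegImm.IsRegularImmersion k u := by
  constructor
  · intro h
    have e : u = S.topIso.inv ≫ (⊤ : S.Opens).ι ≫ u := by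
      rw [← Category.assoc, show S.topIso.inv ≫ (⊤ : S.Opens).ι = 𝟙 S from S.topIso.inv_hom_id, Category.id_comp]
    haveI := h.1
    rw [e]
    exact ⟨inferInstance, fun z => isRegularImmersionAt_iso_comp _ _ _ (h.2 _)⟩
  · intro h
    haveI := h.1
    haveI : IsIso (⊤ : S.Opens).ι := inferInstanceAs (IsIso S.topIso.hom)
    exact ⟨inferInstance, fun z => isRegularImmersionAt_iso_comp _ _ _ (h.2 _)⟩

/-- A section is quasi-regular iff the morphism is smooth along it. -/
theorem isRegularImmersion_iff {X S : Scheme.{u}} (f : X ⟶ S) [LocallyOfFinitePresentation f] (u : S ⟶ X)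
    (hu : u ≫ f = 𝟙 S) : RegImm.IsRegularImmersion .quasi u ↔ ∀ s, u s ∈ f.smoothLocus := by
  rw [← isRegularImmersion_top_iff]
  constructor
  · exact fun h s => mem_smoothLocus_of_quasiRegularAt f u hu (⟨s, trivial⟩ : (⊤ : S.Opens).toScheme) (h.2 _)
  · intro h
    haveI : Smooth (f.smoothLocus.ι ≫ f) := H17.LocusBC.smooth_restrict_smoothLocus f
    have e : u ⁻¹ᵁ f.smoothLocus = ⊤ := top_le_iff.mp fun s _ => h s
    exact e ▸ isRegularImmersion_of_smooth f u hu f.smoothLocus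

end Groth.Agent.H06Unram.QRSection
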