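import Groth.Prelude.Def_CAlgX
import Mathlib.RingTheory.Filtration
import Mathlib.RingTheory.MvPolynomial.Ideal
import Mathlib.RingTheory.Adjoin.FG

/-!
# Equations of a quasi-regular closed subscheme isomorphic to the base

For `g_j = Z_j - ∑ᵢ c_{ji} Tᵢ`, a polynomial in `(g) + (T)ᵐ` for all `m` is killed modulo `(g)` by an
element of `1 + (T)`; the coefficient ring need not be Noetherian.
-/

set_option autoImplicit false
set_option linter.style.haveILetI false
universe u

open MvPolynomial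

namespace Groth.Agent.H06Unram.QRSeries

variable {A : Type u} [CommRing A] {n k : ℕ}

/-- The relations `Z_j - ∑ᵢ c_{ji} Tᵢ`. -/
noncomputable def rel (c : Fin k → Fin n → MvPolynomial (Fin k) (MvPolynomial (Fin n) A)) (j : Fin k) :
    MvPolynomial (Fin k) (MvPolynomial (Fin n) A) :=
  X j - ∑ i, c j i * C (X i)

/-- Successive approximations of the solution of the relations. -/
noncomputable def sol (c : Fin k → Fin n → MvPolynomial (Fin k) (MvPolynomial (Fin n) A)) :
    ℕ → Fin k → MvPolynomial (Fin n) A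
  | 0 => 0
  | m + 1 => fun j => ∑ i, eval (sol c m) (c j i) * X i

/-- The ideal of the variables `T`. -/
noncomputable def tIdeal (A : Type u) [CommRing A] (n k : ℕ) :
    Ideal (MvPolynomial (Fin k) (MvPolynomial (Fin n) A)) :=
  (idealOfVars (Fin n) A).map C

theorem C_X_mem_tIdeal (i : Fin n) : (C (X i) : MvPolynomial (Fin k) (MvPolynomial (Fin n) A)) ∈ tIdeal A n k :=
  Ideal.mem_map_of_mem C (Ideal.subset_span ⟨i, rfl⟩)

theorem sub_C_eval_mem {R : Type u} [CommRing R] {σ : Type*} {I : Ideal (MvPolynomial σ R)} {v : σ → R}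
    (h : ∀ j, X j - C (v j) ∈ I) (p : MvPolynomial σ R) : p - C (eval v p) ∈ I := by
  induction p using MvPolynomial.induction_on with
  | C a => simp
  | add p q hp hq =>
    rw [map_add, map_add, add_sub_add_comm]
    exact add_mem hp hq
  | mul_X p j hp =>
    have e : p * X j - C (eval v (p * X j)) = (p - C (eval v p)) * X j + C (eval v p) * (X j - C (v j)) := by
      rw [map_mul, map_mul, eval_X]; ring
    rw [e]
    exact add_mem (I.mul_mem_right _ hp) (I.mul_mem_left _ (h j))

theorem X_sub_sol_mem (c : Fin k → Fin n → MvPolynomial (Fin k) (MvPolynomial (Fin n) A)) :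
    ∀ (m : ℕ) (j : Fin k), X j - C (sol c m j) ∈ Ideal.span (Set.range (rel c)) ⊔ tIdeal A n k ^ m := by
  intro m
  induction m with
  | zero => simp
  | succ m ih =>
    intro j
    have e : X j - C (sol c (m + 1) j) =
        rel c j + ∑ i, (c j i - C (eval (sol c m) (c j i))) * C (X i) := by
      simp only [rel, sol, map_sum, map_mul, sub_mul, Finset.sum_sub_distrib]
      ring
    rw [e]
    refine add_mem (Submodule.mem_sup_left (Ideal.subset_span ⟨j, rfl⟩)) (sum_mem fun i _ => ?_)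
    have h1 := Ideal.mul_mem_mul (sub_C_eval_mem ih (c j i)) (C_X_mem_tIdeal (k := k) i)
    refine (show _ ≤ Ideal.span (Set.range (rel c)) ⊔ tIdeal A n k ^ (m + 1) from ?_) h1
    rw [pow_succ, Ideal.sup_mul]
    exact sup_le_sup Ideal.mul_le_left le_rfl

theorem sub_sol_mem (c : Fin k → Fin n → MvPolynomial (Fin k) (MvPolynomial (Fin n) A)) (m : ℕ)
    (h : MvPolynomial (Fin k) (MvPolynomial (Fin n) A)) :
    h - C (eval (sol c m) h) ∈ Ideal.span (Set.range (rel c)) ⊔ tIdeal A n k ^ m :=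
  sub_C_eval_mem (X_sub_sol_mem c m) h

section map

variable {A₀ : Type u} [CommRing A₀] (ι₀ : A₀ →+* A)

theorem map_rel (c : Fin k → Fin n → MvPolynomial (Fin k) (MvPolynomial (Fin n) A₀)) (j : Fin k) :
    MvPolynomial.map (MvPolynomial.map ι₀) (rel c j) =
      rel (fun j i => MvPolynomial.map (MvPolynomial.map ι₀) (c j i)) j := by
  simp [rel]

theorem map_eval' {R S : Type u} [CommRing R] [CommRing S] (f : R →+* S) {σ : Type*} (v : σ → R)
    (p : MvPolynomial σ R) : f (eval v p) = eval (fun i => f (v i)) (MvPolynomial.map f p) := by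
  rw [eval_map, ← eval₂_id, eval₂_comp_left f (RingHom.id R) v p, RingHom.comp_id]
  rfl

theorem map_sol (c : Fin k → Fin n → MvPolynomial (Fin k) (MvPolynomial (Fin n) A₀)) :
    ∀ (m : ℕ) (j : Fin k), MvPolynomial.map ι₀ (sol c m j) =
      sol (fun j i => MvPolynomial.map (MvPolynomial.map ι₀) (c j i)) m j := by
  intro m
  induction m with
  | zero => intro j; simp [sol]
  | succ m ih =>
    intro j
    simp only [sol, map_sum, map_mul, map_X, map_eval', ih]

end map

theorem mem_map_pow {R S : Type u} [CommRing R] [CommRing S] (f : R →+* S) (I : Ideal R) (m : ℕ) {x : R}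
    (hx : x ∈ I ^ m) : f x ∈ I.map f ^ m := by
  rw [← Ideal.map_pow]; exact Ideal.mem_map_of_mem f hx

/-- The Krull intersection theorem modulo an ideal. -/
theorem exists_one_sub_mul_mem_aux {P : Type u} [CommRing P] [IsNoetherianRing P] (G T : Ideal P) (x : P)
    (h : ∀ m, x ∈ G ⊔ T ^ m) : ∃ r ∈ T, (1 - r) * x ∈ G := by
  have hx : Ideal.Quotient.mk G x ∈ (⨅ m : ℕ, T.map (Ideal.Quotient.mk G) ^ m • ⊤ : Submodule (P ⧸ G) (P ⧸ G)) := by
    rw [Submodule.mem_iInf]
    intro m
    rw [smul_eq_mul, Ideal.mul_top]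
    obtain ⟨a, ha, b, hb, rfl⟩ := Submodule.mem_sup.mp (h m)
    rw [map_add, Ideal.Quotient.eq_zero_iff_mem.mpr ha, zero_add]
    exact mem_map_pow _ _ m hb
  obtain ⟨⟨r, hr⟩, hrx⟩ := (Ideal.mem_iInf_smul_pow_eq_bot_iff _ _).mp hx
  obtain ⟨r', hr', rfl⟩ := (Ideal.mem_map_iff_of_surjective _ Ideal.Quotient.mk_surjective).mp hr
  refine ⟨r', hr', Ideal.Quotient.eq_zero_iff_mem.mp ?_⟩
  rw [map_mul, map_sub, map_one, sub_mul, one_mul]
  exact sub_eq_zero.mpr hrx.symm

/-- If all truncated substitutions of `h` vanish, `h` is killed modulo the relations by an element of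
`1 + (T)`. -/
theorem exists_one_sub_mul_mem_of_noetherian [IsNoetherianRing A]
    (c : Fin k → Fin n → MvPolynomial (Fin k) (MvPolynomial (Fin n) A))
    (h : MvPolynomial (Fin k) (MvPolynomial (Fin n) A))
    (hh : ∀ m, eval (sol c m) h ∈ idealOfVars (Fin n) A ^ m) :
    ∃ r ∈ tIdeal A n k, (1 - r) * h ∈ Ideal.span (Set.range (rel c)) := by
  refine exists_one_sub_mul_mem_aux _ _ h fun m => ?_
  have hC : C (eval (sol c m) h) ∈ tIdeal A n k ^ m :=
    mem_map_pow (C : MvPolynomial (Fin n) A →+* _) _ m (hh m)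
  simpa using add_mem (sub_sol_mem c m h) (Submodule.mem_sup_right hC)

/-- The same, without Noetherian hypothesis, by descent to a finitely generated subring. -/
theorem exists_one_sub_mul_mem (c : Fin k → Fin n → MvPolynomial (Fin k) (MvPolynomial (Fin n) A))
    (h : MvPolynomial (Fin k) (MvPolynomial (Fin n) A))
    (hh : ∀ m, eval (sol c m) h ∈ idealOfVars (Fin n) A ^ m) :
    ∃ r ∈ tIdeal A n k, (1 - r) * h ∈ Ideal.span (Set.range (rel c)) := by
  classical
  let allc : MvPolynomial (Fin k) (MvPolynomial (Fin n) A) → Finset A := fun p => p.coeffs.biUnion coeffs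
  let s : Finset A := allc h ∪ Finset.univ.biUnion fun j => Finset.univ.biUnion fun i => allc (c j i)
  let A₀ := Algebra.adjoin ℤ (s : Set A)
  haveI : IsNoetherianRing A₀ := isNoetherianRing_of_fg ⟨s, rfl⟩
  let ι₀ : A₀ →+* A := A₀.val.toRingHom
  let ι₂ := MvPolynomial.map (σ := Fin k) (MvPolynomial.map (σ := Fin n) ι₀)
  have hlift : ∀ p, allc p ⊆ s → p ∈ Set.range ι₂ := fun p hp => by
    refine mem_range_map_iff_coeffs_subset.mpr fun q hq => ?_
    refine mem_range_map_iff_coeffs_subset.mpr fun a ha => ?_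
    exact ⟨⟨a, Algebra.subset_adjoin (hp (Finset.mem_biUnion.mpr ⟨q, hq, ha⟩))⟩, rfl⟩
  obtain ⟨h₀, hh0⟩ := hlift h Finset.subset_union_left
  choose c₀ hc₀ using fun j i => hlift (c j i) (by
    intro a ha
    exact Finset.mem_union_right _ (Finset.mem_biUnion.mpr
      ⟨j, Finset.mem_univ _, Finset.mem_biUnion.mpr ⟨i, Finset.mem_univ _, ha⟩⟩))
  have hc : c = fun j i => ι₂ (c₀ j i) := funext fun j => funext fun i => (hc₀ j i).symm
  rw [hc, ← hh0]
  rw [hc, ← hh0] at hh
  have hh₀ : ∀ m, eval (sol c₀ m) h₀ ∈ idealOfVars (Fin n) A₀ ^ m := fun m => by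
    have e : MvPolynomial.map ι₀ (eval (sol c₀ m) h₀) = eval (sol (fun j i => ι₂ (c₀ j i)) m) (ι₂ h₀) := by
      rw [map_eval']
      simp only [map_sol]
      rfl
    rw [mem_pow_idealOfVars_iff']
    intro x hx
    have h1 := (mem_pow_idealOfVars_iff' m _).mp (hh m) x hx
    rw [← e, coeff_map] at h1
    exact Subtype.val_injective h1
  obtain ⟨r, hr, hrel⟩ := exists_one_sub_mul_mem_of_noetherian c₀ h₀ hh₀
  refine ⟨ι₂ r, ?_, ?_⟩
  · refine (show (tIdeal A₀ n k).map ι₂ ≤ tIdeal A n k from ?_) (Ideal.mem_map_of_mem ι₂ hr)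
    rw [tIdeal, Ideal.map_map, Ideal.map_le_iff_le_comap, idealOfVars, Ideal.span_le]
    rintro _ ⟨i, rfl⟩
    show ι₂ (C (X i)) ∈ tIdeal A n k
    rw [map_C, map_X]
    exact C_X_mem_tIdeal i
  · have h1 := Ideal.mem_map_of_mem ι₂ hrel
    rw [Ideal.map_span, map_mul, map_sub, map_one] at h1
    refine (Ideal.span_le.mpr ?_) h1
    rintro _ ⟨_, ⟨j, rfl⟩, rfl⟩
    exact Ideal.subset_span ⟨j, (map_rel ι₀ c₀ j).symm⟩

end Groth.Agent.H06Unram.QRSeries
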