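import Groth.Agent.H06Unram.QRSeries
import Mathlib.RingTheory.Smooth.StandardSmoothOfFree
import Mathlib.RingTheory.Smooth.Locus
import Mathlib.RingTheory.FinitePresentation

/-!
# A quasi-regular section is contained in the smooth locus (EGA IV 17.12.1, ring form)
-/

set_option autoImplicit false
set_option linter.style.haveILetI false
universe u

open MvPolynomial

namespace Groth.Agent.H06Unram.QRSmooth

variable {A B : Type u} [CommRing A] [CommRing B] [Algebra A B] {n : ℕ} {b : Fin n → B}

theorem aeval_mem_pow {p : MvPolynomial (Fin n) A} {d : ℕ} (hp : p ∈ idealOfVars (Fin n) A ^ d) :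
    aeval b p ∈ Ideal.span (Set.range b) ^ d := by
  have h : (idealOfVars (Fin n) A).map (aeval b).toRingHom ≤ Ideal.span (Set.range b) := by
    rw [idealOfVars, Ideal.map_span, Ideal.span_le]
    rintro _ ⟨_, ⟨i, rfl⟩, rfl⟩
    exact Ideal.subset_span ⟨i, (aeval_X b i).symm⟩
  exact Ideal.pow_right_mono h d (QRSeries.mem_map_pow _ _ d hp)

theorem mem_pow_of_aeval_mem (hq : CAlgX.IsQuasiRegular b)
    (hinj : ∀ a : A, algebraMap A B a ∈ Ideal.span (Set.range b) → a = 0) (p : MvPolynomial (Fin n) A) :
    ∀ m : ℕ, aeval b p ∈ Ideal.span (Set.range b) ^ m → p ∈ idealOfVars (Fin n) A ^ m := by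
  intro m
  induction m with
  | zero => intro _; simp
  | succ m ih =>
    intro hp
    have hlow := ih (Ideal.pow_le_pow_right (Nat.le_succ m) hp)
    let P := homogeneousComponent m p
    have hdiff : p - P ∈ idealOfVars (Fin n) A ^ (m + 1) := by
      rw [mem_pow_idealOfVars_iff']
      intro x hx
      rw [coeff_sub, coeff_homogeneousComponent]
      split_ifs with h
      · exact sub_self _
      · rw [sub_zero]
        exact (mem_pow_idealOfVars_iff' m p).mp hlow x (lt_of_le_of_ne (Nat.le_of_lt_succ hx) h)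
    have hev : eval b (MvPolynomial.map (algebraMap A B) P) ∈ Ideal.span (Set.range b) ^ (m + 1) := by
      rw [eval_map, ← aeval_def]
      have := sub_mem hp (aeval_mem_pow (b := b) hdiff)
      simpa using this
    have hcoeff := hq m _ ((homogeneousComponent_isHomogeneous m p).map _) hev
    have hP : P = 0 := MvPolynomial.ext _ _ fun x => by
      rw [coeff_zero]
      refine hinj _ ?_
      rw [← coeff_map]
      exact hcoeff x
    simpa [hP] using hdiff

/-- Localisations at corresponding elements agree along a surjection whose kernel is killed by the element. -/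
theorem nonempty_algEquiv_away {R R' : Type u} [CommRing R] [CommRing R'] [Algebra A R] [Algebra A R']
    (φ : R →ₐ[A] R') (hφ : Function.Surjective φ) (u : R) (hu : ∀ x, φ x = 0 → u * x = 0) :
    Nonempty (Localization.Away u ≃ₐ[A] Localization.Away (φ u)) := by
  let L' := Localization.Away (φ u)
  let f : R →ₐ[A] L' := (IsScalarTower.toAlgHom A R' L').comp φ
  have hunit : ∀ y : Submonoid.powers u, IsUnit (f y) := by
    rintro ⟨_, m, rfl⟩
    show IsUnit (f (u ^ m))
    rw [map_pow]
    exact (IsLocalization.Away.algebraMap_isUnit (S := L') (φ u)).pow m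
  let Φ : Localization.Away u →ₐ[A] L' := IsLocalization.liftAlgHom (M := Submonoid.powers u) hunit
  have hΦ : ∀ x, Φ (algebraMap R _ x) = f x := fun x => IsLocalization.lift_eq _ x
  refine ⟨AlgEquiv.ofBijective Φ ⟨?_, ?_⟩⟩
  · refine (injective_iff_map_eq_zero Φ).mpr fun z hz => ?_
    obtain ⟨⟨r, s⟩, hrs⟩ := IsLocalization.surj (Submonoid.powers u) z
    have h1 : f r = 0 := by rw [← hΦ, ← hrs, map_mul, hz, zero_mul]
    obtain ⟨⟨_, m, rfl⟩, hm⟩ := (IsLocalization.map_eq_zero_iff (Submonoid.powers (φ u)) L' (φ r)).mp h1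
    have h2 : u * (u ^ m * r) = 0 := hu _ (by rw [map_mul, map_pow]; exact hm)
    have h3 : algebraMap R (Localization.Away u) r = 0 :=
      (IsLocalization.map_eq_zero_iff (Submonoid.powers u) _ r).mpr
        ⟨⟨u ^ (m + 1), m + 1, rfl⟩, (by rw [pow_succ', mul_assoc]; exact h2 : u ^ (m + 1) * r = 0)⟩
    rw [h3] at hrs
    exact (IsLocalization.map_units _ s).mul_left_eq_zero.mp hrs
  · intro z
    obtain ⟨⟨r', ⟨_, m, rfl⟩⟩, hrs⟩ := IsLocalization.surj (Submonoid.powers (φ u)) z
    obtain ⟨r, rfl⟩ := hφ r'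
    obtain ⟨v, hv⟩ : ∃ v, v * algebraMap R (Localization.Away u) (u ^ m) = algebraMap R _ r :=
      ⟨IsLocalization.mk' _ r (⟨u ^ m, m, rfl⟩ : Submonoid.powers u), IsLocalization.mk'_spec _ r _⟩
    refine ⟨v, (hunit ⟨u ^ m, m, rfl⟩).mul_left_injective ?_⟩
    have h := congrArg Φ hv
    rw [map_mul, hΦ, hΦ] at h
    show Φ v * f (u ^ m) = z * f (u ^ m)
    rw [h, show f (u ^ m) = algebraMap R' L' (φ u ^ m) from congrArg (algebraMap R' L') (map_pow φ u m)]
    exact hrs.symm

/-- Inverting a multiple of the Jacobian of a square presubmersive presentation gives a smooth algebra. -/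
theorem smooth_away {S R : Type u} [CommRing S] [CommRing R] [Algebra S R] {ι : Type} [Finite ι]
    (Q : Algebra.PreSubmersivePresentation S R ι ι) (e : R) :
    Algebra.Smooth S (Localization.Away (e * Q.jacobian)) := by
  let L := Localization.Away (e * Q.jacobian)
  have hu : IsUnit (algebraMap R L (e * Q.jacobian)) := IsLocalization.Away.algebraMap_isUnit _
  let P' : Algebra.SubmersivePresentation S L _ _ :=
    { toPreSubmersivePresentation := .comp (.localizationAway L (e * Q.jacobian)) Q
      jacobian_isUnit := by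
        rw [map_mul, IsUnit.mul_iff] at hu
        simp [Algebra.smul_def, -isUnit_map_iff, hu.1, hu.2] }
  haveI : Algebra.IsStandardSmooth S L := ⟨_, _, _, inferInstance, ⟨P'⟩⟩
  exact (inferInstance : Algebra.Smooth S L)

/-- Near a section with quasi-regular ideal, a finitely presented algebra is smooth. -/
theorem isSmoothAt (A B : Type u) [CommRing A] [CommRing B] [Algebra A B] [Algebra.FinitePresentation A B]
    {n : ℕ} (b : Fin n → B) (hq : CAlgX.IsQuasiRegular b) (σ : B →ₐ[A] A)
    (hker : RingHom.ker σ = Ideal.span (Set.range b)) (q : Ideal B) [q.IsPrime]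
    (hle : Ideal.span (Set.range b) ≤ q) : Algebra.IsSmoothAt A q := by
  classical
  obtain ⟨k, f, hf⟩ := Algebra.FiniteType.iff_quotient_mvPolynomial''.mp
    (inferInstance : Algebra.FiniteType A B)
  let y : Fin k → B := fun j => f (X j) - algebraMap A B (σ (f (X j)))
  have hy : ∀ j, y j ∈ Ideal.span (Set.range b) := fun j => by rw [← hker, RingHom.mem_ker]; simp [y]
  let S := MvPolynomial (Fin n) A
  letI : Algebra S B := (aeval b).toRingHom.toAlgebra
  haveI : IsScalarTower A S B := IsScalarTower.of_algebraMap_eq fun a => ((aeval b).commutes a).symm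
  let π : MvPolynomial (Fin k) S →ₐ[S] B := aeval y
  have hπC : ∀ s : S, π (C s) = aeval b s := fun s => aeval_C y s
  have hπ : Function.Surjective π := by
    intro x
    obtain ⟨p, rfl⟩ := hf x
    refine ⟨aeval (fun j => (X j + C (C (σ (f (X j)))) : MvPolynomial (Fin k) S)) p, ?_⟩
    refine DFunLike.congr_fun (show (π.restrictScalars A).comp
      (aeval fun j => (X j + C (C (σ (f (X j)))) : MvPolynomial (Fin k) S)) = f from algHom_ext fun j => ?_) p
    simp only [AlgHom.comp_apply, AlgHom.restrictScalars_apply, aeval_X, map_add, hπC, aeval_C]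
    simp [π, y]
  choose d hd using fun j => Ideal.mem_span_range_iff_exists_fun.mp (hy j)
  choose c hc using fun j i => hπ (d j i)
  let v := QRSeries.rel c
  have hv : ∀ j, π (v j) = 0 := fun j => by
    simp only [v, QRSeries.rel, map_sub, map_sum, map_mul, hπC, aeval_X, hc, hd j]
    simp [π]
  let G := Ideal.span (Set.range v)
  have hG : G ≤ RingHom.ker π := Ideal.span_le.mpr (by rintro _ ⟨j, rfl⟩; exact hv j)
  have hinj : ∀ a : A, algebraMap A B a ∈ Ideal.span (Set.range b) → a = 0 := fun a ha => by
    rw [← hker, RingHom.mem_ker, AlgHom.commutes] at ha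
    exact ha
  have hT : (QRSeries.tIdeal A n k).map π.toRingHom ≤ Ideal.span (Set.range b) := by
    rw [QRSeries.tIdeal, Ideal.map_map, idealOfVars, Ideal.map_span, Ideal.span_le]
    rintro _ ⟨_, ⟨i, rfl⟩, rfl⟩
    exact Ideal.subset_span ⟨i, ((hπC _).trans (aeval_X b i)).symm⟩
  have hcon : ∀ h, π h = 0 → ∀ m, eval (QRSeries.sol c m) h ∈ idealOfVars (Fin n) A ^ m := by
    intro h hh m
    refine mem_pow_of_aeval_mem hq hinj _ m ?_
    have h1 := QRSeries.sub_sol_mem c m h
    obtain ⟨g, hg, t, ht, hgt⟩ := Submodule.mem_sup.mp h1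
    have h2 : π t ∈ Ideal.span (Set.range b) ^ m :=
      Ideal.pow_right_mono hT m (QRSeries.mem_map_pow π.toRingHom _ m ht)
    have h3 := congrArg π hgt
    rw [map_add, map_sub, hh, hπC, RingHom.mem_ker.mp (hG hg), zero_add, zero_sub] at h3
    rw [show aeval b (eval (QRSeries.sol c m) h) = - π t from by rw [h3, neg_neg]]
    exact neg_mem h2
  haveI : Algebra.FinitePresentation S B :=
    Algebra.FinitePresentation.of_restrict_scalars_finitePresentation (R := A) S B
  obtain ⟨Hs, hHs⟩ := Algebra.FinitePresentation.ker_fG_of_surjective π hπ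
  have hex : ∀ s : Finset (MvPolynomial (Fin k) S), (∀ h ∈ s, π h = 0) →
      ∃ e, 1 - e ∈ QRSeries.tIdeal A n k ∧ ∀ h ∈ s, e * h ∈ G := by
    intro s
    induction s using Finset.induction with
    | empty => exact fun _ => ⟨1, by simp, by simp⟩
    | insert a s ha ih =>
      intro hs
      obtain ⟨e, he, he'⟩ := ih fun h hh => hs h (Finset.mem_insert_of_mem hh)
      obtain ⟨r, hr, hr'⟩ := QRSeries.exists_one_sub_mul_mem c a (hcon a (hs a (Finset.mem_insert_self a s)))
      refine ⟨(1 - r) * e, ?_, fun h hh => ?_⟩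
      · rw [show 1 - (1 - r) * e = (1 - e) + r * e from by ring]
        exact add_mem he (Ideal.mul_mem_right _ _ hr)
      · rcases Finset.mem_insert.mp hh with rfl | hh
        · rw [mul_right_comm]; exact G.mul_mem_right _ hr'
        · rw [mul_assoc]; exact G.mul_mem_left _ (he' h hh)
  obtain ⟨e, he, he'⟩ := hex Hs fun h hh => by
    have : h ∈ RingHom.ker π := hHs ▸ Ideal.subset_span hh
    exact this
  have hkill : ∀ h, π h = 0 → e * h ∈ G := fun h hh => by
    have : h ∈ Ideal.span (Hs : Set _) := hHs.symm ▸ (RingHom.mem_ker.mpr hh : h ∈ RingHom.ker π)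
    clear hh
    induction this using Submodule.span_induction with
    | mem x hx => exact he' x hx
    | zero => simp
    | add x z _ _ hx hz => rw [mul_add]; exact add_mem hx hz
    | smul a x _ hx => rw [smul_eq_mul, mul_left_comm]; exact G.mul_mem_left _ hx
  let Q : Algebra.PreSubmersivePresentation S (MvPolynomial (Fin k) S ⧸ G) (Fin k) (Fin k) :=
    Algebra.PreSubmersivePresentation.naive id Function.injective_id
  let u : MvPolynomial (Fin k) S ⧸ G := Ideal.Quotient.mk G e * Q.jacobian
  let φ : (MvPolynomial (Fin k) S ⧸ G) →ₐ[A] B :=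
    (Ideal.Quotient.liftₐ G π fun x hx => hG hx).restrictScalars A
  have hφmk : ∀ x, φ (Ideal.Quotient.mk G x) = π x := fun x => rfl
  have hφ : Function.Surjective φ := fun x => by
    obtain ⟨p, rfl⟩ := hπ x
    exact ⟨Ideal.Quotient.mk G p, rfl⟩
  have hsmooth : Algebra.Smooth A (Localization.Away u) := by
    haveI : Algebra.Smooth S (Localization.Away u) := smooth_away Q (Ideal.Quotient.mk G e)
    haveI : Algebra.Smooth A S := ⟨inferInstance, inferInstance⟩
    exact Algebra.Smooth.comp A S (Localization.Away u)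
  obtain ⟨eqv⟩ := nonempty_algEquiv_away φ hφ u (fun x hx => by
    obtain ⟨p, rfl⟩ := Ideal.Quotient.mk_surjective x
    rw [show u * Ideal.Quotient.mk G p = Q.jacobian * Ideal.Quotient.mk G (e * p) from by
      rw [map_mul]; simp only [u]; ring, Ideal.Quotient.eq_zero_iff_mem.mpr (hkill p hx), mul_zero])
  haveI : Algebra.Smooth A (Localization.Away (φ u)) := Algebra.Smooth.of_equiv eqv
  have hσu : σ (φ u) = 1 := by
    let ψ : MvPolynomial (Fin k) S →+* A := σ.toRingHom.comp π.toRingHom
    have hψT : ∀ i, ψ (C (X i)) = 0 := fun i => by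
      show σ (π (C (X i))) = 0
      rw [hπC, aeval_X]
      exact (hker.ge (Ideal.subset_span ⟨i, rfl⟩) :)
    have hψe : ψ e = 1 := by
      have h0 : ψ (1 - e) = 0 := (hker.ge (hT (Ideal.mem_map_of_mem π.toRingHom he)) :)
      rw [map_sub, map_one, sub_eq_zero] at h0
      exact h0.symm
    have hj : Q.jacobian = Ideal.Quotient.mk G Q.jacobiMatrix.det := by
      rw [Q.jacobian_eq_jacobiMatrix_det]
      rfl
    show σ (φ (Ideal.Quotient.mk G e * Q.jacobian)) = 1
    rw [hj, ← map_mul, hφmk]
    show ψ (e * Q.jacobiMatrix.det) = 1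
    rw [map_mul, hψe, one_mul, RingHom.map_det]
    convert Matrix.det_one (n := Fin k) (R := A)
    ext i j
    have hd' : ψ (pderiv i (v j)) = (1 : Matrix (Fin k) (Fin k) A) i j := by
      simp only [v, QRSeries.rel, map_sub, map_sum, pderiv_mul, pderiv_C, mul_zero, add_zero,
        map_mul, hψT, zero_mul, Finset.sum_const_zero, sub_zero, pderiv_X, Pi.single_apply,
        Matrix.one_apply]
      split_ifs with h h' <;> simp_all
    rw [RingHom.mapMatrix_apply, Matrix.map_apply]
    exact (congrArg ψ (Algebra.PreSubmersivePresentation.jacobiMatrix_naive ..)).trans hd'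
  have hq' : φ u ∉ q := fun h => by
    have h1 : (1 : B) - φ u ∈ q := hle (by rw [← hker, RingHom.mem_ker, map_sub, map_one, hσu, sub_self])
    exact Ideal.IsPrime.ne_top ‹_› ((Ideal.eq_top_iff_one _).mpr (by simpa using q.add_mem h1 h))
  exact (Algebra.basicOpen_subset_smoothLocus_iff_smooth.mpr ‹_›) (a := ⟨q, ‹_›⟩) hq'

end Groth.Agent.H06Unram.QRSmooth
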