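import Groth.Agent.H02CA.DerivationCriterion
import Groth.Agent.H06Unram.ConormalInj
import Groth.Agent.H02CA.GeomReducedField

/-!
# Free differentials imply regularity in characteristic zero
-/

set_option autoImplicit false
set_option linter.style.haveILetI false
universe u

open IsLocalRing TensorProduct

namespace Groth.Agent.H06Unram.RegularChar0

/-- A Noetherian local algebra over a field of characteristic zero with free differentials and formally
smooth residue field is regular. -/
theorem isRegularLocalRing_of_free {k R : Type u} [Field k] [CharZero k] [CommRing R] [IsLocalRing R]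
    [IsNoetherianRing R] [Algebra k R] [Algebra.FormallySmooth k (ResidueField R)]
    [Module.Free R Ω[R⁄k]] : IsRegularLocalRing R := by
  classical
  obtain ⟨n, ⟨bC⟩⟩ : ∃ n, Nonempty (Module.Basis (Fin n) (ResidueField R) (CotangentSpace R)) :=
    ⟨_, ⟨Module.finBasis (ResidueField R) (CotangentSpace R)⟩⟩
  choose y hy using fun i => Ideal.toCotangent_surjective (maximalIdeal R) (bC i)
  have hspan : maximalIdeal R = Ideal.span (Set.range fun i => (y i : R)) := by
    refine le_antisymm ?_ (Ideal.span_le.mpr (by rintro _ ⟨i, rfl⟩; exact (y i).2))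
    refine Submodule.le_of_le_smul_of_le_jacobson_bot (I := maximalIdeal R) (IsNoetherian.noetherian _)
      (maximalIdeal_le_jacobson _) fun a ha => ?_
    have h := bC.sum_repr ((maximalIdeal R).toCotangent ⟨a, ha⟩)
    choose c hc using fun i => residue_surjective (bC.repr ((maximalIdeal R).toCotangent ⟨a, ha⟩) i)
    have h2 : (maximalIdeal R).toCotangent (⟨a, ha⟩ - ∑ i, c i • y i) = 0 := by
      rw [map_sub, map_sum, sub_eq_zero]
      refine h.symm.trans (Finset.sum_congr rfl fun i _ => ?_)
      rw [map_smul, hy, ← hc i]
      exact algebraMap_smul (ResidueField R) (c i) (bC i)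
    rw [Ideal.toCotangent_eq_zero] at h2
    rw [Submodule.mem_sup]
    refine ⟨∑ i, c i * (y i : R), Ideal.sum_mem _ fun i _ => Ideal.mul_mem_left _ _ (Ideal.subset_span ⟨i, rfl⟩),
      a - ∑ i, c i * (y i : R), ?_, by ring⟩
    rw [smul_eq_mul, ← sq]
    simpa using h2
  let T : (Fin n → ResidueField R) →ₗ[ResidueField R] ResidueField R ⊗[R] Ω[R⁄k] :=
    Fintype.linearCombination (ResidueField R) fun i => (1 : ResidueField R) ⊗ₜ[R] KaehlerDifferential.D k R (y i : R)
  have hT : Function.Injective T := by
    rw [injective_iff_map_eq_zero]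
    intro c hc
    choose a ha using fun i => residue_surjective (c i)
    have hmem : ∑ i, a i * (y i : R) ∈ maximalIdeal R :=
      Ideal.sum_mem _ fun i _ => Ideal.mul_mem_left _ _ (y i).2
    have h0 : (1 : ResidueField R) ⊗ₜ[R] KaehlerDifferential.D k R (∑ i, a i * (y i : R)) = 0 := by
      rw [map_sum, TensorProduct.tmul_sum, ← hc, Fintype.linearCombination_apply]
      refine Finset.sum_congr rfl fun i _ => ?_
      rw [Derivation.leibniz, TensorProduct.tmul_add, TensorProduct.tmul_smul, ← ha i,
        ← algebraMap_smul (ResidueField R) (a i), show (1 : ResidueField R) ⊗ₜ[R] ((y i : R) • KaehlerDifferential.D k R (a i)) = 0 from ?_,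
        add_zero]
      · rfl
      · rw [← TensorProduct.smul_tmul, Algebra.smul_def, mul_one,
          show algebraMap R (ResidueField R) (y i : R) = 0 from (residue_eq_zero_iff _).mpr (y i).2,
          TensorProduct.zero_tmul]
    have hsq := ConormalInj.mem_sq_of_tmul_D_eq_zero (R := k) (P := R) (C := ResidueField R) residue_surjective
      ((residue_eq_zero_iff _).mpr hmem) h0
    rw [show RingHom.ker (algebraMap R (ResidueField R)) = maximalIdeal R from ker_residue] at hsq
    have h1 : (maximalIdeal R).toCotangent (∑ i, a i • y i) = 0 := by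
      rw [Ideal.toCotangent_eq_zero]
      simpa using hsq
    rw [map_sum] at h1
    funext i
    exact Fintype.linearIndependent_iff.mp bC.linearIndependent c ((Finset.sum_congr rfl fun j _ => by
      rw [map_smul, hy, ← ha j]
      exact algebraMap_smul (ResidueField R) (a j) (bC j)).trans h1) i
  obtain ⟨L, hL⟩ := T.exists_leftInverse_of_injective (LinearMap.ker_eq_bot.mpr hT)
  let ℓ₀ : Ω[R⁄k] →ₗ[R] (Fin n → ResidueField R) :=
    (L.restrictScalars R).comp (TensorProduct.mk R (ResidueField R) Ω[R⁄k] 1)
  let res : (Fin n → R) →ₗ[R] (Fin n → ResidueField R) :=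
    LinearMap.pi fun i => (Algebra.linearMap R (ResidueField R)).comp (LinearMap.proj i)
  have hres : Function.Surjective res := fun c => by
    choose a ha using fun i => residue_surjective (c i)
    exact ⟨a, funext ha⟩
  obtain ⟨ℓ, hℓ⟩ := Module.projective_lifting_property res ℓ₀ hres
  have hℓy : ∀ i j, residue R (ℓ (KaehlerDifferential.D k R (y j : R)) i) = if i = j then 1 else 0 := fun i j => by
    have h := congrFun (LinearMap.congr_fun hℓ (KaehlerDifferential.D k R (y j : R))) i
    refine h.trans ?_
    have h2 : T (Pi.single j 1) = (1 : ResidueField R) ⊗ₜ[R] KaehlerDifferential.D k R (y j : R) := by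
      simp [T]
    show L ((1 : ResidueField R) ⊗ₜ[R] KaehlerDifferential.D k R (y j : R)) i = _
    rw [← h2, show L (T (Pi.single j 1)) = Pi.single j 1 from LinearMap.congr_fun hL _, Pi.single_apply]
  let M : Matrix (Fin n) (Fin n) R := Matrix.of fun i j => ℓ (KaehlerDifferential.D k R (y j : R)) i
  have hM : IsUnit M.det := by
    by_contra hu
    have h1 : residue R M.det = 0 := (residue_eq_zero_iff _).mpr hu
    rw [RingHom.map_det] at h1
    have h2 : M.map (residue R) = 1 := Matrix.ext fun i j => by
      rw [Matrix.map_apply, Matrix.one_apply]; exact hℓy i j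
    rw [RingHom.mapMatrix_apply, h2, Matrix.det_one] at h1
    exact one_ne_zero h1
  let D : Fin n → Derivation k R R := fun i =>
    ((LinearMap.proj i).comp ((Matrix.toLin' M⁻¹).comp ℓ)).compDer (KaehlerDifferential.D k R)
  have hD : ∀ i j, D i (y j : R) = if i = j then 1 else 0 := fun i j => by
    show Matrix.toLin' M⁻¹ (ℓ (KaehlerDifferential.D k R (y j : R))) i = _
    rw [Matrix.toLin'_apply, ← Matrix.one_apply (i := i) (j := j), ← Matrix.nonsing_inv_mul M hM,
      Matrix.mul_apply]
    rfl
  exact (H02CA.DerivationCriterion.isRegularLocalRing_of_derivations k n R (fun i => (y i : R)) hspan D hD).1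

end Groth.Agent.H06Unram.RegularChar0
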