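import Groth.Agent.H06Unram.EtaleParams
import Groth.Agent.S2063
import Groth.Agent.S9442
import Groth.Agent.S2469
import Groth.Agent.S4523
import Groth.Agent.H05EGA4.Regular

/-!
# Regular points with separable residue field (EGA IV 17.15.4)
-/

set_option autoImplicit false
set_option linter.style.haveILetI false
set_option backward.isDefEq.respectTransparency false
universe u

namespace Groth.Agent.H06Unram.RegularParams

open IsLocalRing TensorProduct H8Props.FieldDim

variable (k A : Type u) [Field k] [CommRing A] [Algebra k A] [Algebra.FiniteType k A]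

/-- The local dimension is the dimension of the local ring plus the transcendence degree of the residue field. -/
theorem exists_trdeg_eq (n r : ℕ) (p : Ideal A) [p.IsPrime]
    (hn : FlatMor.localDim (PrimeSpectrum A) ⟨p, inferInstance⟩ = (n : WithBot ℕ∞))
    (hr : ringKrullDim (Localization.AtPrime p) = (r : WithBot ℕ∞)) :
    ∃ s : ℕ, Algebra.trdeg k p.ResidueField = s ∧ r + s = n := by
  obtain ⟨s, -, hs'⟩ := exists_dim_trdeg k (A ⧸ p)
  haveI : FaithfulSMul (A ⧸ p) p.ResidueField := (faithfulSMul_iff_algebraMap_injective _ _).mpr
    (IsFractionRing.injective (A ⧸ p) p.ResidueField)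
  have h1 := trdeg_add_eq k (A ⧸ p) (A := p.ResidueField)
  haveI : Algebra.IsAlgebraic (A ⧸ p) p.ResidueField := IsLocalization.isAlgebraic p.ResidueField (nonZeroDivisors _)
  rw [trdeg_eq_zero (R := A ⧸ p), add_zero, hs'] at h1
  refine ⟨s, h1.symm, ?_⟩
  rw [H1CAlg.localDim_spec_eq_height_add (k := k), H1CAlg.dim_quotient_eq_trdeg p s h1.symm] at hn
  rw [IsLocalization.AtPrime.ringKrullDim_eq_height p (Localization.AtPrime p)] at hr
  rw [hr] at hn
  exact_mod_cast hn

/-- EGA IV 17.15.4. -/
theorem regular_and_separable_iff (n r : ℕ) (p : Ideal A) [p.IsPrime]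
    (hn : FlatMor.localDim (PrimeSpectrum A) ⟨p, inferInstance⟩ = (n : WithBot ℕ∞))
    (hr : ringKrullDim (Localization.AtPrime p) = (r : WithBot ℕ∞)) :
    (IsRegularLocalRing (Localization.AtPrime p) ∧ Algebra.IsGeometricallyReduced k p.ResidueField) ↔
      ∃ g : Fin n → Localization.AtPrime p,
        Ideal.span (g '' {i : Fin n | (i : ℕ) < r}) = maximalIdeal (Localization.AtPrime p) ∧
          Submodule.span p.ResidueField ((fun i : Fin n =>
            KaehlerDifferential.D k p.ResidueField (residue (Localization.AtPrime p) (g i))) ''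
              {i : Fin n | r ≤ (i : ℕ)}) = ⊤ := by
  classical
  haveI : IsNoetherianRing A := Algebra.FiniteType.isNoetherianRing k A
  obtain ⟨s, hs, hrs⟩ := exists_trdeg_eq k A n r p hn hr
  haveI : Algebra.EssFiniteType k p.ResidueField :=
    Algebra.EssFiniteType.comp k (Localization.AtPrime p) p.ResidueField
  obtain ⟨hfinK, hfinI, hrank⟩ := S2469.result (K := k) (L := p.ResidueField)
  haveI := hfinK
  haveI := hfinI
  rw [hs, Cardinal.toNat_natCast] at hrank
  constructor
  · rintro ⟨hreg, hsep⟩
    haveI := hreg
    obtain ⟨y, hy⟩ : ∃ y : Fin r → Localization.AtPrime p, Ideal.span (Set.range y) = maximalIdeal _ := by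
      obtain ⟨d, x, hd, hx⟩ := H4Depth.exists_regular_system_of_parameters (Localization.AtPrime p)
      obtain rfl : d = r := by rw [hr] at hd; exact_mod_cast hd.symm
      exact ⟨x, hx⟩
    have hrk : Module.finrank p.ResidueField (Ω[p.ResidueField⁄k]) = s := by
      rw [(S4523.result.1.mp hsep), finrank_bot] at hrank
      omega
    obtain ⟨J, a, -, hspan, hli⟩ := exists_linearIndependent' p.ResidueField
      (fun z : p.ResidueField => KaehlerDifferential.D k p.ResidueField z)
    rw [KaehlerDifferential.span_range_derivation] at hspan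
    let b := Module.Basis.mk hli hspan.ge
    haveI : Finite J := Module.Finite.finite_basis b
    haveI : Fintype J := Fintype.ofFinite J
    have hJ : Fintype.card J = s := by rw [← hrk, Module.finrank_eq_card_basis b]
    let e : Fin s ≃ J := (Fintype.equivFinOfCardEq hJ).symm
    choose z hz using fun j : Fin s => residue_surjective (a (e j))
    refine ⟨fun i => if h : (i : ℕ) < r then y ⟨i, h⟩ else z ⟨i - r, by omega⟩, ?_, ?_⟩
    · rw [← hy]
      congr 1
      ext w
      constructor
      · rintro ⟨i, hi, rfl⟩
        exact ⟨⟨i, hi⟩, by simp only [dif_pos (show (i : ℕ) < r from hi)]⟩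
      · rintro ⟨j, rfl⟩
        exact ⟨⟨j, by omega⟩, j.2, by simp only [dif_pos (show (j : ℕ) < r from j.2), Fin.eta]⟩
    · rw [eq_top_iff, ← hspan, Submodule.span_le]
      rintro _ ⟨j, rfl⟩
      refine Submodule.subset_span ⟨⟨r + (e.symm j : ℕ), by omega⟩, Nat.le_add_right _ _, ?_⟩
      simp only [Function.comp_apply, dif_neg (not_lt.mpr (Nat.le_add_right r _))]
      rw [← e.apply_symm_apply j, ← hz (e.symm j)]
      congr 4
      · simp [e]
  · rintro ⟨g, hm, hd⟩
    have h1 := EtaleParams.span_eq_top (k := k) (R := Localization.AtPrime p) g _ _ hm hd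
    have hsm : Algebra.IsSmoothAt k p := by
      refine (S2063.result p).mpr ?_
      rw [hn]
      haveI : Algebra.FormallyEtale A (Localization.AtPrime p) := .of_isLocalization p.primeCompl
      let e := KaehlerDifferential.tensorKaehlerEquivOfFormallyEtale k A (Localization.AtPrime p)
      have he : Module.finrank p.ResidueField (p.ResidueField ⊗[A] Ω[A⁄k]) =
          Module.finrank p.ResidueField (p.ResidueField ⊗[Localization.AtPrime p] Ω[Localization.AtPrime p⁄k]) :=
        ((LinearEquiv.baseChange (Localization.AtPrime p) p.ResidueField _ _ e).symm.trans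
          (TensorProduct.AlgebraTensorModule.cancelBaseChange A (Localization.AtPrime p) p.ResidueField p.ResidueField
            Ω[A⁄k])).finrank_eq.symm
      have h2 : Submodule.span p.ResidueField (Set.range fun i : Fin n =>
          (1 : p.ResidueField) ⊗ₜ[Localization.AtPrime p] KaehlerDifferential.D k (Localization.AtPrime p) (g i)) = ⊤ := by
        have h3 := congrArg (Submodule.baseChange p.ResidueField) h1
        rw [Submodule.baseChange_span, Submodule.baseChange_top, ← Set.range_comp] at h3
        exact h3
      have h4 := finrank_range_le_card (R := p.ResidueField) (fun i : Fin n =>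
          (1 : p.ResidueField) ⊗ₜ[Localization.AtPrime p] KaehlerDifferential.D k (Localization.AtPrime p) (g i))
      rw [Set.finrank, h2, finrank_top, Fintype.card_fin] at h4
      rw [he]
      exact_mod_cast h4
    have hsep : Algebra.IsGeometricallyReduced k p.ResidueField := by
      refine S4523.result.1.mpr ?_
      rw [← Submodule.finrank_eq_zero]
      have h5 : Module.finrank p.ResidueField (Ω[p.ResidueField⁄k]) ≤ s := by
        have h6 := finrank_span_le_card (R := p.ResidueField) ((fun i : Fin n =>
          KaehlerDifferential.D k p.ResidueField (residue (Localization.AtPrime p) (g i))) '' {i : Fin n | r ≤ (i : ℕ)})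
        rw [hd, finrank_top, Set.toFinset_card] at h6
        refine h6.trans ((Fintype.card_le_of_surjective (fun i : {i : Fin n | r ≤ (i : ℕ)} => _)
          Set.imageFactorization_surjective).trans ?_)
        calc Fintype.card {i : Fin n | r ≤ (i : ℕ)}
            ≤ Fintype.card (Fin s) := Fintype.card_le_of_injective
              (fun i => (⟨(i.1 : ℕ) - r, by have := i.1.2; have h' : r ≤ (i.1 : ℕ) := i.2; omega⟩ : Fin s)) fun i j hij => by
                have h7 : (i.1 : ℕ) - r = (j.1 : ℕ) - r := congrArg Fin.val hij
                have h8 : r ≤ (i.1 : ℕ) := i.2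
                have h9 : r ≤ (j.1 : ℕ) := j.2
                exact Subtype.ext (Fin.ext (by omega))
          _ = s := Fintype.card_fin s
      have h10 : ∀ u v : ℕ, (u : ℤ) - v = s → u ≤ s → v = 0 := by omega
      exact h10 _ _ hrank h5
    haveI := hsep
    exact ⟨(S9442.result k A p).mp hsm, hsep⟩

end Groth.Agent.H06Unram.RegularParams
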