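import Groth.Agent.H06Unram.ConormalInj
import Groth.Agent.H06Unram.Tower

/-!
# Parameters at points with separable residue field
-/

set_option autoImplicit false
set_option linter.style.haveILetI false
universe u

open IsLocalRing TensorProduct

namespace Groth.Agent.H06Unram.SepPoint

variable {k T : Type u} [Field k] [CommRing T] [IsLocalRing T] [Algebra k T]

theorem tmul_smul_D_eq_zero (a : T) {x : T} (hx : x ∈ maximalIdeal T) :
    (1 : ResidueField T) ⊗ₜ[T] (x • KaehlerDifferential.D k T a) = 0 := by
  rw [← TensorProduct.smul_tmul, Algebra.smul_def, mul_one,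
    show algebraMap T (ResidueField T) x = 0 from (residue_eq_zero_iff _).mpr hx, TensorProduct.zero_tmul]

theorem tmul_D_sum {n : ℕ} (a g : Fin n → T) (hg : ∀ i, g i ∈ maximalIdeal T) :
    (1 : ResidueField T) ⊗ₜ[T] KaehlerDifferential.D k T (∑ i, a i * g i) =
      ∑ i, residue T (a i) • ((1 : ResidueField T) ⊗ₜ[T] KaehlerDifferential.D k T (g i)) := by
  rw [map_sum, TensorProduct.tmul_sum]
  refine Finset.sum_congr rfl fun i _ => ?_
  rw [Derivation.leibniz, TensorProduct.tmul_add, TensorProduct.tmul_smul, tmul_smul_D_eq_zero _ (hg i), add_zero]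
  exact (algebraMap_smul (ResidueField T) (a i) _).symm

/-- With separable residue field, generators of the maximal ideal span the differentials. -/
theorem span_top [Algebra.FormallyUnramified k (ResidueField T)] {n : ℕ} (g : Fin n → T)
    (hg : Ideal.span (Set.range g) = maximalIdeal T) :
    Submodule.span (ResidueField T)
      (Set.range fun i => (1 : ResidueField T) ⊗ₜ[T] KaehlerDifferential.D k T (g i)) = ⊤ := by
  refine eq_top_iff.mpr fun z _ => ?_
  obtain ⟨w, hw⟩ := (KaehlerDifferential.exact_kerCotangentToTensor_mapBaseChange k T (ResidueField T)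
    residue_surjective z).mp (Subsingleton.elim _ _)
  obtain ⟨⟨x, hx⟩, rfl⟩ := Ideal.toCotangent_surjective _ w
  rw [KaehlerDifferential.kerCotangentToTensor_toCotangent] at hw
  have hxm : x ∈ Ideal.span (Set.range g) := by
    rw [hg]; exact (residue_eq_zero_iff _).mp hx
  obtain ⟨a, rfl⟩ := Ideal.mem_span_range_iff_exists_fun.mp hxm
  rw [← hw, tmul_D_sum a g fun i => hg ▸ Ideal.subset_span ⟨i, rfl⟩]
  exact Submodule.sum_mem _ fun i _ => Submodule.smul_mem _ _ (Submodule.subset_span ⟨i, rfl⟩)

/-- With separable residue field, elements whose differentials span generate the maximal ideal. -/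
theorem span_eq_maximalIdeal [IsNoetherianRing T] [Algebra.FormallySmooth k (ResidueField T)] {n : ℕ}
    (g : Fin n → T) (hg : ∀ i, g i ∈ maximalIdeal T)
    (hsp : Submodule.span (ResidueField T)
      (Set.range fun i => (1 : ResidueField T) ⊗ₜ[T] KaehlerDifferential.D k T (g i)) = ⊤) :
    Ideal.span (Set.range g) = maximalIdeal T := by
  refine le_antisymm (Ideal.span_le.mpr (by rintro _ ⟨i, rfl⟩; exact hg i)) ?_
  refine Submodule.le_of_le_smul_of_le_jacobson_bot (I := maximalIdeal T) (IsNoetherian.noetherian _)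
    (maximalIdeal_le_jacobson _) fun x hx => ?_
  obtain ⟨c, hc⟩ := (Submodule.mem_span_range_iff_exists_fun (ResidueField T)).mp
    (show (1 : ResidueField T) ⊗ₜ[T] KaehlerDifferential.D k T x ∈ _ by rw [hsp]; trivial)
  choose a ha using fun i => residue_surjective (c i)
  have hmem : x - ∑ i, a i * g i ∈ maximalIdeal T :=
    sub_mem hx (Ideal.sum_mem _ fun i _ => Ideal.mul_mem_left _ _ (hg i))
  have h0 : (1 : ResidueField T) ⊗ₜ[T] KaehlerDifferential.D k T (x - ∑ i, a i * g i) = 0 := by
    rw [map_sub, TensorProduct.tmul_sub, tmul_D_sum a g hg, ← hc, sub_eq_zero]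
    exact Finset.sum_congr rfl fun i _ => by rw [ha i]
  have hsq := ConormalInj.mem_sq_of_tmul_D_eq_zero (R := k) (P := T) (C := ResidueField T) residue_surjective
    ((residue_eq_zero_iff _).mpr hmem) h0
  rw [show RingHom.ker (algebraMap T (ResidueField T)) = maximalIdeal T from ker_residue] at hsq
  rw [Submodule.mem_sup]
  refine ⟨∑ i, a i * g i, Ideal.sum_mem _ fun i _ => Ideal.mul_mem_left _ _ (Ideal.subset_span ⟨i, rfl⟩),
    x - ∑ i, a i * g i, ?_, by ring⟩
  rw [smul_eq_mul, ← sq]
  exact hsq

/-- A system of parameters of a regular local ring has independent differentials. -/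
theorem linearIndependent_D [IsNoetherianRing T] [Algebra.FormallySmooth k (ResidueField T)] {n : ℕ}
    (g : Fin n → T) (hg : Ideal.span (Set.range g) = maximalIdeal T) (hdim : ringKrullDim T = n) :
    LinearIndependent (ResidueField T)
      fun i => (1 : ResidueField T) ⊗ₜ[T] KaehlerDifferential.D k T (g i) := by
  have hgm : ∀ i, g i ∈ maximalIdeal T := fun i => hg ▸ Ideal.subset_span ⟨i, rfl⟩
  let v : Fin n → CotangentSpace T := fun i => (maximalIdeal T).toCotangent ⟨g i, hgm i⟩
  have hv : Submodule.span (ResidueField T) (Set.range v) = ⊤ := by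
    refine eq_top_iff.mpr fun w _ => ?_
    obtain ⟨⟨x, hx⟩, rfl⟩ := Ideal.toCotangent_surjective _ w
    have hxm : x ∈ Ideal.span (Set.range g) := by rw [hg]; exact hx
    obtain ⟨a, ha⟩ := Ideal.mem_span_range_iff_exists_fun.mp hxm
    rw [show (⟨x, hx⟩ : maximalIdeal T) = ∑ i, a i • (⟨g i, hgm i⟩ : maximalIdeal T) from
      Subtype.ext (ha.symm.trans (by simp)), map_sum]
    refine Submodule.sum_mem _ fun i _ => ?_
    rw [map_smul, ← algebraMap_smul (ResidueField T) (a i)]
    exact Submodule.smul_mem _ _ (Submodule.subset_span ⟨i, rfl⟩)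
  have hle : (n : WithBot ℕ∞) ≤ ((maximalIdeal T).spanFinrank : WithBot ℕ∞) := by
    rw [← hdim]; exact ringKrullDim_le_spanFinrank_maximalIdeal T
  rw [spanFinrank_maximalIdeal_eq_finrank_cotangentSpace] at hle
  have hli : LinearIndependent (ResidueField T) v := linearIndependent_of_top_le_span_of_card_eq_finrank hv.ge (by
    refine le_antisymm ((Nat.cast_le (α := ℕ∞)).mp (WithBot.coe_le_coe.mp ?_)) ?_
    · rw [Fintype.card_fin]; exact hle
    · exact finrank_le_of_span_eq_top hv)
  rw [Fintype.linearIndependent_iff] at hli ⊢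
  intro c hc
  choose a ha using fun i => residue_surjective (c i)
  have h0 : (1 : ResidueField T) ⊗ₜ[T] KaehlerDifferential.D k T (∑ i, a i * g i) = 0 := by
    rw [tmul_D_sum a g hgm, ← hc]
    exact Finset.sum_congr rfl fun i _ => by rw [ha i]
  have hsq := ConormalInj.mem_sq_of_tmul_D_eq_zero (R := k) (P := T) (C := ResidueField T) residue_surjective
    ((residue_eq_zero_iff _).mpr (Ideal.sum_mem _ fun i _ => Ideal.mul_mem_left _ _ (hgm i))) h0
  rw [show RingHom.ker (algebraMap T (ResidueField T)) = maximalIdeal T from ker_residue] at hsq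
  have h1 : (maximalIdeal T).toCotangent (∑ i, a i • (⟨g i, hgm i⟩ : maximalIdeal T)) = 0 := by
    rw [Ideal.toCotangent_eq_zero]
    simpa using hsq
  rw [map_sum] at h1
  refine hli c (Eq.trans (Finset.sum_congr rfl fun i _ => ?_) h1)
  rw [map_smul, ← ha i]
  exact algebraMap_smul (ResidueField T) (a i) (v i)

variable {P : Type u} [CommRing P] [Algebra k P] [Algebra P T] [IsScalarTower k P T]

/-- Etaleness over a free-differential base is a basis condition on the residue field. -/
theorem formallyEtale_of_span [Algebra.FormallySmooth k T] [Algebra.EssFiniteType k T]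
    [Algebra.FormallySmooth k P] {n : ℕ} (bP : Module.Basis (Fin n) P Ω[P⁄k]) (x : Fin n → P)
    (hbP : ∀ i, bP i = KaehlerDifferential.D k P (x i))
    (hli : LinearIndependent (ResidueField T)
      fun i => (1 : ResidueField T) ⊗ₜ[T] KaehlerDifferential.D k T (algebraMap P T (x i)))
    (hsp : Submodule.span (ResidueField T)
      (Set.range fun i => (1 : ResidueField T) ⊗ₜ[T] KaehlerDifferential.D k T (algebraMap P T (x i))) = ⊤) :
    Algebra.FormallyEtale P T := by
  haveI : Module.Free T Ω[T⁄k] := Module.free_of_flat_of_isLocalRing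
  let v : Fin n → Ω[T⁄k] := fun i => KaehlerDifferential.D k T (algebraMap P T (x i))
  let bκ := Module.Basis.mk hli hsp.ge
  have hv : Submodule.span T (Set.range v) = ⊤ :=
    IsLocalRing.span_eq_top_of_tmul_eq_basis v bκ fun i => (Module.Basis.mk_apply hli hsp.ge i).symm
  have hr : Module.finrank T Ω[T⁄k] = n := by
    rw [← Module.finrank_baseChange (R := ResidueField T), Module.finrank_eq_card_basis bκ, Fintype.card_fin]
  let c := basisOfTopLeSpanOfCardEqFinrank v hv.ge (by rw [Fintype.card_fin, hr])
  rw [Tower.formallyEtale_iff k P T]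
  let b := Algebra.TensorProduct.basis T bP
  have hb : ∀ i, KaehlerDifferential.mapBaseChange k P T (b i) = c i := fun i => by
    rw [Algebra.TensorProduct.basis_apply, hbP, KaehlerDifferential.mapBaseChange_tmul, one_smul,
      KaehlerDifferential.map_D, coe_basisOfTopLeSpanOfCardEqFinrank]
  have : KaehlerDifferential.mapBaseChange k P T = (b.equiv c (Equiv.refl _)).toLinearMap :=
    b.ext fun i => by rw [hb]; exact (b.equiv_apply i c (Equiv.refl _)).symm
  rw [this]; exact (b.equiv c (Equiv.refl _)).bijective

end Groth.Agent.H06Unram.SepPoint
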