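import Groth.Agent.H06Unram.QRSection
import Groth.Agent.H8Props.KoszImm.Bridge
import Groth.Agent.S8906
import Groth.Agent.H29Slice.KoszulReg

/-!
# Smoothness along a regularly immersed smooth subscheme (EGA IV 17.12.1)
-/

set_option autoImplicit false
set_option linter.style.haveILetI false
set_option backward.isDefEq.respectTransparency false
universe u

open CategoryTheory CategoryTheory.Limits AlgebraicGeometry TopologicalSpace

namespace Groth.Agent.H06Unram.SmoothAlongRegular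

/-- A morphism is smooth along a Koszul-regularly immersed subscheme which is smooth over the base. -/
theorem mem_smoothLocus_of_koszul {X Y S : Scheme.{u}} (f : X ⟶ S) [LocallyOfFinitePresentation f]
    (i : Y ⟶ X) (hi : RegImm.IsRegularImmersion .koszul i) [Smooth (i ≫ f)] (y : Y) :
    i y ∈ f.smoothLocus := by
  let p₂ : pullback (i ≫ f) f ⟶ X := pullback.snd (i ≫ f) f
  let f' : pullback (i ≫ f) f ⟶ Y := pullback.fst (i ≫ f) f
  let σ : Y ⟶ pullback (i ≫ f) f := pullback.lift (𝟙 Y) i (Category.id_comp _)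
  have hσ : σ ≫ f' = 𝟙 Y := pullback.lift_fst _ _ _
  have hσ₂ : σ ≫ p₂ = i := pullback.lift_snd _ _ _
  have hq : RegImm.IsRegularImmersion .koszul (pullback.snd i p₂) := S8906.result i .koszul hi p₂
  haveI : IsImmersion i := hi.1
  let τ : Y ⟶ pullback i p₂ := pullback.lift (𝟙 Y) σ (by rw [Category.id_comp, hσ₂])
  have hτ₁ : τ ≫ pullback.fst i p₂ = 𝟙 Y := pullback.lift_fst _ _ _
  haveI : IsImmersion (τ ≫ pullback.fst i p₂) := by rw [hτ₁]; infer_instance
  haveI : IsImmersion τ := IsImmersion.of_comp τ (pullback.fst i p₂)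
  have hτ : RegImm.IsRegularImmersion .koszul τ :=
    S8656.result (𝟙 Y) (fun z => H8Props.AlgSpLci.isKoszulAt_of_smooth (𝟙 Y) z) (pullback.fst i p₂) τ hτ₁
  have hc := H17.KoszComp.comp_isRegularImmersion _ τ hq hτ
  rw [show τ ≫ pullback.snd i p₂ = σ from pullback.lift_snd _ _ _] at hc
  have hs := (QRSection.isRegularImmersion_iff f' σ hσ).mp ((S8905.result _).2.2 ((S8905.result _).2.1 hc)) y
  have h2 := H17.LocusBC.mem_smoothLocus_of_flat_baseChange (IsPullback.of_hasPullback (i ≫ f) f).flip (σ y) hs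
  rwa [show p₂ (σ y) = i y by rw [← Scheme.Hom.comp_apply, hσ₂]] at h2

theorem smooth_nhd {X Y S : Scheme.{u}} (f : X ⟶ S) (h : Y ⟶ S)
    [LocallyOfFinitePresentation f] [LocallyOfFinitePresentation h] (j : Y ⟶ X) [IsClosedImmersion j]
    (hj : j ≫ f = h) (y : ↥Y) (hy : ∃ V : Y.Opens, y ∈ V ∧ Smooth (V.ι ≫ h))
    (hreg : ∃ (U : X.Opens) (hU : IsAffineOpen U), j y ∈ U ∧
      ∃ rs : List Γ(X, U), RingTheory.Sequence.IsRegular Γ(X, U) rs ∧ j.ker.ideal ⟨U, hU⟩ = Ideal.ofList rs) :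
    ∃ U : X.Opens, j y ∈ U ∧ Smooth (U.ι ≫ f) := by
  obtain ⟨V, hyV, hV⟩ := hy
  obtain ⟨U, hU, hjU, rs, hrs, hker⟩ := hreg
  subst hj
  rw [← H17.LocusBC.mem_smoothLocus_iff_exists]
  have hkU : RingHom.ker (j.app U).hom = Ideal.ofList rs := by rw [← hker, Scheme.Hom.ker_apply]
  have hclU : IsClosedImmersion (j ∣_ U) := inferInstance
  -- the chart is Koszul regular
  have hkz : LCI.IsKoszulRegularSeq Γ(X, U) rs := H29Slice.isKoszulRegular_of_isWeaklyRegular hrs.toIsWeaklyRegular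
  let O : X.Opens := U ⊓ ⟨(j '' (V : Set Y)ᶜ)ᶜ, (j.isClosedEmbedding.isClosedMap _ V.2.isClosed_compl).isOpen_compl⟩
  have hyO : j y ∈ O := ⟨hjU, fun ⟨z, hz, hzy⟩ => hz (j.isClosedEmbedding.injective hzy ▸ hyV)⟩
  obtain ⟨r, hrO, hyr⟩ := hU.exists_basicOpen_le ⟨j y, hyO⟩ hjU
  let D : X.Opens := X.basicOpen r
  obtain ⟨hclD, hrsD, hkD⟩ := H17.KoszComp.chart_restrict j ⟨U, hU⟩ ⟨D, hU.basicOpen r⟩ (X.basicOpen_le r) hclU hkz hkU
  let Y' : Y.Opens := j ⁻¹ᵁ D
  let i : Y'.toScheme ⟶ X := Y'.ι ≫ j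
  have hle : Y' ≤ V := fun z hz => by
    by_contra hzV
    exact (hrO hz).2 ⟨z, hzV, rfl⟩
  haveI : Smooth (i ≫ f) := by
    show Smooth ((Y'.ι ≫ j) ≫ f)
    rw [Category.assoc, ← Y.homOfLE_ι hle, Category.assoc]
    infer_instance
  have hi : RegImm.IsRegularImmersion .koszul i := by
    refine ⟨inferInstance, fun z => ⟨⟨D, hU.basicOpen r⟩, z.2, ?_, _, hrsD, ?_⟩⟩
    · haveI := hclD
      rw [morphismRestrict_comp]
      haveI : IsIso (Y'.ι ∣_ j ⁻¹ᵁ D) := by
        haveI : Surjective (Y'.ι ∣_ j ⁻¹ᵁ D) :=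
          ⟨fun w => ⟨⟨⟨w.1, w.2⟩, w.2⟩, Subtype.ext (morphismRestrict_base_coe _ _ _)⟩⟩
        exact (isIso_iff_isOpenImmersion_and_surjective _).2 ⟨inferInstance, inferInstance⟩
      infer_instance
    · rw [Scheme.Hom.comp_app, CommRingCat.hom_comp, RingHom.ker_comp_of_injective _ ?_]
      · exact hkD
      · haveI : IsIso (Y'.ι.app (j ⁻¹ᵁ D)) := Y'.ι.isIso_app _ (by rw [Scheme.Opens.opensRange_ι])
        exact (ConcreteCategory.bijective_of_isIso _).1
  exact mem_smoothLocus_of_koszul f i hi (⟨y, hyr⟩ : Y'.toScheme)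

end Groth.Agent.H06Unram.SmoothAlongRegular
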