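import Groth.Agent.H06Unram.SmoothRank
import Groth.Agent.H06Unram.GeomRegFibre
import Groth.Agent.H05EGA4.Regular2

/-!
# Smoothness over a regular base (EGA IV 17.15.?)
-/

set_option autoImplicit false
set_option linter.style.haveILetI false
set_option backward.isDefEq.respectTransparency false
universe u

open CategoryTheory CategoryTheory.Limits AlgebraicGeometry TopologicalSpace Opposite TensorProduct

namespace Groth.Agent.H06Unram.SmoothRegularBase

open IsLocalRing

/-- Flatness over a regular base from the dimension formula and smoothness of the fibre. -/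
theorem flat_of_fibre {U V : Scheme.{u}} (φ : U ⟶ V) [LocallyOfFinitePresentation φ] [IsLocallyNoetherian V] (z : U)
    (hreg : IsRegularLocalRing (V.presheaf.stalk (φ z)))
    (hdim : ringKrullDim (U.presheaf.stalk z) = ringKrullDim (V.presheaf.stalk (φ z)) +
      ringKrullDim (U.presheaf.stalk z ⧸ (maximalIdeal (V.presheaf.stalk (φ z))).map (φ.stalkMap z).hom))
    (hs : ((φ.fiberToSpecResidueField (φ z)).stalkMap (φ.asFiber z)).hom.FormallySmooth) :
    (φ.stalkMap z).hom.Flat := by
  haveI : IsLocallyNoetherian U := LocallyOfFiniteType.isLocallyNoetherian φ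
  haveI : LocallyOfFinitePresentation (φ.fiberToSpecResidueField (φ z)) :=
    MorphismProperty.pullback_snd _ _ inferInstance
  haveI : IsLocallyNoetherian (φ.fiber (φ z)) :=
    LocallyOfFiniteType.isLocallyNoetherian (φ.fiberToSpecResidueField (φ z))
  haveI : IsRegularLocalRing ((φ.fiber (φ z)).presheaf.stalk (φ.asFiber z)) := by
    refine (H06EGA17.isRegularLocalRing_stalk_iff _ _ hs).mpr ?_
    letI := (H8Props.FibreStalk.isField_stalk_Spec (V.residueField (φ z)) (Field.toIsField _)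
      (φ.fiberToSpecResidueField (φ z) (φ.asFiber z))).toField
    infer_instance
  letI : Algebra (V.presheaf.stalk (φ z)) (U.presheaf.stalk z) := (φ.stalkMap z).hom.toAlgebra
  haveI : IsLocalHom (algebraMap (V.presheaf.stalk (φ z)) (U.presheaf.stalk z)) :=
    inferInstanceAs (IsLocalHom (φ.stalkMap z).hom)
  haveI : IsRegularLocalRing (U.presheaf.stalk z ⧸ (maximalIdeal (V.presheaf.stalk (φ z))).map
      (algebraMap (V.presheaf.stalk (φ z)) (U.presheaf.stalk z))) :=
    IsRegularLocalRing.of_ringEquiv (H8Props.FibreStalk.asFiberStalkEquiv φ z).symm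
  exact (H05EGA4.flat_of_ringKrullDim_eq_add (A := V.presheaf.stalk (φ z)) (B := U.presheaf.stalk z) hdim).2

theorem ringKrullDim_quotient_comp_left {U X Y : Scheme.{u}} (a : U ⟶ X) [IsOpenImmersion a] (f : X ⟶ Y) (z : U) :
    ringKrullDim (U.presheaf.stalk z ⧸ (maximalIdeal (Y.presheaf.stalk (f (a z)))).map ((a ≫ f).stalkMap z).hom) =
      ringKrullDim (X.presheaf.stalk (a z) ⧸ (maximalIdeal (Y.presheaf.stalk (f (a z)))).map (f.stalkMap (a z)).hom) := by
  refine (ringKrullDim_eq_of_ringEquiv (Ideal.quotientEquiv _ _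
    (asIso (a.stalkMap z)).commRingCatIsoToRingEquiv ?_)).symm
  rw [Scheme.Hom.stalkMap_comp, CommRingCat.hom_comp, ← Ideal.map_map]
  rfl

theorem ringKrullDim_quotient_comp_right {U V Y : Scheme.{u}} (φ : U ⟶ V) (b : V ⟶ Y) [IsOpenImmersion b] (z : U) :
    ringKrullDim (U.presheaf.stalk z ⧸ (maximalIdeal (Y.presheaf.stalk (b (φ z)))).map ((φ ≫ b).stalkMap z).hom) =
      ringKrullDim (U.presheaf.stalk z ⧸ (maximalIdeal (V.presheaf.stalk (φ z))).map (φ.stalkMap z).hom) := by
  refine ringKrullDim_eq_of_ringEquiv (Ideal.quotEquivOfEq ?_)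
  rw [Scheme.Hom.stalkMap_comp, CommRingCat.hom_comp, ← Ideal.map_map]
  congr 1
  exact IsLocalRing.map_maximalIdeal_of_surjective _ (ConcreteCategory.bijective_of_isIso (b.stalkMap (φ z))).2

/-- Flatness of a chart. -/
theorem flat_of_chart {U V X Y : Scheme.{u}} (f : X ⟶ Y) [IsLocallyNoetherian Y] (a : U ⟶ X) [IsOpenImmersion a]
    (b : V ⟶ Y) [IsOpenImmersion b] (φ : U ⟶ V) [LocallyOfFinitePresentation φ] (w : φ ≫ b = a ≫ f) (z : U)
    (hreg : IsRegularLocalRing (Y.presheaf.stalk (f (a z))))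
    (hdim : ringKrullDim (X.presheaf.stalk (a z)) = ringKrullDim (Y.presheaf.stalk (f (a z))) + ringKrullDim
      (X.presheaf.stalk (a z) ⧸ (maximalIdeal (Y.presheaf.stalk (f (a z)))).map (f.stalkMap (a z)).hom))
    (hs : ((φ.fiberToSpecResidueField (φ z)).stalkMap (φ.asFiber z)).hom.FormallySmooth) :
    (φ.stalkMap z).hom.Flat := by
  haveI : IsLocallyNoetherian V := isLocallyNoetherian_of_isOpenImmersion b
  have key : ∀ (g : U ⟶ Y), g = a ≫ f → IsRegularLocalRing (Y.presheaf.stalk (g z)) ∧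
      ringKrullDim (U.presheaf.stalk z) = ringKrullDim (Y.presheaf.stalk (g z)) + ringKrullDim
        (U.presheaf.stalk z ⧸ (maximalIdeal (Y.presheaf.stalk (g z))).map (g.stalkMap z).hom) := by
    rintro g rfl
    refine ⟨hreg, ?_⟩
    erw [ringKrullDim_quotient_comp_left a f z]
    rw [← ringKrullDim_eq_of_ringEquiv (asIso (a.stalkMap z)).commRingCatIsoToRingEquiv]
    exact hdim
  obtain ⟨h1, h2⟩ := key _ w
  haveI : IsRegularLocalRing (Y.presheaf.stalk (b (φ z))) := h1
  refine flat_of_fibre φ z (IsRegularLocalRing.of_ringEquiv (asIso (b.stalkMap (φ z))).commRingCatIsoToRingEquiv) ?_ hs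
  rw [← ringKrullDim_quotient_comp_right φ b z,
    ← ringKrullDim_eq_of_ringEquiv (asIso (b.stalkMap (φ z))).commRingCatIsoToRingEquiv]
  exact h2

/-- The fibre of an affine chart with free differentials of rank the fibre dimension is smooth. -/
theorem asFiber_mem_smoothLocus_of_basis {R A : Type u} [CommRing R] [CommRing A] [Algebra R A]
    [LocallyOfFinitePresentation (Spec.map (CommRingCat.ofHom (algebraMap R A)))]
    (q : Spec (CommRingCat.of A)) {n : ℕ} (b : Module.Basis (Fin n) A Ω[A⁄R])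
    (hdim : FlatMor.fibreDimAt (Spec.map (CommRingCat.ofHom (algebraMap R A))) q = (n : WithBot ℕ∞)) :
    letI φ := Spec.map (CommRingCat.ofHom (algebraMap R A))
    ((φ.fiberToSpecResidueField (φ q)).stalkMap (φ.asFiber q)).hom.FormallySmooth := by
  set φ := Spec.map (CommRingCat.ofHom (algebraMap R A)) with hφ
  haveI : Algebra.FinitePresentation R A :=
    RingHom.finitePresentation_algebraMap.mp ((LocallyOfFinitePresentation.SpecMap_iff _).mp ‹_›)
  haveI : LocallyOfFinitePresentation (φ.fiberToSpecResidueField (φ q)) :=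
    MorphismProperty.of_isPullback (P := @LocallyOfFinitePresentation)
      (IsPullback.of_hasPullback φ ((Spec (CommRingCat.of R)).fromSpecResidueField (φ q))) ‹_›
  let p : PrimeSpectrum R := φ q
  let e := Spec.fiberToSpecResidueFieldIso R A p
  let Q : PrimeSpectrum (p.asIdeal.Fiber A) := e.hom.left (φ.asFiber q)
  letI := Algebra.TensorProduct.rightAlgebra (R := R) (A := p.asIdeal.ResidueField) (B := A)
  haveI : Algebra.IsPushout R p.asIdeal.ResidueField A (p.asIdeal.Fiber A) := TensorProduct.isPushout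
  let bF : Module.Basis (Fin n) (p.asIdeal.Fiber A) Ω[p.asIdeal.Fiber A⁄p.asIdeal.ResidueField] :=
    (b.baseChange (p.asIdeal.Fiber A)).map
      (KaehlerDifferential.tensorKaehlerEquiv R p.asIdeal.ResidueField A (p.asIdeal.Fiber A))
  have hrank : Module.finrank Q.asIdeal.ResidueField
      (Q.asIdeal.ResidueField ⊗[p.asIdeal.Fiber A] Ω[p.asIdeal.Fiber A⁄p.asIdeal.ResidueField]) = n := by
    rw [Module.finrank_eq_card_basis (bF.baseChange Q.asIdeal.ResidueField), Fintype.card_fin]
  have hQdim : FlatMor.localDim (PrimeSpectrum (p.asIdeal.Fiber A)) Q = (n : WithBot ℕ∞) := by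
    rw [← hdim]
    exact (H9CI.localDim_homeomorph (Scheme.homeoOfIso (Arrow.leftFunc.mapIso e)) (φ.asFiber q)).symm
  have hs : Algebra.IsSmoothAt p.asIdeal.ResidueField Q.asIdeal :=
    (S2063.result Q.asIdeal).mpr ((le_of_eq (by rw [hrank]; rfl)).trans hQdim.ge)
  have h1 := H17.LocusBC.formallySmooth_stalkMap_comp_iff e.inv.left _ e.inv.right _ e.inv.w.symm Q
  have h2 : e.inv.left Q = φ.asFiber q := by
    show (e.hom.left ≫ e.inv.left) (φ.asFiber q) = φ.asFiber q
    rw [← Arrow.comp_left, e.hom_inv_id]; rfl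
  rw [h2] at h1
  exact h1.mp ((H17.LocusBC.formallySmooth_stalkMap_Spec_iff Q).mpr hs)

variable {X Y : Scheme.{u}}

/-- Over a regular base, free differentials of rank the fibre dimension and the dimension formula imply smoothness. -/
theorem mem_smoothLocus_of_free (f : X ⟶ Y) [LocallyOfFinitePresentation f] {Ω : X.Modules}
    {d : OmegaSh.Der f Ω} (hd : OmegaSh.IsUniversal d) {U : X.Opens} {n : ℕ}
    (e : Ω.restrict U.ι ≅ FlatMod.freeMod (↑U) n) {x : X} (hxU : x ∈ U) [IsLocallyNoetherian Y] (hreg : IsRegularLocalRing (Y.presheaf.stalk (f x)))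
    (hst : ringKrullDim (X.presheaf.stalk x) = ringKrullDim (Y.presheaf.stalk (f x)) + ringKrullDim
      (X.presheaf.stalk x ⧸ (IsLocalRing.maximalIdeal (Y.presheaf.stalk (f x))).map (f.stalkMap x).hom))
    (hdim : FlatMor.fibreDimAt f x = (n : WithBot ℕ∞)) : x ∈ f.smoothLocus := by
  obtain ⟨W, V, hW, hV, hxW, hWU, hWV⟩ := SmoothRank.exists_chart f U hxU
  haveI : IsAffine W := hW
  have h : (⊤ : W.toScheme.Opens) ≤ (W.ι ≫ f) ⁻¹ᵁ V := fun y _ => hWV y.2
  obtain ⟨b⟩ := SmoothRank.exists_basis hd e hW hWU hV h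
  letI := ((W.ι ≫ f).appLE V ⊤ h).hom.toAlgebra
  let φ := Spec.map (CommRingCat.ofHom (algebraMap Γ(Y, V) Γ(W.toScheme, ⊤)))
  let a := (isAffineOpen_top W.toScheme).fromSpec
  have ea : φ ≫ hV.fromSpec = a ≫ W.ι ≫ f :=
    IsAffineOpen.SpecMap_appLE_fromSpec (W.ι ≫ f) hV (isAffineOpen_top W.toScheme) h
  rw [← Category.assoc] at ea
  haveI : LocallyOfFinitePresentation φ := by
    rw [LocallyOfFinitePresentation.SpecMap_iff]
    exact Scheme.Hom.finitePresentation_appLE (W.ι ≫ f) hV (isAffineOpen_top W.toScheme) h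
  let z : W.toScheme := ⟨x, hxW⟩
  let q := (isAffineOpen_top W.toScheme).primeIdealOf ⟨z, trivial⟩
  have hq : (a ≫ W.ι) q = x := by
    show W.ι (a q) = x
    rw [show a q = z from (isAffineOpen_top W.toScheme).fromSpec_primeIdealOf ⟨z, trivial⟩]; rfl
  have h2 : FlatMor.fibreDimAt φ q = (n : WithBot ℕ∞) := by
    rw [← H8Props.FieldDim.fibreDimAt_comp_openImmersion φ hV.fromSpec q, ea,
      H8Props.FieldDim.fibreDimAt_openImmersion_comp (a ≫ W.ι) f q, hq, hdim]
  haveI : IsRegularLocalRing (Y.presheaf.stalk (f ((a ≫ W.ι) q))) := by rw [hq]; exact hreg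
  have h1 : (φ.stalkMap q).hom.Flat := flat_of_chart f (a ≫ W.ι) hV.fromSpec φ ea q inferInstance
    (by rw [hq]; exact hst) (asFiber_mem_smoothLocus_of_basis (R := Γ(Y, V)) (A := Γ(W.toScheme, ⊤)) q b h2)
  have := (H17.LocusBC.formallySmooth_stalkMap_comp_iff (a ≫ W.ι) f hV.fromSpec φ ea q).mp
    (SmoothRank.mem_smoothLocus_of_basis (R := Γ(Y, V)) (A := Γ(W.toScheme, ⊤)) q b h1 h2)
  rw [hq] at this
  exact this

end Groth.Agent.H06Unram.SmoothRegularBase
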