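import Groth.Agent.H17.OmegaStalk

/-! # Formal unramifiedness is stalkwise -/

set_option autoImplicit false
universe u
open CategoryTheory AlgebraicGeometry

namespace Groth.Agent.H06Unram

theorem formallyUnramified_of_stalks {X Y : Scheme.{u}} (f : X ⟶ Y)
    (hs : ∀ x : X, (f.stalkMap x).hom.FormallyUnramified) : FormallyUnramified f := by
  refine ⟨fun {U} hU {V} hV e => ?_⟩
  algebraize [(f.appLE U V e).hom]
  refine Algebra.formallyUnramified_iff_forall.2 fun q => ?_
  have hq := (H17.OmegaStalk.formallyUnramified_stalkMap_iff hV hU e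
    (x := hV.fromSpec q) (hV.range_fromSpec.le (Set.mem_range_self q))).1 (hs _)
  have : hV.primeIdealOf ⟨hV.fromSpec q, hV.range_fromSpec.le (Set.mem_range_self q)⟩ = q :=
    hV.fromSpec.isOpenEmbedding.injective (hV.fromSpec_primeIdealOf _)
  rwa [this] at hq

end Groth.Agent.H06Unram
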